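import Cfsg.Agent.Lib.Linear.UnitaryMax

/-!
# Subgroups of `SU` containing the monomial subgroup of an orthonormal frame: tools
-/

set_option autoImplicit false

namespace Cfsg.Lib.Linear.UDec

open Module
open Cfsg.Lib.Linear Cfsg.Lib.Linear.Herm

variable {F : Type*} [Field F] [Fintype F] {q n : ℕ} (hF : Fintype.card F = q ^ 2)

/-- Coordinates in a frame. -/
noncomputable def cd (e : Fin n → (Fin n → F)) (v : Fin n → F) (i : Fin n) : F := hB hF n (e i) v

/-- An orthonormal frame. -/
def Ortho (e : Fin n → (Fin n → F)) : Prop :=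
  ∀ i j, hB hF n (e i) (e j) = if i = j then 1 else 0

/-- Maps permuting the lines of a frame. -/
def Mono (e : Fin n → (Fin n → F)) (g : (Fin n → F) ≃ₗ[F] (Fin n → F)) : Prop :=
  ∀ i, ∃ (j : Fin n) (c : F), g (e i) = c • e j

/-- `L` lies in `SU` and contains the monomial elements of the frame `e`. -/
structure Over (e : Fin n → (Fin n → F)) (L : Subgroup ((Fin n → F) ≃ₗ[F] (Fin n → F))) : Prop where
  dim : 4 ≤ n
  le : L ≤ tvGroup (hB hF n)
  ortho : Ortho hF e
  mem : ∀ g ∈ tvGroup (hB hF n), Mono e g → g ∈ L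

/-- A transvection in `L`. -/
def Tv (L : Subgroup ((Fin n → F) ≃ₗ[F] (Fin n → F))) (v : Fin n → F) (α : F) : Prop :=
  ∃ h : α + frob hF α + frob hF α * α * hB hF n v v = 0, qrefl v α h ∈ L

variable {e : Fin n → (Fin n → F)} {L : Subgroup ((Fin n → F) ≃ₗ[F] (Fin n → F))}

section coords

theorem cd_add (v w : Fin n → F) (i : Fin n) : cd hF e (v + w) i = cd hF e v i + cd hF e w i :=
  map_add _ _ _

theorem cd_sub (v w : Fin n → F) (i : Fin n) : cd hF e (v - w) i = cd hF e v i - cd hF e w i :=
  map_sub _ _ _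

theorem cd_smul (c : F) (v : Fin n → F) (i : Fin n) : cd hF e (c • v) i = c * cd hF e v i :=
  map_smul (hB hF n (e i)) c v

theorem cd_zero (i : Fin n) : cd hF e 0 i = 0 := map_zero _

variable (he : Ortho hF e)
include he

theorem cd_frame (i j : Fin n) : cd hF e (e j) i = if i = j then 1 else 0 := he i j

theorem cd_sum (c : Fin n → F) (i : Fin n) : cd hF e (∑ j, c j • e j) i = c i := by
  simp only [cd, map_sum, map_smul, he _ _, smul_eq_mul, mul_ite, mul_one, mul_zero,
    Finset.sum_ite_eq, Finset.mem_univ, if_true]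

theorem ne_zero (i : Fin n) : e i ≠ 0 := fun h => by
  have := cd_frame hF he i i
  rw [h, cd_zero, if_pos rfl] at this
  exact zero_ne_one this

theorem expand (v : Fin n → F) : ∑ j, cd hF e v j • e j = v := by
  have hli : LinearIndependent F e := Fintype.linearIndependent_iff.2 fun c hc i => by
    rw [← cd_sum hF he c i, hc, cd_zero]
  have hsp : Submodule.span F (Set.range e) = ⊤ :=
    hli.span_eq_top_of_card_eq_finrank' (by simp)
  obtain ⟨c, rfl⟩ := (Submodule.mem_span_range_iff_exists_fun F).1
    (hsp ▸ Submodule.mem_top : v ∈ Submodule.span F (Set.range e))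
  simp only [cd_sum hF he]

theorem cd_ext {v w : Fin n → F} (h : ∀ i, cd hF e v i = cd hF e w i) : v = w := by
  rw [← expand hF he v, ← expand hF he w]
  simp only [h]

theorem form_eq (v w : Fin n → F) :
    hB hF n v w = ∑ i, frob hF (cd hF e v i) * cd hF e w i := by
  conv_lhs => rw [← expand hF he v]
  simp only [map_sum, LinearMap.sum_apply, LinearMap.map_smulₛₗ, LinearMap.smul_apply, smul_eq_mul]
  rfl

theorem lin_ext {g h : (Fin n → F) ≃ₗ[F] (Fin n → F)} (hgh : ∀ i, g (e i) = h (e i)) : g = h := by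
  refine LinearEquiv.ext fun v => ?_
  rw [← expand hF he v]
  simp only [map_sum, map_smul, hgh]

/-- The diagonal isometry with entries `d`. -/
theorem exists_dg (d : Fin n → F) (hd : ∀ i, frob hF (d i) * d i = 1) :
    ∃ g ∈ iso (hB hF n), (LinearEquiv.det g : F) = ∏ i, d i ∧ ∀ i, g (e i) = d i • e i := by
  suffices H : ∀ s : Finset (Fin n), ∃ g ∈ iso (hB hF n), (LinearEquiv.det g : F) = ∏ i ∈ s, d i ∧
      ∀ i, g (e i) = (if i ∈ s then d i else 1) • e i by
    obtain ⟨g, hg, h1, h2⟩ := H Finset.univ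
    exact ⟨g, hg, h1, fun i => by rw [h2, if_pos (Finset.mem_univ i)]⟩
  intro s
  induction s using Finset.induction with
  | empty => exact ⟨1, one_mem _, by simp, fun i => by simp⟩
  | insert a s ha ih =>
    obtain ⟨g, hg, h1, h2⟩ := ih
    have hl : (d a - 1) + frob hF (d a - 1) +
        frob hF (d a - 1) * (d a - 1) * hB hF n (e a) (e a) = 0 := by
      rw [he a a, if_pos rfl, map_sub, map_one]
      linear_combination hd a
    refine ⟨qrefl (e a) (d a - 1) hl * g, mul_mem (qrefl_mem_iso (hB_isSymm hF n) _ _ hl) hg, ?_,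
      fun i => ?_⟩
    · rw [map_mul, Units.val_mul, det_qrefl, h1, Finset.prod_insert ha, he a a, if_pos rfl]
      ring
    · rw [LinearEquiv.mul_apply, h2, map_smul, qrefl_apply, he a i]
      rcases eq_or_ne i a with rfl | hi
      · rw [if_neg ha, if_pos rfl, if_pos (Finset.mem_insert_self _ _), mul_one, one_smul]
        nth_rw 1 [← one_smul F (e i)]
        rw [← add_smul, add_sub_cancel]
      · rw [if_neg hi.symm, mul_zero, zero_smul, add_zero]
        simp [hi]

theorem cd_dg {g : (Fin n → F) ≃ₗ[F] (Fin n → F)} {d : Fin n → F}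
    (hg : g ∈ iso (hB hF n)) (h : ∀ i, g (e i) = d i • e i) (hd : ∀ i, frob hF (d i) * d i = 1)
    (v : Fin n → F) (i : Fin n) : cd hF e (g v) i = d i * cd hF e v i := by
  have h1 := hg (e i) v
  rw [h i, LinearMap.map_smulₛₗ, LinearMap.smul_apply, smul_eq_mul] at h1
  simp only [cd]
  linear_combination d i * h1 - hB hF n (e i) (g v) * hd i

end coords

namespace Over

variable {hF} (O : Over hF e L)
include O

theorem space : Big.Space (hB hF n) :=
  ⟨frob_ne_id hF, frob_frob hF, hB_isSymm hF n, hB_nondegenerate hF n,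
    by rw [finrank_fin_fun]; have := O.dim; omega⟩

theorem le_iso : L ≤ iso (hB hF n) := fun _ hg => ((Big.mem_tv O.space).1 (O.le hg)).1

theorem mem_of {g : (Fin n → F) ≃ₗ[F] (Fin n → F)} (h : g ∈ iso (hB hF n))
    (hd : (LinearEquiv.det g : F) = 1) (hm : Mono e g) : g ∈ L :=
  O.mem g ((Big.mem_tv O.space).2 ⟨h, Units.ext hd⟩) hm

theorem dg_mem (d : Fin n → F) (hd : ∀ i, frob hF (d i) * d i = 1) (hp : ∏ i, d i = 1) :
    ∃ g ∈ L, (∀ i, g (e i) = d i • e i) ∧ ∀ v i, cd hF e (g v) i = d i * cd hF e v i := by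
  obtain ⟨g, hg, h1, h2⟩ := exists_dg hF O.ortho d hd
  exact ⟨g, O.mem_of hg (h1.trans hp) fun i => ⟨i, d i, h2 i⟩, h2,
    cd_dg hF O.ortho hg h2 hd⟩

/-- A diagonal element with a compensator at `r`. -/
theorem dg_comp (d : Fin n → F) (r : Fin n) (hd : ∀ i, frob hF (d i) * d i = 1) (hr : d r = 1) :
    ∃ g ∈ L, (∀ i, i ≠ r → g (e i) = d i • e i) ∧ (∀ v i, i ≠ r → cd hF e (g v) i = d i * cd hF e v i) ∧
      (∀ v, cd hF e v r = 0 → cd hF e (g v) r = 0) ∧ g (e r) = (∏ i, d i)⁻¹ • e r := by
  classical
  have hne : ∀ i, d i ≠ 0 := fun i h => by simpa [h] using hd i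
  have hP : frob hF (∏ i, d i) * ∏ i, d i = 1 := by
    rw [map_prod, ← Finset.prod_mul_distrib]; simp [hd]
  have hd' : ∀ i, frob hF (Function.update d r (∏ j, d j)⁻¹ i) *
      Function.update d r (∏ j, d j)⁻¹ i = 1 := by
    intro i
    rcases eq_or_ne i r with rfl | hi
    · rw [Function.update_self, map_inv₀, ← mul_inv, hP, inv_one]
    · rw [Function.update_of_ne hi]; exact hd i
  obtain ⟨g, hg, h1, h2⟩ := O.dg_mem _ hd' (by
    rw [Finset.prod_update_of_mem (Finset.mem_univ r)]
    have : ∏ i ∈ Finset.univ \ {r}, d i = ∏ i, d i := by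
      rw [← Finset.prod_sdiff (Finset.subset_univ {r}), Finset.prod_singleton, hr, mul_one]
    rw [this, inv_mul_cancel₀ (Finset.prod_ne_zero_iff.2 fun i _ => hne i)])
  refine ⟨g, hg, fun i hi => ?_, fun v i hi => ?_, fun v hv => ?_, ?_⟩
  · rw [h1, Function.update_of_ne hi]
  · rw [h2, Function.update_of_ne hi]
  · rw [h2, hv, mul_zero]
  · rw [h1, Function.update_self]

theorem exists_other (s : Finset (Fin n)) (h : s.card < 4) : ∃ r, r ∉ s := by
  obtain ⟨r, -, hr⟩ := Finset.exists_mem_notMem_of_card_lt_card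
    (show s.card < (Finset.univ : Finset (Fin n)).card by
      rw [Finset.card_univ, Fintype.card_fin]; have := O.dim; omega)
  exact ⟨r, hr⟩

omit O in
theorem exists_other' (s : Finset (Fin n)) (h : s.card < n) : ∃ r, r ∉ s := by
  obtain ⟨r, -, hr⟩ := Finset.exists_mem_notMem_of_card_lt_card
    (show s.card < (Finset.univ : Finset (Fin n)).card by rwa [Finset.card_univ, Fintype.card_fin])
  exact ⟨r, hr⟩

theorem tv_map {g : (Fin n → F) ≃ₗ[F] (Fin n → F)} (hg : g ∈ L) {v : Fin n → F} {α : F}
    (h : Tv hF L v α) : Tv hF L (g v) α := by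
  obtain ⟨h, hm⟩ := h
  refine ⟨by rwa [O.le_iso hg v v], ?_⟩
  rw [← qrefl_conj (O.le_iso hg) v α h]
  exact mul_mem (mul_mem hg hm) (inv_mem hg)

/-- Swapping two frame vectors up to a phase, with a compensator. -/
theorem swap_mem {i j r : Fin n} (hij : i ≠ j) (hir : i ≠ r) (hjr : j ≠ r) {c : F}
    (hc : frob hF c * c = 1) :
    ∃ g ∈ L, g (e i) = c • e j ∧ g (e j) = frob hF c • e i ∧ g (e r) = -e r ∧
      ∀ k, k ≠ i → k ≠ j → k ≠ r → g (e k) = e k := by
  set w := e i - c • e j with hw
  have hwk : ∀ k, hB hF n w (e k) = (if i = k then 1 else 0) - frob hF c * if j = k then 1 else 0 := by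
    intro k
    rw [hw, map_sub, LinearMap.sub_apply, LinearMap.map_smulₛₗ, LinearMap.smul_apply, smul_eq_mul,
      O.ortho i k, O.ortho j k]
  have hww : hB hF n w w = 2 := by
    conv_lhs => arg 2; rw [hw]
    rw [map_sub, map_smul, hwk, hwk, smul_eq_mul, if_pos rfl, if_neg hij.symm, if_neg hij, if_pos rfl]
    linear_combination hc
  have h1 : (-1 : F) + frob hF (-1) + frob hF (-1) * (-1) * hB hF n w w = 0 := by
    rw [hww, map_neg, map_one]; ring
  have h2 : (-2 : F) + frob hF (-2) + frob hF (-2) * (-2) * hB hF n (e r) (e r) = 0 := by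
    rw [O.ortho r r, if_pos rfl, map_neg, map_ofNat]; ring
  set g := qrefl w (-1) h1 * qrefl (e r) (-2) h2 with hg
  have key : ∀ k, g (e k) = if k = r then -e r else
      e k - ((if i = k then 1 else 0) - frob hF c * if j = k then 1 else 0) • w := by
    intro k
    rw [hg, LinearEquiv.mul_apply, qrefl_apply (e r) (-2) h2, O.ortho r k]
    rcases eq_or_ne k r with rfl | hk
    · rw [if_pos rfl, if_pos rfl, mul_one, map_add, map_smul, qrefl_apply, hwk, if_neg hir,
        if_neg hjr]
      simp only [mul_zero, sub_zero, zero_smul, add_zero]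
      rw [show e k + (-2 : F) • e k = ((1 : F) + -2) • e k by rw [add_smul, one_smul],
        show (1 : F) + -2 = -1 by ring, neg_one_smul]
    · rw [if_neg hk.symm, mul_zero, zero_smul, add_zero, qrefl_apply, hwk, if_neg hk]
      rw [neg_one_mul, neg_smul]
      exact (sub_eq_add_neg _ _).symm
  have e1 : g (e i) = c • e j := by
    rw [key, if_neg hir, if_pos rfl, if_neg hij.symm, mul_zero, sub_zero, one_smul, hw,
      sub_sub_cancel]
  have e2 : g (e j) = frob hF c • e i := by
    rw [key, if_neg hjr, if_neg hij, if_pos rfl, mul_one, zero_sub, neg_smul, sub_neg_eq_add, hw,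
      smul_sub, smul_smul, hc, one_smul, add_sub_cancel]
  have e3 : ∀ k, k ≠ i → k ≠ j → k ≠ r → g (e k) = e k := fun k a b c' => by
    rw [key, if_neg c', if_neg a.symm, if_neg b.symm]; simp
  refine ⟨g, O.mem_of (mul_mem (qrefl_mem_iso (hB_isSymm hF n) _ _ h1)
    (qrefl_mem_iso (hB_isSymm hF n) _ _ h2)) ?_ (fun k => ?_), e1, e2,
    by rw [key, if_pos rfl], e3⟩
  · rw [hg, map_mul, Units.val_mul, det_qrefl, det_qrefl, hww, O.ortho r r, if_pos rfl]
    ring
  · rcases eq_or_ne k i with rfl | hki
    · exact ⟨j, c, e1⟩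
    rcases eq_or_ne k j with rfl | hkj
    · exact ⟨i, frob hF c, e2⟩
    rcases eq_or_ne k r with rfl | hkr
    · exact ⟨k, -1, by rw [key, if_pos rfl, neg_one_smul]⟩
    · exact ⟨k, 1, by rw [e3 k hki hkj hkr, one_smul]⟩

end Over

section tv

theorem tv_apply_iso {v : Fin n → F} {α : F} (h : α + frob hF α + frob hF α * α * hB hF n v v = 0)
    (x : Fin n → F) (i : Fin n) :
    cd hF e (qrefl v α h x) i = cd hF e x i + α * hB hF n v x * cd hF e v i := by
  rw [qrefl_apply, cd_add, cd_smul]

theorem tv_trace {v : Fin n → F} {α : F} (hv : hB hF n v v = 0) (h : Tv hF L v α) :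
    α + frob hF α = 0 := by
  obtain ⟨h, -⟩ := h
  simpa [hv] using h

theorem tv_zero (v : Fin n → F) : Tv hF L v 0 := by
  refine ⟨by simp, ?_⟩
  convert one_mem L
  exact LinearEquiv.ext fun x => by rw [qrefl_apply, zero_mul, zero_smul, add_zero]; rfl

theorem tv_add {v : Fin n → F} (hv : hB hF n v v = 0) {α β : F} (ha : Tv hF L v α) (hb : Tv hF L v β) :
    Tv hF L v (α + β) := by
  obtain ⟨h, hm⟩ := ha
  obtain ⟨h', hm'⟩ := hb
  refine ⟨by rw [hv, mul_zero, add_zero] at h h' ⊢; rw [map_add]; linear_combination h + h', ?_⟩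
  convert mul_mem hm hm'
  refine LinearEquiv.ext fun x => ?_
  rw [LinearEquiv.mul_apply, qrefl_apply, qrefl_apply, qrefl_apply, map_add, map_smul, hv,
    smul_zero, add_zero, add_mul, add_smul]
  abel

theorem tv_neg {v : Fin n → F} (hv : hB hF n v v = 0) {α : F} (ha : Tv hF L v α) :
    Tv hF L v (-α) := by
  obtain ⟨h, hm⟩ := ha
  refine ⟨by rw [hv, mul_zero, add_zero] at h ⊢; rw [map_neg]; linear_combination -h, ?_⟩
  convert inv_mem hm
  refine eq_inv_of_mul_eq_one_left (LinearEquiv.ext fun x => ?_)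
  rw [LinearEquiv.mul_apply, qrefl_apply, qrefl_apply, map_add, map_smul, hv, smul_zero, add_zero,
    neg_mul, neg_smul]
  simp

theorem tv_smul {v : Fin n → F} {c α : F} (h : Tv hF L (c • v) α) (hv : hB hF n v v = 0) :
    Tv hF L v (α * (frob hF c * c)) := by
  obtain ⟨h, hm⟩ := h
  have h0 : α + frob hF α = 0 := by simpa [LinearMap.map_smulₛₗ, hv] using h
  refine ⟨by rw [hv, mul_zero, add_zero, map_mul, map_mul, frob_frob]
             linear_combination (frob hF c * c) * h0, ?_⟩
  convert hm using 1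
  refine LinearEquiv.ext fun x => ?_
  rw [qrefl_apply, qrefl_apply, LinearMap.map_smulₛₗ, LinearMap.smul_apply, smul_eq_mul, smul_smul]
  congr 2
  ring

theorem centre_iff {v : Fin n → F} (hv : hB hF n v v = 0) :
    UMax.Centre hF L v ↔ ∀ α : F, α + frob hF α = 0 → Tv hF L v α := by
  constructor
  · intro h α hα
    exact ⟨by rw [hv, mul_zero, add_zero]; exact hα, h α _⟩
  · intro h α hl
    obtain ⟨_, hm⟩ := h α (by simpa [hv] using hl)
    exact hm

end tv

section field

open scoped Classical in
/-- The fixed field of the involution. -/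
noncomputable def fixedSet : Finset F := {x | frob hF x = x}

open scoped Classical in
/-- The elements of trace zero. -/
noncomputable def traceZero : Finset F := {x | x + frob hF x = 0}

open scoped Classical in
/-- The elements of norm one. -/
noncomputable def normOne : Finset F := {x | frob hF x * x = 1}

theorem mem_fixed {x : F} : x ∈ fixedSet hF ↔ frob hF x = x := by simp [fixedSet]

theorem mem_traceZero {x : F} : x ∈ traceZero hF ↔ x + frob hF x = 0 := by simp [traceZero]

theorem mem_normOne {x : F} : x ∈ normOne hF ↔ frob hF x * x = 1 := by simp [normOne]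

theorem card_fixed_le : (fixedSet hF).card ≤ q := by
  classical
  have hq := two_le_q hF
  have h0 : (Polynomial.X ^ q - Polynomial.X : Polynomial F) ≠ 0 :=
    FiniteField.X_pow_card_sub_X_ne_zero F (by omega)
  have : fixedSet hF ⊆ (Polynomial.X ^ q - Polynomial.X : Polynomial F).roots.toFinset := fun x hx => by
    rw [mem_fixed, frob_apply] at hx
    rw [Multiset.mem_toFinset, Polynomial.mem_roots h0]
    simp [Polynomial.IsRoot.def, hx]
  exact (Finset.card_le_card this).trans ((Multiset.toFinset_card_le _).trans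
    ((Polynomial.card_roots' _).trans_eq (FiniteField.X_pow_card_sub_X_natDegree_eq F (by omega))))

theorem le_card_traceZero : q ≤ (traceZero hF).card := by
  classical
  have hq := two_le_q hF
  have h : Fintype.card F ≤ (traceZero hF).card * (fixedSet hF).card := by
    rw [← Finset.card_univ]
    refine Finset.card_le_mul_card_image_of_maps_to (f := fun x => x + frob hF x)
      (fun x _ => by rw [mem_fixed, map_add, frob_frob, add_comm]) _ (fun y hy => ?_)
    rcases Finset.eq_empty_or_nonempty ((Finset.univ : Finset F).filter fun x => x + frob hF x = y)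
      with h0 | ⟨x₀, hx₀⟩
    · simp [h0]
    refine Finset.card_le_card_of_injOn (fun x => x - x₀) (fun x hx => ?_)
      (fun a _ b _ h => sub_left_injective h)
    simp only [Finset.coe_filter, Finset.mem_univ, true_and, Set.mem_setOf_eq] at hx
    simp only [Finset.mem_filter, Finset.mem_univ, true_and] at hx₀
    rw [Finset.mem_coe, mem_traceZero, map_sub]
    linear_combination hx - hx₀
  have h2 := h.trans (Nat.mul_le_mul_left _ (card_fixed_le hF))
  rw [hF, pow_two] at h2
  exact Nat.le_of_mul_le_mul_right h2 (by omega)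

theorem card_normOne : (normOne hF).card = q + 1 := by
  classical
  rw [← card_norm_eq hF (one_ne_zero (α := F)) (one_pow q), Nat.card_eq_fintype_card,
    Fintype.card_subtype]
  congr 1
  ext x
  simp [mem_normOne, frob_apply, pow_succ]

theorem natCast_q_eq_zero' (hF : Fintype.card F = q ^ 2) : (q : F) = 0 := by
  have h := Nat.cast_card_eq_zero F
  rw [hF, Nat.cast_pow] at h
  exact pow_eq_zero_iff two_ne_zero |>.1 h

/-- An element of norm one outside a set with fewer elements. -/
theorem exists_normOne (s : Finset F) (h : s.card < q + 1) :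
    ∃ x : F, frob hF x * x = 1 ∧ x ∉ s := by
  obtain ⟨x, hx, hxs⟩ := Finset.exists_mem_notMem_of_card_lt_card (t := normOne hF) (s := s)
    (by rwa [card_normOne hF])
  exact ⟨x, (mem_normOne hF).1 hx, hxs⟩

open scoped Classical in
/-- A non-degenerate affine function of real degree one takes each value at most twice on the circle. -/
theorem card_fibre_le (k : F) {b : F} (hb : b ≠ 0) (y : F) :
    ((normOne hF).filter fun z => k + b * z + frob hF b * frob hF z = y).card ≤ 2 := by
  classical
  by_contra hc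
  push Not at hc
  obtain ⟨z₁, h₁, z₂, h₂, z₃, h₃, h12, h13, h23⟩ := Finset.two_lt_card.1 hc
  simp only [Finset.mem_filter, mem_normOne] at h₁ h₂ h₃
  have key : ∀ {z w : F}, frob hF z * z = 1 → frob hF w * w = 1 →
      k + b * z + frob hF b * frob hF z = y → k + b * w + frob hF b * frob hF w = y → z ≠ w →
      b * (z * w) = frob hF b := by
    intro z w hz hw e1 e2 hne
    refine mul_left_cancel₀ (sub_ne_zero.2 hne) ?_
    linear_combination (z * w) * e1 - (z * w) * e2 + (-frob hF b * w) * hz + (frob hF b * z) * hw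
  have e12 := key h₁.1 h₂.1 h₁.2 h₂.2 h12
  have e13 := key h₁.1 h₃.1 h₁.2 h₃.2 h13
  have hz : z₁ ≠ 0 := fun h => by simp [h] at h₁
  exact h23 (mul_left_cancel₀ hz (mul_left_cancel₀ hb (e12.trans e13.symm)))

open scoped Classical in
/-- So it takes at least `(q + 1) / 2` values. -/
theorem card_values (k : F) {b : F} (hb : b ≠ 0) :
    q + 1 ≤ 2 * ((normOne hF).image fun z => k + b * z + frob hF b * frob hF z).card := by
  classical
  rw [← card_normOne hF]
  exact Finset.card_le_mul_card_image _ 2 fun y _ => card_fibre_le hF k hb y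

open scoped Classical in
/-- Squares of trace zero elements. -/
theorem card_squares : q + 1 ≤ 2 * ((traceZero hF).image fun x => x * x).card := by
  classical
  have h0 : (0 : F) ∈ traceZero hF := by simp [mem_traceZero]
  have hsub : ((traceZero hF).erase 0).image (fun x => x * x) ⊆
      ((traceZero hF).image fun x => x * x).erase 0 := by
    intro y hy
    obtain ⟨x, hx, rfl⟩ := Finset.mem_image.1 hy
    exact Finset.mem_erase.2 ⟨mul_self_ne_zero.2 (Finset.ne_of_mem_erase hx),
      Finset.mem_image.2 ⟨x, Finset.mem_of_mem_erase hx, rfl⟩⟩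
  have h1 : ((traceZero hF).erase 0).card ≤ 2 * (((traceZero hF).erase 0).image fun x => x * x).card :=
    Finset.card_le_mul_card_image _ 2 fun y _ => by
      by_contra hc
      push Not at hc
      obtain ⟨a, ha, b, hb, c, hc', hab, hac, hbc⟩ := Finset.two_lt_card.1 hc
      simp only [Finset.mem_filter] at ha hb hc'
      rcases mul_self_eq_mul_self_iff.1 (hb.2.trans ha.2.symm) with h | h
      · exact hab h.symm
      rcases mul_self_eq_mul_self_iff.1 (hc'.2.trans ha.2.symm) with h' | h'
      · exact hac h'.symm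
      exact hbc (h.trans h'.symm)
  have h2 := Finset.card_le_card hsub
  have h3 := Finset.card_erase_add_one (Finset.mem_image.2 ⟨0, h0, mul_zero 0⟩ :
    (0 : F) ∈ (traceZero hF).image fun x => x * x)
  have h4 := Finset.card_erase_add_one h0
  have h5 := le_card_traceZero hF
  omega

end field

end Cfsg.Lib.Linear.UDec
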