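import Cfsg.Agent.Lib.Linear.UDec.Basic

/-!
# Overgroups of the stabiliser of an orthogonal decomposition into blocks of dimension at least two
-/

set_option autoImplicit false

namespace Cfsg.Lib.Linear.UDec

open Module
open Cfsg.Lib.Linear Cfsg.Lib.Linear.Herm

variable {F : Type*} [Field F] [Fintype F] {q n t : ℕ}

/-- The maps sending each block into some block. -/
def PermBlocks (D : Fin t → Submodule F (Fin n → F)) (g : (Fin n → F) ≃ₗ[F] (Fin n → F)) : Prop :=
  ∀ i, ∃ j, ∀ v ∈ D i, g v ∈ D j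

/-- `L` lies in `SU` and contains the stabiliser of the decomposition `D`. -/
structure Blk (hF : Fintype.card F = q ^ 2) (D : Fin t → Submodule F (Fin n → F)) (k : ℕ)
    (L : Subgroup ((Fin n → F) ≃ₗ[F] (Fin n → F))) : Prop where
  dim : 4 ≤ n
  le : L ≤ tvGroup (hB hF n)
  two_le : 2 ≤ k
  rank : ∀ i, finrank F (D i) = k
  orth : ∀ i j, i ≠ j → ∀ u ∈ D i, ∀ v ∈ D j, hB hF n u v = 0
  nd : ∀ i, ∀ w ∈ D i, (∀ x ∈ D i, hB hF n x w = 0) → w = 0
  top : iSup D = ⊤
  small : k = 2 → q ≠ 2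
  mem : ∀ g ∈ tvGroup (hB hF n), PermBlocks D g → g ∈ L

variable {hF : Fintype.card F = q ^ 2}

theorem self_fixed' (v : Fin n → F) : frob hF (hB hF n v v) = hB hF n v v := (hB_isSymm hF n).eq v v

theorem form_symm (u v : Fin n → F) : hB hF n v u = frob hF (hB hF n u v) :=
  ((hB_isSymm hF n).eq u v).symm

/-- An anisotropic vector in a non-zero non-degenerate subspace. -/
theorem exists_aniso {W : Submodule F (Fin n → F)}
    (hnd : ∀ w ∈ W, (∀ x ∈ W, hB hF n x w = 0) → w = 0) (hW : W ≠ ⊥) :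
    ∃ a ∈ W, hB hF n a a ≠ 0 := by
  by_contra hc
  push Not at hc
  obtain ⟨w, hw, hw0⟩ := Submodule.exists_mem_ne_zero_of_ne_bot hW
  refine hw0 (hnd w hw fun x hx => ?_)
  obtain ⟨c, hc'⟩ : ∃ c : F, frob hF c ≠ c := by
    by_contra h; push Not at h; exact frob_ne_id hF (RingHom.ext h)
  have h1 := hc (x + w) (W.add_mem hx hw)
  have h2 := hc (c • x + w) (W.add_mem (W.smul_mem c hx) hw)
  simp only [map_add, LinearMap.add_apply, map_smul, LinearMap.map_smulₛₗ, LinearMap.smul_apply,
    smul_eq_mul, RingHom.id_apply, hc x hx, hc w hw, mul_zero, add_zero, zero_add] at h1 h2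
  have h3 : (frob hF c - c) * hB hF n x w = 0 := by linear_combination h2 - c * h1
  exact (mul_eq_zero.1 h3).resolve_left (sub_ne_zero.2 hc')

/-- An orthonormal basis of a non-degenerate subspace. -/
theorem exists_basis : ∀ (k : ℕ) (W : Submodule F (Fin n → F)),
    (∀ w ∈ W, (∀ x ∈ W, hB hF n x w = 0) → w = 0) → finrank F W = k →
    ∃ b : Fin k → (Fin n → F), (∀ a, b a ∈ W) ∧ (∀ a c, hB hF n (b a) (b c) = if a = c then 1 else 0) ∧
      ∀ v ∈ W, v = ∑ a, hB hF n (b a) v • b a
  | 0, W, _, hk => by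
    refine ⟨Fin.elim0, fun a => a.elim0, fun a => a.elim0, fun v hv => ?_⟩
    rw [Submodule.finrank_eq_zero.1 hk, Submodule.mem_bot] at hv
    simp [hv]
  | k + 1, W, hnd, hk => by
    have hW : W ≠ ⊥ := fun h => by rw [h, finrank_bot] at hk; omega
    obtain ⟨a₀, ha₀, haa⟩ := exists_aniso hnd hW
    obtain ⟨c, hc⟩ := exists_norm_fixed (frob_ne_id hF) (frob_frob hF) (inv_ne_zero haa)
      (by rw [map_inv₀, self_fixed'])
    set a := c • a₀ with ha
    have haW : a ∈ W := W.smul_mem c ha₀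
    have h1 : hB hF n a a = 1 := by
      rw [ha, map_smul, LinearMap.map_smulₛₗ, LinearMap.smul_apply, smul_eq_mul, smul_eq_mul,
        ← mul_assoc, mul_comm c, hc, inv_mul_cancel₀ haa]
    set W' := W ⊓ LinearMap.ker (hB hF n a) with hW'
    have hnd' : ∀ w ∈ W', (∀ x ∈ W', hB hF n x w = 0) → w = 0 := by
      intro w hw h
      refine hnd w hw.1 fun x hx => ?_
      have hw2 : hB hF n a w = 0 := hw.2
      have := h (x - hB hF n a x • a) ⟨W.sub_mem hx (W.smul_mem _ haW), by
        show hB hF n a _ = 0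
        rw [map_sub, (hB hF n a).map_smul, h1, smul_eq_mul, mul_one, sub_self]⟩
      simpa [hw2] using this
    have hk' : finrank F W' = k := by
      have hsup : Submodule.span F {a} ⊔ W' = W := by
        refine le_antisymm (sup_le ((Submodule.span_singleton_le_iff_mem _ _).2 haW) inf_le_left)
          fun x hx => ?_
        rw [← add_sub_cancel (hB hF n a x • a) x]
        refine Submodule.add_mem_sup (Submodule.smul_mem _ _ (Submodule.mem_span_singleton_self a))
          ⟨W.sub_mem hx (W.smul_mem _ haW), ?_⟩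
        show hB hF n a _ = 0
        rw [map_sub, (hB hF n a).map_smul, h1, smul_eq_mul, mul_one, sub_self]
      have hinf : Submodule.span F {a} ⊓ W' = ⊥ := by
        rw [Submodule.eq_bot_iff]
        rintro x ⟨hx1, -, hx2⟩
        obtain ⟨r, rfl⟩ := Submodule.mem_span_singleton.1 hx1
        have hx2' : hB hF n a (r • a) = 0 := hx2
        rw [map_smul, h1, smul_eq_mul, mul_one] at hx2'
        rw [hx2', zero_smul]
      have := Submodule.finrank_sup_add_finrank_inf_eq (Submodule.span F {a}) W'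
      rw [hsup, hinf, finrank_bot, hk, finrank_span_singleton (fun h => by simp [h] at h1)] at this
      omega
    obtain ⟨b, hb1, hb2, hb3⟩ := exists_basis k W' hnd' hk'
    have hab : ∀ i, hB hF n a (b i) = 0 := fun i => (hb1 i).2
    refine ⟨Fin.cons a b, fun i => ?_, fun i j => ?_, fun v hv => ?_⟩
    · refine Fin.cases ?_ (fun i => ?_) i
      · simpa using haW
      · simpa using (hb1 i).1
    · refine Fin.cases ?_ (fun i => ?_) i <;> refine Fin.cases ?_ (fun j => ?_) j
      · simpa using h1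
      · rw [Fin.cons_zero, Fin.cons_succ, hab j, if_neg (Fin.succ_ne_zero j).symm]
      · rw [Fin.cons_zero, Fin.cons_succ, hB_symm_zero hF (hab i), if_neg (Fin.succ_ne_zero i)]
      · simp [hb2]
    · rw [Fin.sum_univ_succ]
      simp only [Fin.cons_zero, Fin.cons_succ]
      have hmem : v - hB hF n a v • a ∈ W' := ⟨W.sub_mem hv (W.smul_mem _ haW), by
        show hB hF n a _ = 0
        rw [map_sub, (hB hF n a).map_smul, h1, smul_eq_mul, mul_one, sub_self]⟩
      have h := hb3 _ hmem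
      have hsum : ∑ i, hB hF n (b i) (v - hB hF n a v • a) • b i = ∑ i, hB hF n (b i) v • b i :=
        Finset.sum_congr rfl fun i _ => by
          rw [map_sub, map_smul, hB_symm_zero hF (hab i), smul_zero, sub_zero]
      rw [hsum] at h
      rw [← h, add_sub_cancel]

omit [Fintype F] in
theorem parts_aux {D : Fin t → Submodule F (Fin n → F)} (h : iSup D = ⊤) (v : Fin n → F) :
    ∃ f : Fin t → (Fin n → F), (∀ i, f i ∈ D i) ∧ v = ∑ i, f i := by
  obtain ⟨f, hf, hv⟩ := (Submodule.mem_iSup_iff_exists_finsupp D v).1 (h ▸ Submodule.mem_top)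
  refine ⟨f, hf, ?_⟩
  rw [← hv, Finsupp.sum_fintype]
  intro i
  rfl

namespace Blk

variable {D : Fin t → Submodule F (Fin n → F)} {k : ℕ} {L : Subgroup ((Fin n → F) ≃ₗ[F] (Fin n → F))}
  (X : Blk hF D k L)
include X

theorem space : Big.Space (hB hF n) :=
  ⟨frob_ne_id hF, frob_frob hF, hB_isSymm hF n, hB_nondegenerate hF n,
    by rw [finrank_fin_fun]; have := X.dim; omega⟩

theorem le_iso : L ≤ iso (hB hF n) := fun _ hg => ((Big.mem_tv X.space).1 (X.le hg)).1

/-- The component in a block. -/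
noncomputable def pr (v : Fin n → F) (i : Fin t) : Fin n → F := (parts_aux X.top v).choose i

theorem pr_mem (v : Fin n → F) (i : Fin t) : X.pr v i ∈ D i := (parts_aux X.top v).choose_spec.1 i

theorem sum_pr (v : Fin n → F) : ∑ i, X.pr v i = v := (parts_aux X.top v).choose_spec.2.symm

theorem form_sum {f : Fin t → (Fin n → F)} (hf : ∀ i, f i ∈ D i) {i : Fin t} {x : Fin n → F}
    (hx : x ∈ D i) : hB hF n x (∑ j, f j) = hB hF n x (f i) := by
  rw [map_sum, Finset.sum_eq_single i (fun j _ hj => X.orth i j hj.symm x hx _ (hf j))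
    (fun h => absurd (Finset.mem_univ i) h)]

theorem form_pr {v x : Fin n → F} {i : Fin t} (hx : x ∈ D i) :
    hB hF n x v = hB hF n x (X.pr v i) := by
  conv_lhs => rw [← X.sum_pr v]
  exact X.form_sum (X.pr_mem v) hx

theorem pr_eq {v y : Fin n → F} {i : Fin t} (hy : y ∈ D i)
    (h : ∀ x ∈ D i, hB hF n x v = hB hF n x y) : X.pr v i = y := by
  refine sub_eq_zero.1 (X.nd i _ ((D i).sub_mem (X.pr_mem v i) hy) fun x hx => ?_)
  rw [map_sub, ← X.form_pr hx, h x hx, sub_self]

theorem pr_add (v w : Fin n → F) (i : Fin t) : X.pr (v + w) i = X.pr v i + X.pr w i :=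
  X.pr_eq ((D i).add_mem (X.pr_mem v i) (X.pr_mem w i)) fun x hx => by
    rw [map_add, map_add, ← X.form_pr hx, ← X.form_pr hx]

theorem pr_smul (c : F) (v : Fin n → F) (i : Fin t) : X.pr (c • v) i = c • X.pr v i :=
  X.pr_eq ((D i).smul_mem c (X.pr_mem v i)) fun x hx => by
    rw [map_smul, map_smul, ← X.form_pr hx]

theorem pr_same {v : Fin n → F} {i : Fin t} (hv : v ∈ D i) : X.pr v i = v :=
  X.pr_eq hv fun _ _ => rfl

theorem pr_other {v : Fin n → F} {i j : Fin t} (hv : v ∈ D i) (hij : i ≠ j) : X.pr v j = 0 :=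
  X.pr_eq (D j).zero_mem fun x hx => by rw [map_zero, X.orth j i hij.symm x hx v hv]

theorem form_self (v : Fin n → F) : hB hF n v v = ∑ i, hB hF n (X.pr v i) (X.pr v i) := by
  conv_lhs => arg 2; rw [← X.sum_pr v]
  rw [map_sum]
  refine Finset.sum_congr rfl fun i _ => ?_
  rw [form_symm (X.pr v i) v, X.form_pr (X.pr_mem v i), self_fixed']

/-- The perp of a block contains the other blocks, and the perp of that is the block. -/
theorem mem_perp {i j : Fin t} (h : j ≠ i) {x : Fin n → F} (hx : x ∈ D j) : x ∈ perp hF (D i) :=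
  fun y hy => X.orth i j h.symm y hy x hx

theorem mem_of_perm {g : (Fin n → F) ≃ₗ[F] (Fin n → F)} (h : g ∈ iso (hB hF n))
    (hd : (LinearEquiv.det g : F) = 1) (hp : PermBlocks D g) : g ∈ L :=
  X.mem g ((Big.mem_tv X.space).2 ⟨h, Units.ext hd⟩) hp

theorem qrefl_pres {i : Fin t} {w : Fin n → F} (hw : w ∈ D i) (l : F)
    (h : l + frob hF l + frob hF l * l * hB hF n w w = 0) (j : Fin t) {v : Fin n → F} (hv : v ∈ D j) :
    qrefl w l h v ∈ D j := by
  rw [qrefl_apply]
  rcases eq_or_ne i j with rfl | hij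
  · exact (D i).add_mem hv ((D i).smul_mem _ hw)
  · rw [X.orth i j hij w hw v hv, mul_zero, zero_smul, add_zero]; exact hv

theorem centre_block {i : Fin t} {z : Fin n → F} (hz : z ∈ D i) (hzz : hB hF n z z = 0) :
    UMax.Centre hF L z := fun l h =>
  X.mem _ (Subgroup.subset_closure ⟨z, l, h, hzz, rfl⟩) fun j => ⟨j, fun _ hv => X.qrefl_pres hz l h j hv⟩

theorem det_norm {g : (Fin n → F) ≃ₗ[F] (Fin n → F)} (hg : g ∈ iso (hB hF n)) :
    frob hF (LinearEquiv.det g : F) * (LinearEquiv.det g : F) = 1 := by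
  rw [iso_eq_qreflGroup (frob_ne_id hF) (frob_frob hF) (hB_isSymm hF n) (hB_nondegenerate hF n)] at hg
  induction hg using Subgroup.closure_induction with
  | mem x hx =>
    obtain ⟨w, l, h, rfl⟩ := hx
    rw [det_qrefl, map_add, map_one, map_mul, self_fixed']
    linear_combination (hB hF n w w) * h
  | one => simp
  | mul x y _ _ hx hy =>
    rw [map_mul, Units.val_mul, map_mul, mul_mul_mul_comm, hx, hy, one_mul]
  | inv x _ hx =>
    rw [map_inv, Units.val_inv_eq_inv_val, map_inv₀, ← mul_inv, hx, inv_one]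

/-- An anisotropic vector of a block perpendicular to a given one. -/
theorem exists_perp_aniso {i : Fin t} {x : Fin n → F} (hx : x ∈ D i) (hxx : hB hF n x x ≠ 0) :
    ∃ e ∈ D i, hB hF n x e = 0 ∧ hB hF n e e ≠ 0 := by
  set W := D i ⊓ LinearMap.ker (hB hF n x)
  have proj : ∀ y ∈ D i, y - (hB hF n x y / hB hF n x x) • x ∈ W := fun y hy =>
    ⟨(D i).sub_mem hy ((D i).smul_mem _ hx), by
      show hB hF n x _ = 0
      rw [map_sub, map_smul, smul_eq_mul, div_mul_cancel₀ _ hxx, sub_self]⟩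
  have hW : W ≠ ⊥ := by
    intro h
    have hle : D i ≤ Submodule.span F {x} := fun y hy => by
      have := proj y hy
      rw [h, Submodule.mem_bot, sub_eq_zero] at this
      rw [this]
      exact Submodule.smul_mem _ _ (Submodule.mem_span_singleton_self x)
    have h1 := Submodule.finrank_mono hle
    rw [X.rank, finrank_span_singleton (fun h0 : x = 0 => hxx (by rw [h0]; simp))] at h1
    have := X.two_le
    omega
  obtain ⟨e, he, hee⟩ := exists_aniso (hF := hF) (W := W) (fun w hw h => X.nd i w hw.1 fun y hy => by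
    have h1 : hB hF n _ w = 0 := h _ (proj y hy)
    have hw2 : hB hF n x w = 0 := hw.2
    simpa [hw2] using h1) hW
  exact ⟨e, he.1, he.2, hee⟩

/-- A hyperbolic partner inside a block. -/
theorem exists_partner {i : Fin t} {x : Fin n → F} (hx : x ∈ D i) (hx0 : x ≠ 0)
    (hxx : hB hF n x x = 0) : ∃ f ∈ D i, hB hF n x f = 1 ∧ hB hF n f f = 0 := by
  obtain ⟨y, hy, hxy⟩ : ∃ y ∈ D i, hB hF n x y ≠ 0 := by
    by_contra h
    push Not at h
    exact hx0 (X.nd i x hx fun y hy => hB_symm_zero hF (h y hy))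
  have h1 : hB hF n x ((hB hF n x y)⁻¹ • y) = 1 := by rw [map_smul, smul_eq_mul, inv_mul_cancel₀ hxy]
  obtain ⟨s, hs⟩ := Big.adjust X.space hxx h1
  exact ⟨_, (D i).add_mem ((D i).smul_mem _ hy) ((D i).smul_mem _ hx),
    by rw [map_add, map_smul _ s, h1, hxx, smul_zero, add_zero], hs⟩

/-- For `k ≥ 3`, an anisotropic vector perpendicular to an isotropic one. -/
theorem exists_perp_aniso_three (hk : 3 ≤ k) {i : Fin t} {x f : Fin n → F} (hx : x ∈ D i) (hf : f ∈ D i)
    (hxx : hB hF n x x = 0) (hxf : hB hF n x f = 1) (hff : hB hF n f f = 0) :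
    ∃ e ∈ D i, hB hF n x e = 0 ∧ hB hF n e e ≠ 0 := by
  have hfx : hB hF n f x = 1 := by rw [form_symm x f, hxf, map_one]
  set W := D i ⊓ (LinearMap.ker (hB hF n x) ⊓ LinearMap.ker (hB hF n f))
  have proj : ∀ y ∈ D i, y - hB hF n x y • f - hB hF n f y • x ∈ W := fun y hy =>
    ⟨(D i).sub_mem ((D i).sub_mem hy ((D i).smul_mem _ hf)) ((D i).smul_mem _ hx), by
      show hB hF n x _ = 0
      simp [hxf, hxx], by
      show hB hF n f _ = 0
      simp [hfx, hff]⟩
  have hW : W ≠ ⊥ := by
    intro h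
    have hle : D i ≤ Submodule.span F {f, x} := fun y hy => by
      have := proj y hy
      rw [h, Submodule.mem_bot, sub_sub, sub_eq_zero] at this
      rw [this]
      exact Submodule.mem_span_pair.2 ⟨_, _, rfl⟩
    have h1 := Submodule.finrank_mono hle
    have h2 : finrank F (Submodule.span F ({f, x} : Set (Fin n → F))) ≤ 2 := by
      classical
      have := finrank_span_finset_le_card (R := F) ({f, x} : Finset (Fin n → F))
      rw [Finset.coe_pair] at this
      exact this.trans Finset.card_le_two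
    rw [X.rank] at h1
    omega
  obtain ⟨e, he, hee⟩ := exists_aniso (hF := hF) (W := W) (fun w hw h => X.nd i w hw.1 fun y hy => by
    have h1 : hB hF n _ w = 0 := h _ (proj y hy)
    have hw1 : hB hF n x w = 0 := hw.2.1
    have hw2 : hB hF n f w = 0 := hw.2.2
    simpa [hw1, hw2] using h1) hW
  exact ⟨e, he.1, he.2.1, hee⟩

/-- Vectors of a block with prescribed pairing and norm. -/
theorem exists_xvec {i : Fin t} {x₀ : Fin n → F} (hx₀ : x₀ ∈ D i) (h0 : x₀ ≠ 0) (ρ μ : F)
    (hμ : frob hF μ = μ) (h : ρ ≠ 0 ∨ 3 ≤ k ∨ hB hF n x₀ x₀ ≠ 0) :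
    ∃ x ∈ D i, hB hF n x₀ x = ρ ∧ hB hF n x x = μ := by
  have scaled : ∀ {e : Fin n → F}, hB hF n e e ≠ 0 → ∀ ν : F, frob hF ν = ν →
      ∃ c : F, frob hF c * c * hB hF n e e = ν := by
    intro e hee ν hν
    rcases eq_or_ne ν 0 with rfl | hν0
    · exact ⟨0, by simp⟩
    obtain ⟨c, hc⟩ := exists_norm_fixed (frob_ne_id hF) (frob_frob hF) (div_ne_zero hν0 hee)
      (by rw [map_div₀, hν, self_fixed'])
    exact ⟨c, by rw [hc, div_mul_cancel₀ _ hee]⟩
  by_cases hxx : hB hF n x₀ x₀ = 0
  · obtain ⟨f, hf, hxf, hff⟩ := X.exists_partner hx₀ h0 hxx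
    have hfx : hB hF n f x₀ = 1 := by rw [form_symm x₀ f, hxf, map_one]
    by_cases hρ : ρ = 0
    · subst hρ
      have hk : 3 ≤ k := (h.resolve_left (fun h => h rfl)).resolve_right (fun h => h hxx)
      obtain ⟨e, he, hxe, hee⟩ := X.exists_perp_aniso_three hk hx₀ hf hxx hxf hff
      obtain ⟨c, hc⟩ := scaled hee μ hμ
      refine ⟨c • e, (D i).smul_mem c he, by rw [map_smul, hxe, smul_zero], ?_⟩
      rw [map_smul, LinearMap.map_smulₛₗ, LinearMap.smul_apply, smul_eq_mul, smul_eq_mul]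
      linear_combination hc
    · obtain ⟨s, hs⟩ := exists_trace_eq (frob_ne_id hF) (frob_frob hF) hμ
      have hρ' : frob hF ρ ≠ 0 := by simpa using hρ
      refine ⟨ρ • f + (s / frob hF ρ) • x₀, (D i).add_mem ((D i).smul_mem _ hf) ((D i).smul_mem _ hx₀),
        by simp [hxf, hxx], ?_⟩
      simp only [map_add, LinearMap.add_apply, map_smul, LinearMap.map_smulₛₗ, LinearMap.smul_apply,
        smul_eq_mul, RingHom.id_apply, hxx, hxf, hfx, hff, map_div₀, frob_frob]
      field_simp
      linear_combination (ρ * frob hF ρ) * hs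
  · obtain ⟨e, he, hxe, hee⟩ := X.exists_perp_aniso hx₀ hxx
    obtain ⟨c, hc⟩ := scaled hee (μ - frob hF ρ * ρ / hB hF n x₀ x₀)
      (by rw [map_sub, map_div₀, map_mul, frob_frob, self_fixed', hμ, mul_comm ρ])
    refine ⟨(ρ / hB hF n x₀ x₀) • x₀ + c • e, (D i).add_mem ((D i).smul_mem _ hx₀) ((D i).smul_mem _ he),
      by simp [hxe, hxx], ?_⟩
    simp only [map_add, LinearMap.add_apply, map_smul, LinearMap.map_smulₛₗ, LinearMap.smul_apply,
      smul_eq_mul, RingHom.id_apply, hxe, hB_symm_zero hF hxe, map_div₀, self_fixed']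
    field_simp at hc ⊢
    linear_combination hc

theorem exists_dvec {i : Fin t} {x : Fin n → F} (hx : x ∈ D i) (hx0 : x ≠ 0) {ρ : F} (hρ : ρ ≠ 0) :
    ∃ d ∈ D i, hB hF n x d = ρ ∧ hB hF n d d = -(ρ + frob hF ρ) :=
  X.exists_xvec hx hx0 ρ _ (by rw [map_neg, map_add, frob_frob, add_comm]) (Or.inl hρ)

/-- Block isometries moving anisotropic vectors. -/
theorem exists_move {i : Fin t} {x x' : Fin n → F} (hx : x ∈ D i) (hx' : x' ∈ D i)
    (hxx : hB hF n x x ≠ 0) (heq : hB hF n x x = hB hF n x' x') :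
    ∃ g ∈ L, g x = x' ∧ ∀ j, j ≠ i → ∀ v ∈ D j, g v = v := by
  obtain ⟨s, hs, hsx⟩ := exists_map (frob_ne_id hF) (frob_frob hF) (hB_isSymm hF n) (hB_nondegenerate hF n)
    (perp hF (D i)) (fun h => hxx (h x hx)) (fun h => (heq ▸ hxx) (h x' hx'))
    (fun y hy => by rw [hB_symm_zero hF (hy x hx), hB_symm_zero hF (hy x' hx')]) heq
  obtain ⟨e, he, hxe, hee⟩ := X.exists_perp_aniso hx' (heq ▸ hxx)
  have hδn := X.det_norm hs.1
  have hδ0 : (LinearEquiv.det s : F) ≠ 0 := Units.ne_zero _
  set δ : F := (LinearEquiv.det s : F) with hδ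
  have hδ' : frob hF δ ≠ 0 := by simpa using hδ0
  have hl : (δ⁻¹ - 1) / hB hF n e e + frob hF ((δ⁻¹ - 1) / hB hF n e e) +
      frob hF ((δ⁻¹ - 1) / hB hF n e e) * ((δ⁻¹ - 1) / hB hF n e e) * hB hF n e e = 0 := by
    rw [map_div₀, map_sub, map_inv₀, map_one, self_fixed']
    field_simp
    linear_combination -hδn
  refine ⟨qrefl e _ hl * s, X.mem_of_perm (mul_mem (qrefl_mem_iso (hB_isSymm hF n) _ _ hl) hs.1) ?_
    (fun j => ⟨j, fun v hv => X.qrefl_pres he _ hl j ?_⟩), ?_, fun j hj v hv => ?_⟩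
  · rw [map_mul, Units.val_mul, det_qrefl, div_mul_cancel₀ _ hee, ← hδ, add_sub_cancel,
      inv_mul_cancel₀ hδ0]
  · rcases eq_or_ne j i with rfl | hj
    · show s v ∈ D j
      rw [← UMax.perp_perp hF (D j)]
      intro y hy
      rw [← hs.2 y hy, hs.1]
      exact hB_symm_zero hF (hy v hv)
    · show s v ∈ D j
      rw [hs.2 v (X.mem_perp hj hv)]; exact hv
  · rw [LinearEquiv.mul_apply, hsx, qrefl_apply, hB_symm_zero hF hxe, mul_zero, zero_smul, add_zero]
  · rw [LinearEquiv.mul_apply, hs.2 v (X.mem_perp hj hv), qrefl_apply, X.orth i j hj.symm e he v hv,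
      mul_zero, zero_smul, add_zero]

/-- All vectors with one component in each of `i`, `l` of non-zero opposite norms are centres. -/
def PairsC (_ : Blk hF D k L) (i l : Fin t) : Prop :=
  ∀ x ∈ D i, ∀ y ∈ D l, hB hF n x x ≠ 0 → hB hF n x x + hB hF n y y = 0 → UMax.Centre hF L (x + y)

theorem pairsC_symm {i l : Fin t} (h : X.PairsC i l) : X.PairsC l i := fun x hx y hy h0 he => by
  rw [add_comm]
  exact h y hy x hx (fun h1 => h0 (by rw [h1, add_zero] at he; exact he)) (by linear_combination he)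

theorem pairsC_of_centre {v : Fin n → F} (hv : hB hF n v v = 0) (hc : UMax.Centre hF L v) {i l : Fin t}
    (hil : i ≠ l) (hi : X.pr v i ≠ 0) (hl : X.pr v l ≠ 0) : X.PairsC i l := by
  intro x hx y hy hxx hxy
  set a := hB hF n x x with ha
  obtain ⟨ρ, hρ, hS⟩ : ∃ ρ : F, ρ + frob hF ρ = -a ∧ ρ - frob hF ρ ≠ 0 := by
    obtain ⟨ρ, hρ⟩ := exists_trace_eq (frob_ne_id hF) (frob_frob hF) (a := -a)
      (by rw [map_neg, ha, self_fixed'])
    obtain ⟨l₀, hl₀, hl₀'⟩ := exists_trace_zero (frob_ne_id hF) (frob_frob hF)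
    by_cases h : ρ - frob hF ρ = 0
    · refine ⟨ρ + l₀, by rw [map_add]; linear_combination hρ + hl₀', fun h' => ?_⟩
      rw [map_add] at h'
      have h2 : (2 : F) * l₀ = 0 := by linear_combination h' - h + hl₀'
      have h2' : (2 : F) = 0 := (mul_eq_zero.1 h2).resolve_right hl₀
      exact hxx (by linear_combination hρ + h - ρ * h2')
    · exact ⟨ρ, hρ, h⟩
  have hρ0 : ρ ≠ 0 := fun h => hS (by simp [h])
  have hρ' : frob hF ρ ≠ 0 := by simpa using hρ0
  obtain ⟨d, hd, hd1, hd2⟩ := X.exists_dvec (X.pr_mem v i) hi hρ0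
  obtain ⟨d', hd', hd1', hd2'⟩ := X.exists_dvec (X.pr_mem v l) hl (neg_ne_zero.2 hρ')
  have hdd : hB hF n d d = a := by rw [hd2, hρ, neg_neg]
  have hdd' : hB hF n d' d' = -a := by
    rw [hd2', map_neg, frob_frob, ← hρ]; ring
  have h1 : (frob hF ρ)⁻¹ + frob hF (frob hF ρ)⁻¹ +
      frob hF (frob hF ρ)⁻¹ * (frob hF ρ)⁻¹ * hB hF n d d = 0 := by
    rw [hdd, map_inv₀, frob_frob]
    field_simp
    linear_combination hρ
  have h2 : (-ρ⁻¹) + frob hF (-ρ⁻¹) + frob hF (-ρ⁻¹) * (-ρ⁻¹) * hB hF n d' d' = 0 := by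
    rw [hdd', map_neg, map_inv₀]
    field_simp
    linear_combination -hρ
  set g := qrefl d _ h1 * qrefl d' _ h2 with hg
  have hgv : g v = v + (d + d') := by
    have e2 : hB hF n d' v = -ρ := by
      rw [X.form_pr hd', form_symm (X.pr v l) d', hd1', map_neg, frob_frob]
    have e1 : hB hF n d v = frob hF ρ := by rw [X.form_pr hd, form_symm (X.pr v i) d, hd1]
    rw [hg, LinearEquiv.mul_apply, qrefl_apply d', e2, neg_mul_neg, inv_mul_cancel₀ hρ0, one_smul,
      qrefl_apply, map_add, e1, X.orth i l hil d hd d' hd', add_zero, inv_mul_cancel₀ hρ', one_smul]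
    abel
  have hgm : g ∈ L := by
    refine X.mem_of_perm (mul_mem (qrefl_mem_iso (hB_isSymm hF n) _ _ h1)
      (qrefl_mem_iso (hB_isSymm hF n) _ _ h2)) ?_ fun j => ⟨j, fun w hw => ?_⟩
    · rw [hg, map_mul, Units.val_mul, det_qrefl, det_qrefl, hdd, hdd']
      field_simp
      linear_combination a * hρ
    · rw [hg, LinearEquiv.mul_apply]
      exact X.qrefl_pres hd _ h1 j (X.qrefl_pres hd' _ h2 j hw)
  set S := ρ - frob hF ρ with hSdef
  have hvg : hB hF n v (g v) = S := by
    have hp : hB hF n v (d + d') = ρ + -frob hF ρ := by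
      rw [map_add, form_symm d v, form_symm d' v, X.form_pr hd, X.form_pr hd', ← form_symm, ← form_symm,
        hd1, hd1']
    rw [hgv, map_add, hv, zero_add, hp, hSdef, sub_eq_add_neg]
  have hβ : -S⁻¹ + frob hF (-S⁻¹) = 0 := by
    have hfS : frob hF S = -S := by rw [hSdef, map_sub, frob_frob]; ring
    rw [map_neg, map_inv₀, hfS, inv_neg]; ring
  obtain ⟨h', hm⟩ := (centre_iff hF hv).1 hc _ hβ
  have hcd := UMax.centre_map hF X.le_iso hm (UMax.centre_map hF X.le_iso hgm hc)
  rw [qrefl_apply, hvg, neg_mul, inv_mul_cancel₀ hS, neg_one_smul, hgv,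
    show v + (d + d') + -v = d + d' by abel] at hcd
  obtain ⟨g1, hg1, hg1d, hg1o⟩ := X.exists_move hd hx (by rw [hdd]; exact hxx) hdd
  obtain ⟨g2, hg2, hg2d, hg2o⟩ := X.exists_move hd' hy (by rw [hdd']; exact neg_ne_zero.2 hxx)
    (by rw [hdd']; linear_combination -hxy)
  have := UMax.centre_map hF X.le_iso hg2 (UMax.centre_map hF X.le_iso hg1 hcd)
  rwa [map_add, hg1d, hg1o l hil.symm d' hd', map_add, hg2d, hg2o i hil x hx] at this

/-- An element of `L` exchanging two blocks. -/
theorem exists_swap {i j : Fin t} (hij : i ≠ j) :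
    ∃ g ∈ L, (∀ v ∈ D i, g v ∈ D j) ∧ (∀ v ∈ D j, g v ∈ D i) ∧
      ∀ l, l ≠ i → l ≠ j → ∀ v ∈ D l, g v ∈ D l := by
  obtain ⟨b, hb1, hb2, hb3⟩ := exists_basis k (D i) (X.nd i) (X.rank i)
  obtain ⟨c, hc1, hc2, hc3⟩ := exists_basis k (D j) (X.nd j) (X.rank j)
  set w : Fin k → (Fin n → F) := fun a => b a - c a with hw
  have hbc : ∀ a a', hB hF n (b a) (c a') = 0 := fun a a' => X.orth i j hij _ (hb1 a) _ (hc1 a')
  have hcb : ∀ a a', hB hF n (c a) (b a') = 0 := fun a a' => X.orth j i hij.symm _ (hc1 a) _ (hb1 a')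
  have hww : ∀ a a', hB hF n (w a) (w a') = if a = a' then 2 else 0 := fun a a' => by
    simp only [hw, map_sub, LinearMap.sub_apply, hb2, hc2, hbc, hcb]
    split_ifs <;> ring
  let P : (Fin n → F) →ₗ[F] (Fin n → F) :=
    LinearMap.id - ∑ a, (LinearMap.smulRight (hB hF n (w a)) (w a))
  have hP : ∀ v, P v = v - ∑ a, hB hF n (w a) v • w a := fun v => by
    simp [P]
  obtain ⟨p, hp, -, hpv⟩ := Big.exists_equiv X.space P fun u v => by
    have hr : hB hF n (∑ a, hB hF n (w a) u • w a) (∑ a, hB hF n (w a) v • w a) =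
        2 * ∑ a, frob hF (hB hF n (w a) u) * hB hF n (w a) v := by
      simp only [map_sum, LinearMap.sum_apply, LinearMap.map_smulₛₗ, LinearMap.smul_apply, map_smul, hww,
        smul_eq_mul, RingHom.id_apply, mul_ite, mul_zero, Finset.sum_ite_eq, Finset.mem_univ, if_true,
        Finset.mul_sum]
      refine Finset.sum_congr rfl fun a _ => ?_
      simp
      ring
    have h1 : hB hF n (∑ a, hB hF n (w a) u • w a) v =
        ∑ a, frob hF (hB hF n (w a) u) * hB hF n (w a) v := by
      simp [map_sum, LinearMap.sum_apply]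
    have h2 : hB hF n u (∑ a, hB hF n (w a) v • w a) =
        ∑ a, frob hF (hB hF n (w a) u) * hB hF n (w a) v := by
      simp only [map_sum, map_smul, smul_eq_mul]
      refine Finset.sum_congr rfl fun a _ => ?_
      rw [form_symm (w a) u, mul_comm]
    simp only [hP, map_sub, LinearMap.sub_apply]
    rw [hr, h1, h2]
    ring
  have hpi : ∀ v ∈ D i, p v ∈ D j := by
    intro v hv
    have : p v = ∑ a, hB hF n (b a) v • c a := by
      rw [hpv, hP]
      have e1 : ∀ a, hB hF n (w a) v = hB hF n (b a) v := fun a => by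
        simp only [hw, map_sub, LinearMap.sub_apply, X.orth j i hij.symm _ (hc1 a) v hv, sub_zero]
      simp only [e1]
      simp only [hw, smul_sub, Finset.sum_sub_distrib]
      rw [← hb3 v hv, sub_sub_cancel]
    rw [this]
    exact Submodule.sum_mem _ fun a _ => (D j).smul_mem _ (hc1 a)
  have hpj : ∀ v ∈ D j, p v ∈ D i := by
    intro v hv
    have : p v = ∑ a, hB hF n (c a) v • b a := by
      rw [hpv, hP]
      have e1 : ∀ a, hB hF n (w a) v = -hB hF n (c a) v := fun a => by
        simp only [hw, map_sub, LinearMap.sub_apply, X.orth i j hij _ (hb1 a) v hv, zero_sub]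
      simp only [e1]
      simp only [hw, smul_sub, neg_smul, Finset.sum_sub_distrib, Finset.sum_neg_distrib]
      rw [← hc3 v hv]
      abel
    rw [this]
    exact Submodule.sum_mem _ fun a _ => (D i).smul_mem _ (hb1 a)
  have hpl : ∀ l, l ≠ i → l ≠ j → ∀ v ∈ D l, p v = v := by
    intro l hli hlj v hv
    rw [hpv, hP, Finset.sum_eq_zero fun a _ => ?_, sub_zero]
    simp only [hw, map_sub, LinearMap.sub_apply, X.orth i l hli.symm _ (hb1 a) v hv,
      X.orth j l hlj.symm _ (hc1 a) v hv, sub_self, zero_smul]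
  have hδn := X.det_norm hp
  have hδ0 : (LinearEquiv.det p : F) ≠ 0 := Units.ne_zero _
  set δ : F := (LinearEquiv.det p : F) with hδ
  have hδ' : frob hF δ ≠ 0 := by simpa using hδ0
  set o : Fin k := ⟨0, by have := X.two_le; omega⟩
  have hl : (δ⁻¹ - 1) + frob hF (δ⁻¹ - 1) + frob hF (δ⁻¹ - 1) * (δ⁻¹ - 1) * hB hF n (c o) (c o) = 0 := by
    rw [hc2, if_pos rfl, map_sub, map_inv₀, map_one]
    field_simp
    linear_combination -hδn
  refine ⟨qrefl (c o) _ hl * p, X.mem_of_perm (mul_mem (qrefl_mem_iso (hB_isSymm hF n) _ _ hl) hp) ?_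
    (fun l => ?_), fun v hv => X.qrefl_pres (hc1 o) _ hl j (hpi v hv),
    fun v hv => X.qrefl_pres (hc1 o) _ hl i (hpj v hv),
    fun l hli hlj v hv => X.qrefl_pres (hc1 o) _ hl l (show p v ∈ D l by rw [hpl l hli hlj v hv]; exact hv)⟩
  · rw [map_mul, Units.val_mul, det_qrefl, hc2, if_pos rfl, mul_one, ← hδ, add_sub_cancel,
      inv_mul_cancel₀ hδ0]
  · rcases eq_or_ne l i with rfl | hli
    · exact ⟨j, fun v hv => X.qrefl_pres (hc1 o) _ hl j (hpi v hv)⟩
    rcases eq_or_ne l j with rfl | hlj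
    · exact ⟨i, fun v hv => X.qrefl_pres (hc1 o) _ hl i (hpj v hv)⟩
    · exact ⟨l, fun v hv => X.qrefl_pres (hc1 o) _ hl l (show p v ∈ D l by rw [hpl l hli hlj v hv]; exact hv)⟩

theorem pairsC_move {i l c : Fin t} (hil : i ≠ l) (hcl : c ≠ l) (h : X.PairsC i l) : X.PairsC c l := by
  rcases eq_or_ne c i with rfl | hci
  · exact h
  intro x hx y hy hxx hxy
  obtain ⟨g, hg, hgc, -, hgo⟩ := X.exists_swap hci
  have := UMax.centre_map hF X.le_iso (inv_mem hg)
    (h (g x) (hgc x hx) (g y) (hgo l hcl.symm hil.symm y hy) (by rw [X.le_iso hg]; exact hxx)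
      (by rw [X.le_iso hg, X.le_iso hg]; exact hxy))
  rwa [← map_add, ← LinearEquiv.mul_apply, inv_mul_cancel] at this

theorem pairsC_all {a b : Fin t} (hab : a ≠ b) (h : X.PairsC a b) {i l : Fin t} (hil : i ≠ l) :
    X.PairsC i l := by
  rcases eq_or_ne i b with rfl | hib
  · exact X.pairsC_symm (X.pairsC_move hab hil.symm h)
  · exact X.pairsC_symm (X.pairsC_move hib.symm hil.symm (X.pairsC_symm (X.pairsC_move hab hib h)))

theorem centres_of_pairs {a b : Fin t} (hab : a ≠ b) (hP : X.PairsC a b) (v : Fin n → F)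
    (hv : hB hF n v v = 0) : UMax.Centre hF L v := by
  classical
  have hall := fun {i l : Fin t} (hil : i ≠ l) => X.pairsC_all hab hP hil
  induction hs : ({i | X.pr v i ≠ 0} : Finset (Fin t)).card using Nat.strong_induction_on generalizing v with
  | h s ih =>
  by_cases hone : ∀ i l, X.pr v i ≠ 0 → X.pr v l ≠ 0 → i = l
  · by_cases hz : ∀ i, X.pr v i = 0
    · have h0 : v = 0 := by
        rw [← X.sum_pr v]
        exact Finset.sum_eq_zero fun i _ => hz i
      exact X.centre_block (h0 ▸ (D a).zero_mem : v ∈ D a) hv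
    · push Not at hz
      obtain ⟨i, hi⟩ := hz
      have : v = X.pr v i := by
        conv_lhs => rw [← X.sum_pr v]
        exact Finset.sum_eq_single i (fun l _ hl => by by_contra h; exact hl (hone l i h hi))
          (fun h => absurd (Finset.mem_univ i) h)
      exact X.centre_block (this ▸ X.pr_mem v i : v ∈ D i) hv
  push Not at hone
  obtain ⟨i₀, l₀, hi₀, hl₀, hne₀⟩ := hone
  -- reduce the support at an anisotropic component
  have step : ∀ u : Fin n → F, hB hF n u u = 0 → ({i | X.pr u i ≠ 0} : Finset (Fin t)).card ≤ s →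
      ∀ l, hB hF n (X.pr u l) (X.pr u l) ≠ 0 → UMax.Centre hF L u := by
    intro u hu hus l hl
    set N := hB hF n (X.pr u l) (X.pr u l) with hN
    obtain ⟨i, hil, hi⟩ : ∃ i, i ≠ l ∧ X.pr u i ≠ 0 := by
      by_contra h
      push Not at h
      refine hl ?_
      rw [X.form_self, Finset.sum_eq_single l (fun i _ hi => by rw [h i hi]; simp)
        (fun h => absurd (Finset.mem_univ l) h)] at hu
      exact hu
    obtain ⟨c, hc, hc0, hcond⟩ : ∃ c : F, c + frob hF c = 0 ∧ c ≠ 0 ∧
        (N - c ≠ 0 ∨ 3 ≤ k ∨ hB hF n (X.pr u i) (X.pr u i) ≠ 0) := by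
      rcases Nat.lt_or_ge k 3 with hk | hk
      · have hq : 3 ≤ q := by
          have := two_le_q hF
          have := X.small (by have := X.two_le; omega)
          omega
        obtain ⟨c, hc, hcs⟩ := Finset.exists_mem_notMem_of_card_lt_card
          (show ({0, N} : Finset F).card < (traceZero hF).card from
            Finset.card_le_two.trans_lt (lt_of_lt_of_le (by omega) (le_card_traceZero hF)))
        simp only [Finset.mem_insert, Finset.mem_singleton, not_or] at hcs
        exact ⟨c, (mem_traceZero hF).1 hc, hcs.1, Or.inl (sub_ne_zero.2 (Ne.symm hcs.2))⟩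
      · obtain ⟨c, hc0, hc⟩ := exists_trace_zero (frob_ne_id hF) (frob_frob hF)
        exact ⟨c, hc, hc0, Or.inr (Or.inl hk)⟩
    obtain ⟨x, hx, hx1, hx2⟩ := X.exists_xvec (X.pr_mem u i) hi (N - c) (-N)
      (by rw [map_neg, hN, self_fixed']) hcond
    set y := -X.pr u l with hy
    have hyD : y ∈ D l := (D l).neg_mem (X.pr_mem u l)
    have hyy : hB hF n y y = N := by simp [hy, hN]
    have hz : UMax.Centre hF L (x + y) :=
      hall hil x hx y hyD (by rw [hx2]; exact neg_ne_zero.2 hl) (by rw [hx2, hyy]; ring)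
    have hzz : hB hF n (x + y) (x + y) = 0 := by
      simp only [map_add, LinearMap.add_apply, X.orth i l hil x hx y hyD, X.orth l i hil.symm y hyD x hx,
        hx2, hyy]
      ring
    have hS : hB hF n (x + y) u = c := by
      rw [map_add, LinearMap.add_apply, X.form_pr hx, X.form_pr hyD, form_symm (X.pr u i) x, hx1, hy,
        map_neg, LinearMap.neg_apply, ← hN, map_sub, hN, self_fixed']
      linear_combination -hc
    have hβ : c⁻¹ + frob hF c⁻¹ = 0 := by
      rw [map_inv₀, eq_neg_of_add_eq_zero_right hc, inv_neg, add_neg_cancel]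
    obtain ⟨h', hm⟩ := (centre_iff hF hzz).1 hz _ hβ
    have hu' : qrefl (x + y) c⁻¹ h' u = u + (x + y) := by
      rw [qrefl_apply, hS, inv_mul_cancel₀ hc0, one_smul]
    have hu'' : hB hF n (u + (x + y)) (u + (x + y)) = 0 := by rw [← hu', X.le_iso hm]; exact hu
    have hlt : ({j | X.pr (u + (x + y)) j ≠ 0} : Finset (Fin t)).card < s := by
      refine lt_of_lt_of_le (Finset.card_lt_card ⟨fun j hj => ?_, fun hh => ?_⟩) hus
      · simp only [Finset.mem_filter, Finset.mem_univ, true_and] at hj ⊢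
        rcases eq_or_ne j i with rfl | hji
        · exact hi
        rcases eq_or_ne j l with rfl | hjl
        · exact fun h => hl (by rw [hN, h]; simp)
        rwa [X.pr_add, X.pr_add, X.pr_other hx hji.symm, X.pr_other hyD hjl.symm, add_zero,
          add_zero] at hj
      · have hll : l ∈ ({j | X.pr u j ≠ 0} : Finset (Fin t)) := by
          simp only [Finset.mem_filter, Finset.mem_univ, true_and]
          exact fun h => hl (by rw [hN, h]; simp)
        have h1 := hh hll
        simp only [Finset.mem_filter, Finset.mem_univ, true_and] at h1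
        refine h1 ?_
        rw [X.pr_add, X.pr_add, X.pr_other hx hil, X.pr_same hyD, hy, zero_add, add_neg_cancel]
    have := UMax.centre_map hF X.le_iso (inv_mem hm) (hu' ▸ ih _ hlt _ hu'' rfl)
    rwa [← LinearEquiv.mul_apply, inv_mul_cancel] at this
  by_cases hex : ∃ l, hB hF n (X.pr v l) (X.pr v l) ≠ 0
  · obtain ⟨l, hl⟩ := hex
    exact step v hv hs.le l hl
  push Not at hex
  obtain ⟨μ, hμ, hμ1, hμc⟩ : ∃ μ : F, frob hF μ = μ ∧ 1 + μ ≠ 0 ∧ (μ ≠ 0 ∨ 3 ≤ k) := by
    rcases Nat.lt_or_ge k 3 with hk | hk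
    · have hq : 3 ≤ q := by
        have := two_le_q hF
        have := X.small (by have := X.two_le; omega)
        omega
      obtain ⟨β, hβ, hβs⟩ := Finset.exists_mem_notMem_of_card_lt_card
        (show ({0} : Finset F).card < (traceZero hF).card from
          by rw [Finset.card_singleton]; exact lt_of_lt_of_le (by omega) (le_card_traceZero hF))
      rw [mem_traceZero] at hβ
      rw [Finset.mem_singleton] at hβs
      obtain ⟨γ, hγ, hγs⟩ := Finset.exists_mem_notMem_of_card_lt_card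
        (show ({0, -β} : Finset F).card < (traceZero hF).card from
          Finset.card_le_two.trans_lt (lt_of_lt_of_le (by omega) (le_card_traceZero hF)))
      rw [mem_traceZero] at hγ
      simp only [Finset.mem_insert, Finset.mem_singleton, not_or] at hγs
      refine ⟨γ / β, ?_, fun h => hγs.2 ?_, Or.inl (div_ne_zero hγs.1 hβs)⟩
      · rw [map_div₀, eq_neg_of_add_eq_zero_right hγ, eq_neg_of_add_eq_zero_right hβ, neg_div_neg_eq]
      · field_simp at h
        linear_combination h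
    · exact ⟨0, map_zero _, by simp, Or.inr hk⟩
  obtain ⟨x, hx, hx1, hx2⟩ := X.exists_xvec (X.pr_mem v i₀) hi₀ 1 1 (map_one _) (Or.inl one_ne_zero)
  obtain ⟨y, hy, hy1, hy2⟩ := X.exists_xvec (X.pr_mem v l₀) hl₀ μ (-1) (by rw [map_neg, map_one])
    (hμc.elim Or.inl fun h => Or.inr (Or.inl h))
  obtain ⟨β, hβ0, hβ⟩ := exists_trace_zero (frob_ne_id hF) (frob_frob hF)
  have hz : UMax.Centre hF L (x + y) :=
    hall hne₀ x hx y hy (by rw [hx2]; exact one_ne_zero) (by rw [hx2, hy2]; ring)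
  have hzz : hB hF n (x + y) (x + y) = 0 := by
    simp only [map_add, LinearMap.add_apply, X.orth i₀ l₀ hne₀ x hx y hy,
      X.orth l₀ i₀ hne₀.symm y hy x hx, hx2, hy2]
    ring
  have hS : hB hF n (x + y) v = 1 + μ := by
    rw [map_add, LinearMap.add_apply, X.form_pr hx, X.form_pr hy, form_symm (X.pr v i₀) x,
      form_symm (X.pr v l₀) y, hx1, hy1, map_one, hμ]
  obtain ⟨h', hm⟩ := (centre_iff hF hzz).1 hz β hβ
  set w := qrefl (x + y) β h' v with hw
  have hww : hB hF n w w = 0 := by rw [hw, X.le_iso hm]; exact hv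
  have hwe : w = v + (β * (1 + μ)) • (x + y) := by rw [hw, qrefl_apply, hS]
  have hwi : hB hF n (X.pr w i₀) (X.pr w i₀) ≠ 0 := by
    have : X.pr w i₀ = X.pr v i₀ + (β * (1 + μ)) • x := by
      rw [hwe, X.pr_add, X.pr_smul, X.pr_add, X.pr_same hx, X.pr_other hy hne₀.symm, add_zero]
    rw [this]
    simp only [map_add, LinearMap.add_apply, map_smul, LinearMap.map_smulₛₗ, LinearMap.smul_apply,
      smul_eq_mul, RingHom.id_apply, hex i₀, hx1, form_symm (X.pr v i₀) x, map_one, hx2, map_mul, hμ]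
    intro h0
    have : frob hF β * β * ((1 + μ) * (1 + μ)) = 0 := by linear_combination h0 - (1 + μ) * hβ
    exact mul_ne_zero (mul_ne_zero (by simpa using hβ0) hβ0) (mul_ne_zero hμ1 hμ1) this
  have hsub : ({j | X.pr w j ≠ 0} : Finset (Fin t)).card ≤ s := by
    refine (Finset.card_le_card fun j hj => ?_).trans hs.le
    simp only [Finset.mem_filter, Finset.mem_univ, true_and] at hj ⊢
    rcases eq_or_ne j i₀ with rfl | h1
    · exact hi₀
    rcases eq_or_ne j l₀ with rfl | h2
    · exact hl₀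
    rwa [hwe, X.pr_add, X.pr_smul, X.pr_add, X.pr_other hx h1.symm, X.pr_other hy h2.symm, add_zero,
      smul_zero, add_zero] at hj
  have := UMax.centre_map hF X.le_iso (inv_mem hm) (step w hww hsub i₀ hwi)
  rwa [hw, ← LinearEquiv.mul_apply, inv_mul_cancel] at this

/-- A subgroup containing the stabiliser is the stabiliser or everything. -/
theorem perm_or_top : (∀ g ∈ L, PermBlocks D g) ∨ L = tvGroup (hB hF n) := by
  classical
  by_cases h : ∀ g ∈ L, PermBlocks D g
  · exact Or.inl h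
  push Not at h
  obtain ⟨g, hg, hgD⟩ := h
  refine Or.inr (UMax.eq_top_of_centres hF X.le fun v hv => ?_)
  obtain ⟨u, i, hu, huu, hgu⟩ : ∃ u i, u ∈ D i ∧ hB hF n u u = 0 ∧
      ∃ a b, a ≠ b ∧ X.pr (g u) a ≠ 0 ∧ X.pr (g u) b ≠ 0 := by
    by_contra hc
    push Not at hc
    refine hgD fun i => ?_
    obtain ⟨u, hu, hu0, huu⟩ := exists_iso_ne_zero (frob_ne_id hF) (frob_frob hF) (hB_isSymm hF n) (D i)
      (by rw [X.rank]; exact X.two_le)
    have single : ∀ w ∈ D i, hB hF n w w = 0 → ∀ a, X.pr (g w) a ≠ 0 → g w ∈ D a := by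
      intro w hw hww a ha
      have : g w = X.pr (g w) a := by
        conv_lhs => rw [← X.sum_pr (g w)]
        exact Finset.sum_eq_single a (fun b _ hb => by
          by_contra h; exact h (hc w i hw hww a b hb.symm ha)) (fun h => absurd (Finset.mem_univ a) h)
      rw [this]; exact X.pr_mem _ a
    obtain ⟨a, ha⟩ : ∃ a, X.pr (g u) a ≠ 0 := by
      by_contra h
      push Not at h
      refine hu0 (g.injective ?_)
      rw [map_zero, ← X.sum_pr (g u)]
      exact Finset.sum_eq_zero fun a _ => h a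
    have hgu := single u hu huu a ha
    obtain ⟨y, hy, hxy⟩ : ∃ y ∈ D i, hB hF n u y ≠ 0 := by
      by_contra h
      push Not at h
      exact hu0 (X.nd i u hu fun y hy => hB_symm_zero hF (h y hy))
    refine ⟨a, fun v hv => ?_⟩
    have hle := UMax.le_span_iso hF hu huu hy hxy hv
    refine Submodule.span_induction (fun w hw => ?_) (by simp) (fun x y _ _ hx hy => by
      rw [map_add]; exact (D a).add_mem hx hy) (fun c x _ hx => by
      rw [map_smul]; exact (D a).smul_mem c hx) hle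
    rcases hw with hw | ⟨hw, hww, huw⟩
    · rw [Set.mem_singleton_iff] at hw; rw [hw]; exact hgu
    · obtain ⟨b, hb⟩ : ∃ b, X.pr (g w) b ≠ 0 := by
        by_contra h
        push Not at h
        have : g w = 0 := by
          rw [← X.sum_pr (g w)]
          exact Finset.sum_eq_zero fun b _ => h b
        rw [← map_zero g] at this
        exact huw (by rw [g.injective this, map_zero])
      have hgw := single w hw hww b hb
      rcases eq_or_ne a b with rfl | hab
      · exact hgw
      · exact absurd ((X.le_iso hg u w).symm.trans (X.orth a b hab _ hgu _ hgw)) huw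
  obtain ⟨a, b, hab, ha, hb⟩ := hgu
  have hgg : hB hF n (g u) (g u) = 0 := by rw [X.le_iso hg]; exact huu
  exact X.centres_of_pairs hab (X.pairsC_of_centre hgg
    (UMax.centre_map hF X.le_iso hg (X.centre_block hu huu)) hab ha hb) v hv

end Blk

end Cfsg.Lib.Linear.UDec
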