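import Mathlib

/-!
# Norm-one weights with product one and prescribed vanishing weighted sum

If `u` has no zero entry and at least ten entries, then there are many tuples `d` of elements
of norm one with product one and `∑ u i * d i = 0`: at least so many that one avoids any small set.
The proof is a character sum over `F × U`, bounded by sixth moments.
-/

set_option autoImplicit false

namespace Cfsg.Lib.Linear.UDec.Count

open Finset

section General

variable {G X : Type*} [AddCommGroup G] [Fintype G] [DecidableEq G] [Fintype X]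

/-- The second moment of a character sum is bounded by the number of coincidences. -/
theorem moment_two (g : X → G) (c : X → ℂ) (hc : ∀ x, ‖c x‖ = 1) :
    ∑ φ : AddChar G ℂ, ‖∑ x, c x * φ (g x)‖ ^ 2 ≤
      (Fintype.card G : ℝ) * ∑ x, (#{y | g y = g x} : ℝ) := by
  have key : ((∑ φ : AddChar G ℂ, ‖∑ x, c x * φ (g x)‖ ^ 2 : ℝ) : ℂ) =
      ∑ x, ∑ y, (starRingEnd ℂ (c x) * c y) *
        (if g y - g x = 0 then (Fintype.card G : ℂ) else 0) := by
    simp_rw [← AddChar.sum_apply_eq_ite, Finset.mul_sum]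
    push_cast
    rw [Finset.sum_congr rfl fun x _ => Finset.sum_comm, Finset.sum_comm]
    refine Finset.sum_congr rfl fun φ _ => ?_
    rw [← Complex.conj_mul', map_sum, Finset.sum_mul_sum]
    refine Finset.sum_congr rfl fun x _ => Finset.sum_congr rfl fun y _ => ?_
    rw [map_mul, ← AddChar.map_neg_eq_conj, sub_eq_neg_add, AddChar.map_add_eq_mul]
    ring
  have h2 := congrArg (fun z : ℂ => ‖z‖) key
  simp only [Complex.norm_real, Real.norm_eq_abs] at h2
  rw [abs_of_nonneg (Finset.sum_nonneg fun _ _ => sq_nonneg _)] at h2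
  rw [h2, Finset.mul_sum]
  refine (norm_sum_le _ _).trans (Finset.sum_le_sum fun x _ => (norm_sum_le _ _).trans ?_)
  rw [Finset.card_filter, Nat.cast_sum, Finset.mul_sum]
  refine le_of_eq (Finset.sum_congr rfl fun y _ => ?_)
  simp only [sub_eq_zero, norm_mul, RCLike.norm_conj, hc, one_mul]
  split_ifs with h <;> simp [h]

end General

variable {F U ι : Type*} [Field F] [Fintype F] [DecidableEq F] [CommGroup U] [Fintype U]
  [DecidableEq U] [Fintype ι] [DecidableEq ι] (σ : F →+* F) (ε : U →* F) {q : ℕ}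

/-- The point of `F × U` attached to the weight `d` at a coefficient `u`. -/
def pt (u : F) (d : U) : F × Additive U := (u * ε d, Additive.ofMul d)

/-- The character sum at a coefficient. -/
noncomputable def K (u : F) (ψ : AddChar (F × Additive U) ℂ) : ℂ := ∑ d, ψ (pt ε u d)

omit [DecidableEq F] [DecidableEq U] in
theorem K_sq (u : F) (ψ : AddChar (F × Additive U) ℂ) :
    K ε u ψ ^ 2 = ∑ p : U × U, ψ (pt ε u p.1 + pt ε u p.2) := by
  rw [pow_two, K, Finset.sum_mul_sum, Fintype.sum_prod_type]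
  simp [AddChar.map_add_eq_mul]

variable (hε : Function.Injective ε) (hσ : ∀ d, σ (ε d) * ε d = 1)

omit [Fintype F] [Fintype U] [DecidableEq F] in
include hε in
/-- Two weights with equal sum and equal product agree as unordered pairs. -/
theorem eq_or_swap {a b a' b' : U} (h1 : ε a' + ε b' = ε a + ε b) (h2 : a' * b' = a * b) :
    (a', b') = (a, b) ∨ (a', b') = (b, a) := by
  have h3 : ε a' * ε b' = ε a * ε b := by rw [← map_mul, h2, map_mul]
  have h4 : (ε a' - ε a) * (ε a' - ε b) = 0 := by linear_combination (ε a') * h1 - h3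
  rcases mul_eq_zero.1 h4 with h | h
  · have := hε (sub_eq_zero.1 h); subst this
    exact Or.inl (by rw [mul_left_cancel h2])
  · have := hε (sub_eq_zero.1 h); subst this
    rw [mul_comm a a'] at h2
    exact Or.inr (by rw [mul_left_cancel h2])

include hε in
theorem moment_all {u : F} (hu : u ≠ 0) :
    ∑ ψ : AddChar (F × Additive U) ℂ, ‖K ε u ψ‖ ^ 4 ≤
      (Fintype.card F : ℝ) * Fintype.card U * (2 * (Fintype.card U : ℝ) ^ 2) := by
  have h := moment_two (G := F × Additive U) (fun p : U × U => pt ε u p.1 + pt ε u p.2) (fun _ => 1)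
    (fun _ => by simp)
  simp only [one_mul, ← K_sq, norm_pow, ← pow_mul, Nat.reduceMul] at h
  refine h.trans (le_of_le_of_eq (mul_le_mul_of_nonneg_left (Finset.sum_le_card_nsmul _ _ (2 : ℝ)
    fun p _ => ?_) (Nat.cast_nonneg _)) ?_)
  · norm_cast
    refine (Finset.card_le_card (t := {p, (p.2, p.1)}) fun p' hp' => ?_).trans Finset.card_le_two
    simp only [Finset.mem_filter, Finset.mem_univ, true_and, pt, Prod.mk_add_mk, Prod.mk.injEq,
      ← mul_add, mul_right_inj' hu, ← ofMul_mul, EmbeddingLike.apply_eq_iff_eq] at hp'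
    simpa using eq_or_swap ε hε hp'.1 hp'.2
  · simp [Fintype.card_prod]; ring

include hε hσ in
/-- Pairs of weights with equal sums. -/
theorem card_sum_eq (h2U : 2 ≤ Fintype.card U) :
    (∑ p : U × U, (#{p' : U × U | ε p'.1 + ε p'.2 = ε p.1 + ε p.2} : ℝ)) ≤
      3 * (Fintype.card U : ℝ) ^ 2 - 2 * Fintype.card U := by
  have h0 : ∀ p : U × U, (#{p' : U × U | ε p'.1 + ε p'.2 = ε p.1 + ε p.2} : ℝ) ≤
      if ε p.1 + ε p.2 = 0 then (Fintype.card U : ℝ) else 2 := by
    intro p
    split_ifs with h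
    · have : #{p' : U × U | ε p'.1 + ε p'.2 = ε p.1 + ε p.2} ≤ Fintype.card U := by
        rw [← Finset.card_univ (α := U)]
        refine Finset.card_le_card_of_injOn Prod.fst (fun _ _ => Finset.mem_univ _) ?_
        intro p' hp' p'' hp'' e
        simp only [Finset.coe_filter, Finset.mem_univ, true_and, Set.mem_setOf_eq] at hp' hp''
        refine Prod.ext e (hε ?_)
        rw [e] at hp'
        exact add_left_cancel (hp'.trans hp''.symm)
      exact Nat.cast_le.2 this
    · norm_cast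
      refine (Finset.card_le_card (t := {p, (p.2, p.1)}) fun p' hp' => ?_).trans Finset.card_le_two
      simp only [Finset.mem_filter, Finset.mem_univ, true_and] at hp'
      have hc := congrArg σ hp'
      rw [map_add, map_add] at hc
      have e : ε p'.1 * ε p'.2 = ε p.1 * ε p.2 := by
        refine mul_left_cancel₀ h ?_
        linear_combination (-(ε p'.1 * ε p'.2 * ε p.1 * ε p.2)) * hc +
          (ε p.1 * ε p.2 * ε p'.2) * hσ p'.1 + (ε p.1 * ε p.2 * ε p'.1) * hσ p'.2 -
          (ε p'.1 * ε p'.2 * ε p.2) * hσ p.1 - (ε p'.1 * ε p'.2 * ε p.1) * hσ p.2 +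
          (ε p.1 * ε p.2) * hp'
      rw [← map_mul, ← map_mul] at e
      simpa using eq_or_swap ε hε hp' (hε e)
  refine (Finset.sum_le_sum fun p _ => h0 p).trans ?_
  rw [Finset.sum_ite, Finset.sum_const, Finset.sum_const]
  have : #{p : U × U | ε p.1 + ε p.2 = 0} ≤ Fintype.card U := by
    rw [← Finset.card_univ (α := U)]
    refine Finset.card_le_card_of_injOn Prod.fst (fun _ _ => Finset.mem_univ _) ?_
    intro p' hp' p'' hp'' e
    simp only [Finset.coe_filter, Finset.mem_univ, true_and, Set.mem_setOf_eq] at hp' hp''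
    refine Prod.ext e (hε ?_)
    rw [e] at hp'
    exact add_left_cancel (hp'.trans hp''.symm)
  have h1 : (#{p : U × U | ε p.1 + ε p.2 = 0} : ℝ) ≤ Fintype.card U := by exact_mod_cast this
  have hsplit : (#{p : U × U | ε p.1 + ε p.2 = 0} : ℝ) + #{p : U × U | ¬ε p.1 + ε p.2 = 0} =
      (Fintype.card U : ℝ) * Fintype.card U := by
    rw [← Nat.cast_add, Finset.card_filter_add_card_filter_not, Finset.card_univ, Fintype.card_prod,
      Nat.cast_mul]
  have h2 : (2 : ℝ) ≤ Fintype.card U := by exact_mod_cast h2U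
  simp only [nsmul_eq_mul]
  nlinarith [mul_le_mul_of_nonneg_left h1 (sub_nonneg.2 h2)]

include hε hσ in
/-- Away from the characters trivial on `F`, the sums are small. -/
theorem K_pow_four {u : F} (hu : u ≠ 0) (ψ : AddChar (F × Additive U) ℂ)
    (hψ : ∃ x : F, ψ (x, 0) ≠ 1) (h2U : 2 ≤ Fintype.card U) :
    (Fintype.card U : ℝ) * ‖K ε u ψ‖ ^ 4 ≤
      (Fintype.card F : ℝ) * (3 * (Fintype.card U : ℝ) ^ 2 - 2 * Fintype.card U) := by
  set tw : AddChar F ℂ → AddChar (F × Additive U) ℂ := fun φ =>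
    ψ * φ.compAddMonoidHom (AddMonoidHom.fst F (Additive U)) with htw
  set φν : U → AddChar F ℂ := fun ν =>
    ψ.compAddMonoidHom ((AddMonoidHom.inl F (Additive U)).comp (AddMonoidHom.mulLeft (ε ν - 1)))
    with hφν
  have hinv : ∀ ν, ‖K ε u (tw (φν ν))‖ = ‖K ε u ψ‖ := by
    intro ν
    have e : K ε u (tw (φν ν)) = ψ (0, -Additive.ofMul ν) * K ε u ψ := by
      rw [K, K, Finset.mul_sum]
      refine Fintype.sum_equiv (Equiv.mulLeft ν) _ _ fun d => ?_
      simp only [htw, hφν, AddChar.mul_apply, AddChar.compAddMonoidHom_apply, AddMonoidHom.coe_fst,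
        AddMonoidHom.coe_comp, Function.comp_apply, AddMonoidHom.coe_mulLeft, AddMonoidHom.inl_apply,
        Equiv.coe_mulLeft, ← AddChar.map_add_eq_mul]
      congr 1
      simp only [pt, Prod.mk_add_mk, map_mul, ofMul_mul]
      refine Prod.ext ?_ ?_
      · simp only; ring
      · simp only; abel
    rw [e, norm_mul, AddChar.norm_apply, one_mul]
  have hinj : Function.Injective φν := by
    intro ν ν' e
    by_contra hne
    have hsub : ε ν - ε ν' ≠ 0 := sub_ne_zero.2 fun h => hne (hε h)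
    obtain ⟨x, hx⟩ := hψ
    apply hx
    have h1 := DFunLike.congr_fun e (x / (ε ν - ε ν'))
    simp only [hφν, AddChar.compAddMonoidHom_apply, AddMonoidHom.coe_comp, Function.comp_apply,
      AddMonoidHom.coe_mulLeft, AddMonoidHom.inl_apply] at h1
    have hne0 : ψ ((ε ν' - 1) * (x / (ε ν - ε ν')), 0) ≠ 0 := (AddChar.val_isUnit ψ _).ne_zero
    apply mul_right_cancel₀ hne0
    rw [one_mul, ← AddChar.map_add_eq_mul, ← h1, Prod.mk_add_mk, add_zero]
    congr 2
    field_simp
    ring
  have h := moment_two (G := F) (fun p : U × U => u * (ε p.1 + ε p.2))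
    (fun p => ψ (pt ε u p.1 + pt ε u p.2)) (fun p => AddChar.norm_apply ψ _)
  have e : ∀ φ : AddChar F ℂ,
      ∑ p : U × U, ψ (pt ε u p.1 + pt ε u p.2) * φ (u * (ε p.1 + ε p.2)) = K ε u (tw φ) ^ 2 := by
    intro φ
    rw [K_sq]
    refine Finset.sum_congr rfl fun p _ => ?_
    simp [htw, pt, mul_add]
  simp only [e, norm_pow, ← pow_mul, Nat.reduceMul, mul_right_inj' hu] at h
  calc (Fintype.card U : ℝ) * ‖K ε u ψ‖ ^ 4
      = ∑ φ ∈ Finset.univ.image φν, ‖K ε u (tw φ)‖ ^ 4 := by
        rw [Finset.sum_image fun a _ b _ e => hinj e]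
        simp [hinv]
    _ ≤ ∑ φ : AddChar F ℂ, ‖K ε u (tw φ)‖ ^ 4 :=
        Finset.sum_le_univ_sum_of_nonneg fun φ => pow_nonneg (norm_nonneg _) _
    _ ≤ _ := h.trans (mul_le_mul_of_nonneg_left (card_sum_eq σ ε hε hσ h2U) (Nat.cast_nonneg _))

omit [DecidableEq F] [DecidableEq U] in
theorem K_zero_of_trivial (u : F) {ψ : AddChar (F × Additive U) ℂ} (h0 : ψ ≠ 0)
    (h : ∀ x : F, ψ (x, 0) = 1) : K ε u ψ = 0 := by
  set χ : AddChar (Additive U) ℂ := ψ.compAddMonoidHom (AddMonoidHom.inr F (Additive U)) with hχ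
  have e : ∀ x d, ψ (x, d) = χ d := fun x d => by
    have := AddChar.map_add_eq_mul ψ (x, 0) (0, d)
    rw [h x, one_mul, Prod.mk_add_mk, add_zero, zero_add] at this
    simpa [hχ] using this
  have hne : χ ≠ 0 := fun hc => h0 (by
    ext ⟨x, d⟩
    rw [e, hc]
    simp)
  rw [K, ← AddChar.sum_eq_zero_iff_ne_zero.2 hne]
  exact Fintype.sum_equiv Additive.ofMul _ _ fun d => e _ _

theorem map_sum_prod {A κ : Type*} [AddCommMonoid A] (ψ : AddChar A ℂ) (f : κ → A) (s : Finset κ) :
    ψ (∑ i ∈ s, f i) = ∏ i ∈ s, ψ (f i) := by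
  classical
  induction s using Finset.induction with
  | empty => simp
  | insert a s ha ih =>
    rw [Finset.sum_insert ha, Finset.prod_insert ha, AddChar.map_add_eq_mul, ih]

include hε hσ in
/-- Three weights with prescribed sum and product form one triple up to order. -/
theorem triple_perm {a b c a' b' c' : U} (h1 : ε a' + ε b' + ε c' = ε a + ε b + ε c)
    (h2 : a' * b' * c' = a * b * c) :
    (a', b', c') = (a, b, c) ∨ (a', b', c') = (a, c, b) ∨ (a', b', c') = (b, a, c) ∨
      (a', b', c') = (b, c, a) ∨ (a', b', c') = (c, a, b) ∨ (a', b', c') = (c, b, a) := by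
  have h3 : ε a' * ε b' * ε c' = ε a * ε b * ε c := by simp only [← map_mul, h2]
  have hc := congrArg σ h1
  simp only [map_add] at hc
  have he2 : ε a' * ε b' + ε a' * ε c' + ε b' * ε c' = ε a * ε b + ε a * ε c + ε b * ε c := by
    linear_combination (ε a * ε b * ε c) * hc + (σ (ε a') + σ (ε b') + σ (ε c')) * h3 -
      (ε b' * ε c') * hσ a' - (ε a' * ε c') * hσ b' - (ε a' * ε b') * hσ c' +
      (ε b * ε c) * hσ a + (ε a * ε c) * hσ b + (ε a * ε b) * hσ c
  have h4 : (ε a' - ε a) * ((ε a' - ε b) * (ε a' - ε c)) = 0 := by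
    linear_combination (ε a' * ε a') * h1 - (ε a') * he2 + h3
  rcases mul_eq_zero.1 h4 with h | h
  · have := hε (sub_eq_zero.1 h)
    subst this
    rw [add_assoc, add_assoc, add_right_inj] at h1
    rw [mul_assoc, mul_assoc] at h2
    rcases eq_or_swap ε hε h1 (mul_left_cancel h2) with e | e <;> simp_all
  rcases mul_eq_zero.1 h with h | h
  · have := hε (sub_eq_zero.1 h)
    subst this
    have h1' : ε b' + ε c' = ε a + ε c := by linear_combination h1
    have h2' : b' * c' = a * c :=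
      mul_left_cancel (a := a') (by rw [← mul_assoc, h2, ← mul_assoc, mul_comm a a'])
    rcases eq_or_swap ε hε h1' h2' with e | e <;> simp_all
  · have := hε (sub_eq_zero.1 h)
    subst this
    have h1' : ε b' + ε c' = ε a + ε b := by linear_combination h1
    have h2' : b' * c' = a * b :=
      mul_left_cancel (a := a') (by rw [← mul_assoc, h2]; exact mul_comm _ _)
    rcases eq_or_swap ε hε h1' h2' with e | e <;> simp_all

include hε hσ in
/-- The sixth moment. -/
theorem moment_six {u : F} (hu : u ≠ 0) :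
    ∑ ψ : AddChar (F × Additive U) ℂ, ‖K ε u ψ‖ ^ 6 ≤
      (Fintype.card F : ℝ) * Fintype.card U *
        (6 * (Fintype.card U : ℝ) ^ 3 - 9 * (Fintype.card U : ℝ) ^ 2 + 4 * Fintype.card U) := by
  have h := moment_two (G := F × Additive U)
    (fun p : U × U × U => pt ε u p.1 + (pt ε u p.2.1 + pt ε u p.2.2)) (fun _ => 1) (fun _ => by simp)
  have e : ∀ ψ : AddChar (F × Additive U) ℂ,
      ∑ p : U × U × U, (1 : ℂ) * ψ (pt ε u p.1 + (pt ε u p.2.1 + pt ε u p.2.2)) = K ε u ψ ^ 3 := by
    intro ψ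
    rw [pow_succ', K_sq, K, Finset.sum_mul_sum, Fintype.sum_prod_type]
    simp [AddChar.map_add_eq_mul]
  simp only [e, norm_pow, ← pow_mul, Nat.reduceMul] at h
  let w : U × U × U → ℝ := fun p =>
    if p.1 = p.2.1 then (if p.2.2 = p.1 then 1 else 3)
    else (if p.2.2 = p.1 ∨ p.2.2 = p.2.1 then 3 else 6)
  have hw : ∀ p : U × U × U, (#{y : U × U × U | pt ε u y.1 + (pt ε u y.2.1 + pt ε u y.2.2) =
      pt ε u p.1 + (pt ε u p.2.1 + pt ε u p.2.2)} : ℝ) ≤ w p := by
    rintro ⟨a, b, c⟩
    have hsub : ∀ y ∈ ({y : U × U × U | pt ε u y.1 + (pt ε u y.2.1 + pt ε u y.2.2) =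
        pt ε u a + (pt ε u b + pt ε u c)} : Finset (U × U × U)),
        y = (a, b, c) ∨ y = (a, c, b) ∨ y = (b, a, c) ∨ y = (b, c, a) ∨ y = (c, a, b) ∨
          y = (c, b, a) := by
      rintro ⟨a', b', c'⟩ hy
      simp only [Finset.mem_filter, Finset.mem_univ, true_and, pt, Prod.mk_add_mk, Prod.mk.injEq,
        ← mul_add, mul_right_inj' hu, ← ofMul_mul, EmbeddingLike.apply_eq_iff_eq] at hy
      exact triple_perm σ ε hε hσ (by rw [add_assoc, hy.1, add_assoc])
        (by rw [mul_assoc, hy.2, mul_assoc])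
    have bound : ∀ (t : Finset (U × U × U)) (m : ℕ), t.card ≤ m →
        (∀ y : U × U × U, (y = (a, b, c) ∨ y = (a, c, b) ∨ y = (b, a, c) ∨ y = (b, c, a) ∨
          y = (c, a, b) ∨ y = (c, b, a)) → y ∈ t) →
        (#{y : U × U × U | pt ε u y.1 + (pt ε u y.2.1 + pt ε u y.2.2) =
          pt ε u a + (pt ε u b + pt ε u c)} : ℝ) ≤ (m : ℝ) := fun t m ht hm =>
      Nat.cast_le.2 ((Finset.card_le_card fun y hy => hm y (hsub y hy)).trans ht)
    simp only [w]
    rcases eq_or_ne a b with rfl | hab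
    · rw [if_pos rfl]
      rcases eq_or_ne c a with rfl | hca
      · rw [if_pos rfl]
        exact_mod_cast bound {(c, c, c)} 1 (by simp) (fun y hy => by simpa using hy)
      · rw [if_neg hca]
        exact_mod_cast bound {(a, a, c), (a, c, a), (c, a, a)} 3 Finset.card_le_three
          (fun y hy => by rcases hy with rfl | rfl | rfl | rfl | rfl | rfl <;> simp)
    · rw [if_neg hab]
      by_cases hc : c = a ∨ c = b
      · rw [if_pos hc]
        rcases hc with rfl | rfl
        · exact_mod_cast bound {(c, b, c), (c, c, b), (b, c, c)} 3 Finset.card_le_three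
            (fun y hy => by rcases hy with rfl | rfl | rfl | rfl | rfl | rfl <;> simp)
        · exact_mod_cast bound {(a, c, c), (c, a, c), (c, c, a)} 3 Finset.card_le_three
            (fun y hy => by rcases hy with rfl | rfl | rfl | rfl | rfl | rfl <;> simp)
      · rw [if_neg hc]
        refine le_of_le_of_eq
          (bound {(a, b, c), (a, c, b), (b, a, c), (b, c, a), (c, a, b), (c, b, a)} 6 ?_
            (fun y hy => by simpa using hy)) (by norm_num)
        exact (Finset.card_insert_le _ _).trans (Nat.succ_le_succ ((Finset.card_insert_le _ _).trans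
          (Nat.succ_le_succ ((Finset.card_insert_le _ _).trans (Nat.succ_le_succ
            Finset.card_le_three)))))
  have hsumw : ∑ p : U × U × U, w p =
      6 * (Fintype.card U : ℝ) ^ 3 - 9 * (Fintype.card U : ℝ) ^ 2 + 4 * Fintype.card U := by
    have inner : ∀ a b : U, ∑ c : U, w (a, b, c) =
        if a = b then 3 * (Fintype.card U : ℝ) - 2 else 6 * Fintype.card U - 6 := by
      intro a b
      simp only [w]
      rcases eq_or_ne a b with rfl | hab
      · simp only [if_pos rfl, if_true]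
        rw [show (fun c : U => (if c = a then (1 : ℝ) else 3)) =
          fun c => 3 - 2 * (if c = a then 1 else 0) from funext fun c => by split_ifs <;> norm_num]
        rw [Finset.sum_sub_distrib, Finset.sum_const, ← Finset.mul_sum, Finset.sum_ite_eq']
        simp
        ring
      · simp only [if_neg hab]
        rw [show (fun c : U => (if c = a ∨ c = b then (3 : ℝ) else 6)) =
          fun c => 6 - 3 * (if c = a then 1 else 0) - 3 * (if c = b then 1 else 0) from
            funext fun c => by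
              rcases eq_or_ne c a with rfl | h
              · simp [hab]; norm_num
              · rcases eq_or_ne c b with rfl | h' <;> simp [h, *] <;> norm_num]
        rw [Finset.sum_sub_distrib, Finset.sum_sub_distrib, Finset.sum_const, ← Finset.mul_sum,
          ← Finset.mul_sum, Finset.sum_ite_eq', Finset.sum_ite_eq']
        simp
        ring
    rw [Fintype.sum_prod_type]
    simp only [Fintype.sum_prod_type, inner]
    have e2 : ∀ a : U, ∑ b : U, (if a = b then 3 * (Fintype.card U : ℝ) - 2 else 6 * Fintype.card U - 6)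
        = (6 * (Fintype.card U : ℝ) - 6) * Fintype.card U - (3 * (Fintype.card U : ℝ) - 4) := fun a => by
      rw [show (fun b : U => (if a = b then 3 * (Fintype.card U : ℝ) - 2 else 6 * Fintype.card U - 6)) =
        fun b => (6 * (Fintype.card U : ℝ) - 6) - (3 * (Fintype.card U : ℝ) - 4) * (if a = b then 1 else 0) from
          funext fun b => by split_ifs <;> ring]
      rw [Finset.sum_sub_distrib, Finset.sum_const, ← Finset.mul_sum, Finset.sum_ite_eq]
      simp
      ring
    simp only [e2, Finset.sum_const, Finset.card_univ, nsmul_eq_mul]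
    ring
  refine h.trans (le_of_le_of_eq (mul_le_mul_of_nonneg_left
    ((Finset.sum_le_sum fun p _ => hw p).trans_eq hsumw) (Nat.cast_nonneg _)) ?_)
  simp [Fintype.card_prod]

theorem six_le (a b c d e f : ℝ) :
    a * b * c * d * e * f ≤ (a ^ 6 + b ^ 6 + c ^ 6 + d ^ 6 + e ^ 6 + f ^ 6) / 6 := by
  have three : ∀ x y z : ℝ, 3 * ((x * y * z) ^ 2) ≤ x ^ 6 + y ^ 6 + z ^ 6 := fun x y z => by
    nlinarith [mul_nonneg (add_nonneg (add_nonneg (sq_nonneg x) (sq_nonneg y)) (sq_nonneg z))
      (add_nonneg (add_nonneg (sq_nonneg (x ^ 2 - y ^ 2)) (sq_nonneg (y ^ 2 - z ^ 2)))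
        (sq_nonneg (z ^ 2 - x ^ 2)))]
  nlinarith [three a b c, three d e f, sq_nonneg (a * b * c - d * e * f)]

/-- The base of the main inequality. -/
theorem base_bound (q : ℕ) (hq : 2 ≤ q) (h6 : q ≠ 6) :
    q ^ 4 * (3 * q + 1) * (q + 1) * (6 * q ^ 3 + 9 * q ^ 2 + 4 * q + 1) + 100 * q ^ 2 * (q + 1) ^ 3 <
      (q + 1) ^ 10 := by
  rcases Nat.lt_or_ge q 20 with h | h
  · interval_cases q <;> first | contradiction | norm_num
  · set U := q + 1 with hU
    have h1 : q ^ 4 ≤ U ^ 4 := Nat.pow_le_pow_left (by omega) 4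
    have h2 : 3 * q + 1 ≤ 3 * U := by omega
    have h3 : 6 * q ^ 3 + 9 * q ^ 2 + 4 * q + 1 ≤ 6 * U ^ 3 := by
      rw [hU]; nlinarith
    have h4 : q ^ 4 * (3 * q + 1) * U * (6 * q ^ 3 + 9 * q ^ 2 + 4 * q + 1) ≤
        U ^ 4 * (3 * U) * U * (6 * U ^ 3) :=
      Nat.mul_le_mul (Nat.mul_le_mul (Nat.mul_le_mul h1 h2) le_rfl) h3
    have h5 : 100 * q ^ 2 * U ^ 3 ≤ 100 * U ^ 2 * U ^ 3 :=
      Nat.mul_le_mul (Nat.mul_le_mul le_rfl (Nat.pow_le_pow_left (by omega) 2)) le_rfl
    have h21 : 21 ≤ U := by omega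
    have h7 : U ^ 5 ≤ U ^ 9 := Nat.pow_le_pow_right (by omega) (by omega)
    have h10 : 21 * U ^ 9 ≤ U ^ 10 := by rw [pow_succ' U 9]; exact Nat.mul_le_mul h21 le_rfl
    have h8 : 100 * U ^ 5 ≤ U ^ 9 := by
      rw [show U ^ 9 = U ^ 4 * U ^ 5 by ring]
      exact Nat.mul_le_mul (le_trans (by norm_num) (Nat.pow_le_pow_left h21 4)) le_rfl
    have h9 : 0 < U ^ 9 := Nat.pow_pos (by omega)
    calc _ ≤ U ^ 4 * (3 * U) * U * (6 * U ^ 3) + 100 * U ^ 2 * U ^ 3 := Nat.add_le_add h4 h5
      _ = 18 * U ^ 9 + 100 * U ^ 5 := by ring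
      _ < U ^ 10 := by omega

/-- The order of a finite field is not six squared. -/
theorem ne_six (hF : Fintype.card F = q ^ 2) : q ≠ 6 := by
  rintro rfl
  obtain ⟨p, k, hp, hk, hpk⟩ := FiniteField.isPrimePow_card F
  rw [hF] at hpk
  have hp' := hp.nat_prime
  have h2 : 2 ∣ p ^ k := hpk ▸ by norm_num
  have h3 : 3 ∣ p ^ k := hpk ▸ by norm_num
  have e2 := (Nat.prime_dvd_prime_iff_eq Nat.prime_two hp').1 (Nat.prime_two.dvd_of_dvd_pow h2)
  have e3 := (Nat.prime_dvd_prime_iff_eq Nat.prime_three hp').1 (Nat.prime_three.dvd_of_dvd_pow h3)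
  omega

/-- Main counting statement. -/
theorem exists_avoid (hε : Function.Injective ε) (hσ : ∀ d, σ (ε d) * ε d = 1)
    (hq : 2 ≤ q) (hF : Fintype.card F = q ^ 2) (hU : Fintype.card U = q + 1)
    (hn : 10 ≤ Fintype.card ι) (u : ι → F) (hu : ∀ i, u i ≠ 0) (bad : Finset (ι → U))
    (hbad : bad.card ≤ Fintype.card ι ^ 2 * (q + 1) ^ 2) :
    ∃ d, d ∉ bad ∧ ∏ i, d i = 1 ∧ ∑ i, u i * ε (d i) = 0 := by
  by_contra hne
  push Not at hne
  set n := Fintype.card ι with hn'
  set S : Finset (ι → U) := {d | (∑ i, pt ε (u i) (d i)) = 0} with hS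
  have hsub : S ⊆ bad := fun d hd => by
    simp only [hS, pt, Finset.mem_filter, Finset.mem_univ, true_and, Prod.ext_iff, Prod.fst_sum,
      Prod.snd_sum, Prod.fst_zero, Prod.snd_zero] at hd
    by_contra hb
    exact hne d hb (Additive.ofMul.injective (by rw [ofMul_prod, hd.2, ofMul_one])) hd.1
  have hSle : (S.card : ℝ) ≤ (n : ℝ) ^ 2 * (q + 1 : ℝ) ^ 2 := by
    exact_mod_cast (Finset.card_le_card hsub).trans hbad
  -- the count by characters
  have hcount : (S.card : ℂ) * (q ^ 2 * (q + 1) : ℝ) =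
      ∑ ψ : AddChar (F × Additive U) ℂ, ∏ i, K ε (u i) ψ := by
    simp only [K, Fintype.prod_sum, ← map_sum_prod]
    rw [Finset.sum_comm]
    simp only [AddChar.sum_apply_eq_ite, Fintype.card_prod, Fintype.card_additive, hF, hU]
    rw [Finset.sum_ite, Finset.sum_const_zero, add_zero, Finset.sum_const, nsmul_eq_mul, ← hS]
    push_cast
    ring
  have hG : (Fintype.card F : ℝ) = (q : ℝ) ^ 2 := by rw [hF]; push_cast; ring
  have hU' : (Fintype.card U : ℝ) = (q : ℝ) + 1 := by rw [hU]; push_cast; ring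
  set r : ℝ := Real.sqrt (Real.sqrt ((q : ℝ) ^ 2 * (3 * (q : ℝ) + 1))) with hr
  have hr4 : r ^ 4 = (q : ℝ) ^ 2 * (3 * (q : ℝ) + 1) := by
    rw [show r ^ 4 = (r ^ 2) ^ 2 by ring, hr, Real.sq_sqrt (Real.sqrt_nonneg _),
      Real.sq_sqrt (by positivity)]
  have hr0 : 0 ≤ r := Real.sqrt_nonneg _
  have hq2 : (2 : ℝ) ≤ q := by exact_mod_cast hq
  have hrQ : r ≤ (q : ℝ) + 1 := by
    refine le_of_pow_le_pow_left₀ (n := 4) (by norm_num) (by positivity) ?_
    rw [hr4]
    nlinarith [pow_nonneg (show (0 : ℝ) ≤ q by positivity) 3]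
  obtain ⟨e⟩ : Nonempty (Fin 6 ↪ ι) :=
    Function.Embedding.nonempty_of_card_le (by simp; omega)
  set six : Finset ι := Finset.univ.map e with hsix
  have hterm : ∀ ψ : AddChar (F × Additive U) ℂ, ψ ≠ 0 → ‖∏ i, K ε (u i) ψ‖ ≤
      r ^ (n - 6) * ((∑ j, ‖K ε (u (e j)) ψ‖ ^ 6) / 6) := by
    intro ψ hψ
    by_cases htr : ∀ x : F, ψ (x, 0) = 1
    · rw [Finset.prod_eq_zero (Finset.mem_univ (e 0)) (K_zero_of_trivial ε _ hψ htr), norm_zero]
      exact mul_nonneg (pow_nonneg hr0 _)
        (div_nonneg (Finset.sum_nonneg fun _ _ => pow_nonneg (norm_nonneg _) _) (by norm_num))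
    push Not at htr
    have hK : ∀ i, ‖K ε (u i) ψ‖ ≤ r := by
      intro i
      refine le_of_pow_le_pow_left₀ (n := 4) (by norm_num) hr0 ?_
      have := K_pow_four σ ε hε hσ (hu i) ψ htr (by omega)
      rw [hG, hU'] at this
      rw [hr4]
      nlinarith
    rw [norm_prod, ← Finset.prod_compl_mul_prod six, Finset.prod_map, Fin.prod_univ_six,
      Fin.sum_univ_six]
    refine mul_le_mul ?_ (six_le _ _ _ _ _ _)
      (by positivity) (pow_nonneg hr0 _)
    refine (Finset.prod_le_prod (fun i _ => norm_nonneg _) (fun i _ => hK i)).trans_eq ?_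
    rw [Finset.prod_const, Finset.card_compl, Finset.card_map, Finset.card_univ, Fintype.card_fin]
  set E : ℝ := 6 * (q : ℝ) ^ 3 + 9 * (q : ℝ) ^ 2 + 4 * q + 1 with hE
  have hE0 : 0 ≤ E := by positivity
  have herr : ‖∑ ψ ∈ (Finset.univ : Finset (AddChar (F × Additive U) ℂ)).erase 0,
      ∏ i, K ε (u i) ψ‖ ≤ r ^ (n - 6) * ((q : ℝ) ^ 2 * (q + 1) * E) := by
    refine (norm_sum_le _ _).trans ((Finset.sum_le_sum fun ψ hψ =>
      hterm ψ (Finset.ne_of_mem_erase hψ)).trans ?_)
    rw [← Finset.mul_sum, ← Finset.sum_div]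
    refine mul_le_mul_of_nonneg_left ?_ (pow_nonneg hr0 _)
    rw [div_le_iff₀ (by norm_num : (0 : ℝ) < 6)]
    refine (Finset.sum_le_univ_sum_of_nonneg fun ψ =>
      Finset.sum_nonneg fun _ _ => pow_nonneg (norm_nonneg _) _).trans ?_
    rw [Finset.sum_comm]
    refine (Finset.sum_le_sum fun j _ => moment_six σ ε hε hσ (hu (e j))).trans_eq ?_
    rw [hG, hU', hE]
    simp
    ring
  have hmain : (∏ i, K ε (u i) (0 : AddChar (F × Additive U) ℂ)) = (((q : ℝ) + 1) ^ n : ℝ) := by
    simp [K, hU, hn']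
  rw [← Finset.add_sum_erase _ _ (Finset.mem_univ (0 : AddChar (F × Additive U) ℂ)), hmain] at hcount
  have h1 : (((q : ℝ) + 1) ^ n - S.card * ((q : ℝ) ^ 2 * (q + 1))) ≤
      r ^ (n - 6) * ((q : ℝ) ^ 2 * (q + 1) * E) := by
    refine le_trans ?_ herr
    rw [eq_sub_of_add_eq' hcount.symm, ← norm_neg, neg_sub]
    refine le_of_le_of_eq (le_abs_self _) ?_
    rw [← Real.norm_eq_abs, ← Complex.norm_real]
    congr 1
    push_cast
    ring
  -- the error and the bad set stay below the main term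
  have key : ∀ m : ℕ, r ^ (m + 4) * ((q : ℝ) ^ 2 * (q + 1) * E) +
      ((m : ℝ) + 10) ^ 2 * (q + 1) ^ 2 * ((q : ℝ) ^ 2 * (q + 1)) < ((q : ℝ) + 1) ^ (m + 10) := by
    intro m
    induction m with
    | zero =>
      have h : ((q ^ 4 * (3 * q + 1) * (q + 1) * (6 * q ^ 3 + 9 * q ^ 2 + 4 * q + 1) +
          100 * q ^ 2 * (q + 1) ^ 3 : ℕ) : ℝ) < (((q + 1) ^ 10 : ℕ) : ℝ) :=
        Nat.cast_lt.2 (base_bound q hq (ne_six hF))
      push_cast at h
      rw [zero_add, zero_add, hr4, hE]
      convert h using 1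
      push_cast
      ring
    | succ m ih =>
      refine lt_of_le_of_lt ?_ (lt_of_lt_of_eq (mul_lt_mul_of_pos_left ih
        (show (0 : ℝ) < (q : ℝ) + 1 by positivity))
        (show ((q : ℝ) + 1) * ((q : ℝ) + 1) ^ (m + 10) = ((q : ℝ) + 1) ^ (m + 1 + 10) by ring))
      rw [mul_add ((q : ℝ) + 1), show m + 1 + 4 = m + 4 + 1 by omega, pow_succ' r]
      refine add_le_add (α := ℝ) ?_ ?_
      · rw [mul_assoc]
        exact mul_le_mul_of_nonneg_right hrQ (by positivity)
      · have hm0 : (0 : ℝ) ≤ m := Nat.cast_nonneg m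
        have hnn : ((m : ℝ) + 1 + 10) ^ 2 ≤ ((q : ℝ) + 1) * ((m : ℝ) + 10) ^ 2 :=
          le_trans (show ((m : ℝ) + 1 + 10) ^ 2 ≤ 3 * ((m : ℝ) + 10) ^ 2 by nlinarith)
            (mul_le_mul_of_nonneg_right (by linarith) (sq_nonneg _))
        push_cast
        refine le_trans (mul_le_mul_of_nonneg_right
          (mul_le_mul_of_nonneg_right hnn (sq_nonneg ((q : ℝ) + 1)))
          (show (0 : ℝ) ≤ (q : ℝ) ^ 2 * (q + 1) by positivity)) (le_of_eq ?_)
        ring
  obtain ⟨m, hm⟩ := Nat.exists_eq_add_of_le hn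
  have h2 := key m
  rw [show m + 4 = n - 6 by omega, show m + 10 = n by omega,
    show (m : ℝ) + 10 = (n : ℝ) by rw [hm]; push_cast; ring] at h2
  have h4 := mul_le_mul_of_nonneg_right hSle
    (show (0 : ℝ) ≤ (q : ℝ) ^ 2 * (q + 1) by positivity)
  linarith

end Cfsg.Lib.Linear.UDec.Count
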