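import Cfsg.Agent.Lib.Linear.UDec.Six

/-!
# Monomial elements of dimension four with prescribed matrix coefficient, even `q`
-/

set_option autoImplicit false

namespace Cfsg.Lib.Linear.UDec

open Module
open Cfsg.Lib.Linear Cfsg.Lib.Linear.Herm

variable {F : Type*} [Field F] [Fintype F] {q n : ℕ} {hF : Fintype.card F = q ^ 2}
  {e : Fin n → (Fin n → F)} {L : Subgroup ((Fin n → F) ≃ₗ[F] (Fin n → F))}

section field

variable (hF)

include hF in
theorem even_of_two (h2 : (2 : F) = 0) : ∃ s, q = 2 * s := by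
  rcases Nat.even_or_odd' q with ⟨s, h | h⟩
  · exact ⟨s, h⟩
  · exfalso
    have h0 := natCast_q_eq_zero' hF
    rw [h] at h0
    push_cast at h0
    rw [h2, zero_mul, zero_add] at h0
    exact one_ne_zero h0

/-- Fourth roots on the circle, even `q`. -/
theorem exists_fourth_root (h2 : (2 : F) = 0) {t : F} (ht : frob hF t * t = 1) :
    ∃ c : F, frob hF c * c = 1 ∧ c * c * c * c = t := by
  obtain ⟨s, hs⟩ := even_of_two hF h2
  have hsq : ∀ {t : F}, frob hF t * t = 1 → ∃ c : F, frob hF c * c = 1 ∧ c * c = t := by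
    intro t ht
    refine ⟨t ^ (s + 1), by rw [map_pow, ← mul_pow, ht, one_pow], ?_⟩
    rw [← pow_add, show s + 1 + (s + 1) = (q + 1) + 1 by omega, pow_succ, pow_succ, ← frob_apply hF, ht,
      one_mul]
  obtain ⟨a, ha, hae⟩ := hsq ht
  obtain ⟨c, hc, hce⟩ := hsq ha
  exact ⟨c, hc, by rw [← hae, ← hce]; ring⟩

/-- A quadrangle with two prescribed sides, the first phase not one. -/
theorem exists_quad_ne (h2 : (2 : F) = 0) {w a b c : F} (hw : w ≠ 0) (ha : a ≠ 0) (hb : b ≠ 0)
    (hc : c ≠ 0) : ∃ x y z : F, frob hF x * x = 1 ∧ frob hF y * y = 1 ∧ frob hF z * z = 1 ∧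
      x ≠ 1 ∧ a * x + b * y + c * z = w := by
  classical
  obtain ⟨s, hs⟩ := even_of_two hF h2
  set f : F → F → F → F := fun a b z => frob hF (a + b * z) * (a + b * z) with hf
  set V := ((normOne hF).erase 1).image (f w a) with hV
  set W := (((normOne hF).image (f b c)).erase 0) with hW
  have hz0 : (((normOne hF).erase 1).filter fun z => f w a z = 0).card ≤ 1 :=
    Finset.card_le_one.2 fun z hz z' hz' => by
      simp only [Finset.mem_filter, hf, mul_eq_zero, map_eq_zero, or_self] at hz hz'
      exact mul_left_cancel₀ ha (by linear_combination hz.2 - hz'.2)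
  have h1 : (((normOne hF).erase 1).filter fun z => ¬ f w a z = 0).card ≤ 2 * (V.erase 0).card := by
    refine le_trans (Finset.card_le_mul_card_image (f := f w a) _ 2 fun y _ =>
      (Finset.card_le_card fun z hz => ?_).trans
      (card_fibre_le hF (frob hF w * w + frob hF a * a) (b := frob hF w * a)
        (mul_ne_zero (by simpa using hw) ha) y)) (Nat.mul_le_mul_left 2 (Finset.card_le_card fun y hy => ?_))
    · simp only [Finset.mem_filter, Finset.mem_erase, mem_normOne] at hz ⊢
      refine ⟨hz.1.1.2, ?_⟩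
      rw [← hz.2]
      simp only [hf, map_add, map_mul, frob_frob]
      linear_combination (-(frob hF a * a)) * hz.1.1.2
    · obtain ⟨z, hz, rfl⟩ := Finset.mem_image.1 hy
      rw [Finset.mem_filter] at hz
      exact Finset.mem_erase.2 ⟨hz.2, Finset.mem_image_of_mem _ hz.1⟩
  have h3 := Finset.card_filter_add_card_filter_not (s := (normOne hF).erase 1) (fun z => f w a z = 0)
  have h4 := Finset.card_erase_add_one (show (1 : F) ∈ normOne hF by simp [mem_normOne])
  have h5 := card_normOne hF
  have h6 : q ≤ 2 * W.card := card_norm_values hF hb hc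
  obtain ⟨y₀, hy₀⟩ : (V.erase 0 ∩ W).Nonempty := by
    rw [← Finset.card_pos]
    have hsub : V.erase 0 ∪ W ⊆ (fixedSet hF).erase 0 := by
      intro y hy
      rcases Finset.mem_union.1 hy with h | h <;> obtain ⟨h0, h⟩ := Finset.mem_erase.1 h <;>
        obtain ⟨z, -, rfl⟩ := Finset.mem_image.1 h <;>
        exact Finset.mem_erase.2 ⟨h0, (mem_fixed hF).2 (by simp only [hf]; rw [map_mul, frob_frob, mul_comm])⟩
    have h7 := Finset.card_le_card hsub
    have h8 := Finset.card_union_add_card_inter (V.erase 0) W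
    have h9 := Finset.card_erase_add_one (show (0 : F) ∈ fixedSet hF by simp [mem_fixed])
    have h10 := card_fixed_le hF
    omega
  obtain ⟨hV', hW'⟩ := Finset.mem_inter.1 hy₀
  obtain ⟨h0, hV'⟩ := Finset.mem_erase.1 hV'
  obtain ⟨x, hx, e1⟩ := Finset.mem_image.1 hV'
  obtain ⟨z, hz, e2⟩ := Finset.mem_image.1 (Finset.mem_of_mem_erase hW')
  obtain ⟨hx1, hx⟩ := Finset.mem_erase.1 hx
  rw [mem_normOne] at hx hz
  have hS : b + c * z ≠ 0 := fun h => h0 (by rw [← e2]; simp only [hf, h, mul_zero])
  set y := (w + a * x) / (b + c * z) with hy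
  have hyn : frob hF y * y = 1 := by
    rw [hy, map_div₀, div_mul_div_comm, div_eq_one_iff_eq (mul_ne_zero ((map_ne_zero _).2 hS) hS)]
    exact e1.trans e2.symm
  refine ⟨x, y, y * z, hx, hyn, ?_, hx1, ?_⟩
  · rw [map_mul]; linear_combination (frob hF z * z) * hyn + hz
  · have hy' : y * (b + c * z) = w + a * x := div_mul_cancel₀ _ hS
    linear_combination hy' + a * x * h2

end field

namespace Over

variable (O : Over hF e L)
include O

/-- A coefficient killing the coordinate `k`. -/
theorem exists_even_four (h4 : n = 4) (h2 : (2 : F) = 0) {v : Fin n → F} (hv : hB hF n v v = 0)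
    (hfull : ∀ m, cd hF e v m ≠ 0) {k : Fin n} (hN : frob hF (cd hF e v k) * cd hF e v k ≠ 1)
    (hne : ∃ m m', frob hF (cd hF e v m) * cd hF e v m ≠ frob hF (cd hF e v m') * cd hF e v m') :
    ∃ g ∈ L, ∃ l : F, hB hF n v (g v) = l ∧ cd hF e (g v + l • v) k = 0 ∧
      ((∃ m, cd hF e (g v + l • v) m ≠ 0 ∧
          frob hF (cd hF e (g v + l • v) m) * cd hF e (g v + l • v) m ≠ 1) ∨
        ∃ a b c, a ≠ b ∧ a ≠ c ∧ b ≠ c ∧ cd hF e (g v + l • v) a ≠ 0 ∧
          cd hF e (g v + l • v) b ≠ 0 ∧ cd hF e (g v + l • v) c ≠ 0) := by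
  classical
  subst h4
  set P : Fin 4 → F := fun m => frob hF (cd hF e v m) * cd hF e v m with hP
  have hP0 : ∀ m, P m ≠ 0 := fun m => mul_ne_zero (by simpa using hfull m) (hfull m)
  have hsum : ∀ {i j l p : Fin 4}, i ≠ j → i ≠ l → i ≠ p → j ≠ l → j ≠ p → l ≠ p → ∀ G : Fin 4 → F,
      ∑ m, G m = G i + (G j + (G l + G p)) := by
    intro i j l p h1 h2 h3 h4 h5 h6 G
    rw [(Finset.eq_univ_of_card ({i, j, l, p} : Finset (Fin 4)) (by simp [h1, h2, h3, h4, h5, h6])).symm,
      Finset.sum_insert (by simp [h1, h2, h3]), Finset.sum_insert (by simp [h4, h5]), Finset.sum_pair h6]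
  -- a coordinate whose norm differs from two others
  obtain ⟨a, b, c, hka, hkb, hkc, hab, hac, hbc, hPab, hPac⟩ : ∃ a b c, k ≠ a ∧ k ≠ b ∧ k ≠ c ∧
      a ≠ b ∧ a ≠ c ∧ b ≠ c ∧ P a ≠ P b ∧ P a ≠ P c := by
    obtain ⟨i, hi⟩ := O.exists_other {k} (by simp)
    rw [Finset.mem_singleton] at hi
    obtain ⟨j, hj⟩ := O.exists_other {k, i} (Finset.card_le_two.trans_lt (by norm_num))
    simp only [Finset.mem_insert, Finset.mem_singleton, not_or] at hj
    obtain ⟨l, hl⟩ := O.exists_other {k, i, j} (Finset.card_le_three.trans_lt (by norm_num))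
    simp only [Finset.mem_insert, Finset.mem_singleton, not_or] at hl
    by_cases h1 : P i = P j
    · by_cases h2' : P i = P l
      · exfalso
        have hk : P k = P i := by
          rw [form_eq hF O.ortho, hsum (Ne.symm hi) (Ne.symm hj.1) (Ne.symm hl.1) (Ne.symm hj.2)
            (Ne.symm hl.2.1) (Ne.symm hl.2.2)] at hv
          simp only [hP] at h1 h2' ⊢
          linear_combination hv + h1 + h2' - 2 * (frob hF (cd hF e v i) * cd hF e v i) * h2
        obtain ⟨m, m', hm⟩ := hne
        have hall : ∀ m, P m = P i := fun m => by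
          have : m ∈ ({k, i, j, l} : Finset (Fin 4)) := by
            rw [Finset.eq_univ_of_card ({k, i, j, l} : Finset (Fin 4))
              (by simp [(Ne.symm hi), Ne.symm hj.1, Ne.symm hl.1, Ne.symm hj.2, Ne.symm hl.2.1, Ne.symm hl.2.2])]
            exact Finset.mem_univ m
          simp only [Finset.mem_insert, Finset.mem_singleton] at this
          rcases this with rfl | rfl | rfl | rfl
          exacts [hk, rfl, h1.symm, h2'.symm]
        exact hm ((hall m).trans (hall m').symm)
      · exact ⟨l, i, j, Ne.symm hl.1, (Ne.symm hi), Ne.symm hj.1, hl.2.1, hl.2.2, Ne.symm hj.2,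
          fun h => h2' h.symm, fun h => h2' (h1.trans h.symm)⟩
    · by_cases h2' : P i = P l
      · exact ⟨j, i, l, Ne.symm hj.1, (Ne.symm hi), Ne.symm hl.1, hj.2, Ne.symm hl.2.2, Ne.symm hl.2.1,
          fun h => h1 h.symm, fun h => h1 (h2'.trans h.symm)⟩
      · exact ⟨i, j, l, (Ne.symm hi), Ne.symm hj.1, Ne.symm hl.1, Ne.symm hj.2, Ne.symm hl.2.1, Ne.symm hl.2.2,
          h1, h2'⟩
  have hw : 1 + P k ≠ 0 := fun h => hN (by simp only [hP] at h; linear_combination h - h2)
  obtain ⟨x, y, z, hx, hy, hz, hx1, hxyz⟩ := exists_quad_ne hF h2 hw (hP0 a) (hP0 b) (hP0 c)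
  have hx0 : x ≠ 0 := fun h => by simp [h] at hx
  have hy0 : y ≠ 0 := fun h => by simp [h] at hy
  have hz0 : z ≠ 0 := fun h => by simp [h] at hz
  obtain ⟨c₀, hc₀, hc4⟩ := exists_fourth_root hF h2 (t := (x * y * z)⁻¹) (by
    rw [map_inv₀, ← mul_inv, inv_eq_one, map_mul, map_mul]
    linear_combination (frob hF y * y * (frob hF z * z)) * hx + (frob hF z * z) * hy + hz)
  set d : Fin 4 → F := fun m => c₀ * if m = a then x else if m = b then y else if m = c then z else 1 with hd
  have dk : d k = c₀ := by simp [hd, hka, hkb, hkc]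
  have da : d a = c₀ * x := by simp [hd]
  have db : d b = c₀ * y := by simp [hd, hab.symm]
  have dc : d c = c₀ * z := by simp [hd, hac.symm, hbc.symm]
  obtain ⟨g, hg, -, hg2⟩ := O.dg_mem d (fun m => by
    simp only [hd, map_mul]
    split_ifs
    · linear_combination (frob hF x * x) * hc₀ + hx
    · linear_combination (frob hF y * y) * hc₀ + hy
    · linear_combination (frob hF z * z) * hc₀ + hz
    · rw [map_one]; linear_combination hc₀) (by
    have : ∏ m, d m = c₀ * (c₀ * x * (c₀ * y * (c₀ * z))) := by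
      rw [(Finset.eq_univ_of_card ({k, a, b, c} : Finset (Fin 4))
        (by simp [hka, hkb, hkc, hab, hac, hbc])).symm, Finset.prod_insert (by simp [hka, hkb, hkc]),
        Finset.prod_insert (by simp [hab, hac]), Finset.prod_pair hbc, dk, da, db, dc]
    rw [this, show c₀ * (c₀ * x * (c₀ * y * (c₀ * z))) = c₀ * c₀ * c₀ * c₀ * (x * y * z) by ring, hc4,
      inv_mul_cancel₀ (mul_ne_zero (mul_ne_zero hx0 hy0) hz0)])
  have hl : hB hF 4 v (g v) = c₀ := by
    rw [form_eq hF O.ortho, hsum hka hkb hkc hab hac hbc, hg2, hg2, hg2, hg2, dk, da, db, dc]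
    simp only [hP] at hxyz
    linear_combination c₀ * hxyz + c₀ * (frob hF (cd hF e v k) * cd hF e v k) * h2
  have hcd : ∀ m, cd hF e (g v + c₀ • v) m = (d m + c₀) * cd hF e v m := fun m => by
    rw [cd_add, cd_smul, hg2]; ring
  have hca : cd hF e (g v + c₀ • v) a ≠ 0 := by
    rw [hcd, da]
    refine mul_ne_zero (fun h => hx1 ?_) (hfull a)
    refine mul_left_cancel₀ (a := c₀) (fun h0 => by simp [h0] at hc₀) ?_
    linear_combination h - c₀ * h2
  refine ⟨g, hg, c₀, hl, by rw [hcd, dk]; linear_combination (c₀ * cd hF e v k) * h2, ?_⟩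
  by_cases hNa : frob hF (cd hF e (g v + c₀ • v) a) * cd hF e (g v + c₀ • v) a = 1
  swap
  · exact Or.inl ⟨a, hca, hNa⟩
  refine Or.inr ?_
  -- one more vanishing coordinate would force two equal norms
  have key : ∀ {b c : Fin 4} {y z : F}, k ≠ b → k ≠ c → a ≠ b → a ≠ c → b ≠ c →
      d b = c₀ * y → d c = c₀ * z → frob hF z * z = 1 → P a * x + P b * y + P c * z = 1 + P k →
      cd hF e (g v + c₀ • v) b = 0 → P a = P c := by
    intro b c y z hkb hkc hab hac hbc db dc hz heq hb0
    have hc0' : c₀ ≠ 0 := fun h => by simp [h] at hc₀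
    rw [hcd, db] at hb0
    have hy1 : y = 1 := mul_left_cancel₀ hc0'
      (by linear_combination ((mul_eq_zero.1 hb0).resolve_right (hfull b)) - c₀ * h2)
    have hw0 : hB hF 4 (g v + c₀ • v) (g v + c₀ • v) = 0 := by
      simp only [map_add, LinearMap.add_apply, map_smul, LinearMap.map_smulₛₗ, LinearMap.smul_apply,
        smul_eq_mul, O.le_iso hg v v, hv, mul_zero, add_zero, zero_add,
        ← (hB_isSymm hF 4).eq v (g v), hl]
      linear_combination (frob hF c₀ * c₀) * h2
    rw [form_eq hF O.ortho, hsum hka hkb hkc hab hac hbc, hcd k, hcd a, hcd b, hcd c, dk, da, db, dc,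
      hy1] at hw0
    rw [hcd, da] at hNa
    simp only [hP] at heq ⊢
    rw [hy1] at heq
    rw [form_eq hF O.ortho, hsum hka hkb hkc hab hac hbc] at hv
    simp only [map_mul, map_add] at hw0 hNa
    -- the norms of `1 + x`, `1 + z`
    have e1 : (frob hF (cd hF e v a) * cd hF e v a) * (x + frob hF x) = 1 := by
      linear_combination hNa - (frob hF (cd hF e v a) * cd hF e v a) * (frob hF x * x + frob hF x + x + 1) * hc₀ -
        (frob hF (cd hF e v a) * cd hF e v a) * hx - (frob hF (cd hF e v a) * cd hF e v a) * h2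
    have e2 : (frob hF (cd hF e v c) * cd hF e v c) * (z + frob hF z) = 1 := by
      have h3 : c₀ + c₀ = 0 := by linear_combination c₀ * h2
      have h4 : frob hF c₀ + frob hF c₀ = 0 := by linear_combination frob hF c₀ * h2
      simp only [mul_one, h3, h4, mul_zero, zero_mul, add_zero, zero_add] at hw0
      linear_combination hw0 - hNa -
        (frob hF (cd hF e v c) * cd hF e v c) * (frob hF z * z + frob hF z + z + 1) * hc₀ -
        (frob hF (cd hF e v c) * cd hF e v c) * hz -
        (frob hF (cd hF e v c) * cd hF e v c) * h2 - h2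
    set A := frob hF (cd hF e v a) * cd hF e v a
    set C := frob hF (cd hF e v c) * cd hF e v c
    have hAf : frob hF A = A := by simp only [A, map_mul, frob_frob]; ring
    have hCf : frob hF C = C := by simp only [C, map_mul, frob_frob]; ring
    have e3 : A * (1 + x) + C * (1 + z) = 1 := by linear_combination heq + hv - frob hF (cd hF e v b) * cd hF e v b * h2
    have e4 : A * (1 + frob hF x) + C * (1 + frob hF z) = 1 := by
      have := congrArg (frob hF) e3
      simpa only [map_add, map_mul, map_one, hAf, hCf] using this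
    linear_combination (-(C * (1 + frob hF z))) * e3 - (1 - A * (1 + x)) * e4 + C * e2 + C * C * hz +
      (1 - A) * e1 - A * A * hx + (A + C * C - A * A) * h2
  refine ⟨a, b, c, hab, hac, hbc, hca, fun h => hPac (key hkb hkc hab hac hbc db dc hz hxyz h),
    fun h => hPab (key hkc hkb hac hab hbc.symm dc db hy (by linear_combination hxyz) h)⟩

/-- A vector with all norms equal moves to one with two different norms. -/
theorem exists_even_flat (h4 : n = 4) (h2 : (2 : F) = 0) (hq : 4 ≤ q) {v : Fin n → F}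
    (hfull : ∀ m, cd hF e v m ≠ 0)
    (hflat : ∀ m m', frob hF (cd hF e v m) * cd hF e v m = frob hF (cd hF e v m') * cd hF e v m') :
    ∃ g ∈ L, ∃ l : F, hB hF n v (g v) = l ∧ (∀ m, cd hF e (g v + l • v) m ≠ 0) ∧
      ∃ m m', frob hF (cd hF e (g v + l • v) m) * cd hF e (g v + l • v) m ≠
        frob hF (cd hF e (g v + l • v) m') * cd hF e (g v + l • v) m' := by
  classical
  subst h4
  set A := frob hF (cd hF e v 0) * cd hF e v 0 with hA
  have hA0 : A ≠ 0 := mul_ne_zero (by simpa using hfull 0) (hfull 0)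
  have hAf : frob hF A = A := by rw [hA, map_mul, frob_frob]; ring
  obtain ⟨ν, hν, hνs⟩ := exists_normOne hF
    (((normOne hF).filter fun z => 0 + 1 * z + frob hF 1 * frob hF z = 0) ∪
      (normOne hF).filter fun z => 0 + 1 * z + frob hF 1 * frob hF z = A⁻¹)
    (lt_of_le_of_lt ((Finset.card_union_le _ _).trans (Nat.add_le_add (card_fibre_le hF 0 one_ne_zero 0)
      (card_fibre_le hF 0 one_ne_zero A⁻¹))) (by omega))
  simp only [Finset.mem_union, Finset.mem_filter, mem_normOne, hν, true_and, not_or, map_one, zero_add,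
    one_mul] at hνs
  obtain ⟨g, hg, -, hg2⟩ := O.dg_mem ![ν, frob hF ν, 1, 1] (fun m => by
    fin_cases m
    exacts [hν, show frob hF (frob hF ν) * frob hF ν = 1 by rw [frob_frob]; linear_combination hν,
      show frob hF (1 : F) * 1 = 1 by simp, show frob hF (1 : F) * 1 = 1 by simp]) (by
    simp [Fin.prod_univ_four]; linear_combination hν)
  set s := ν + frob hF ν with hs
  have hl : hB hF 4 v (g v) = A * s := by
    rw [form_eq hF O.ortho, Fin.sum_univ_four, hg2, hg2, hg2, hg2]
    show frob hF (cd hF e v 0) * (ν * cd hF e v 0) + frob hF (cd hF e v 1) * (frob hF ν * cd hF e v 1) +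
      frob hF (cd hF e v 2) * (1 * cd hF e v 2) + frob hF (cd hF e v 3) * (1 * cd hF e v 3) = A * s
    rw [hs, hA]
    linear_combination frob hF ν * hflat 1 0 + hflat 2 0 + hflat 3 0 + A * h2
  set S := A * s with hS
  have hSs : A * s ≠ 1 := fun h => hνs.2 (by
    show s = A⁻¹
    exact eq_inv_of_mul_eq_one_right h)
  have hSf : frob hF S = S := by rw [hS, hs, map_mul, map_add, frob_frob, hAf]; ring
  have hS1 : S * S ≠ 1 := fun h => hSs (by
    have h0 : (S + 1) * (S + 1) = 0 := by linear_combination h + S * h2 + h2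
    linear_combination (mul_self_eq_zero.1 h0) - h2)
  have hnu : ∀ {t : F}, frob hF t * t = 1 → t + S ≠ 0 := fun {t} ht h0 => hS1 (by
    have e1 : t = -S := eq_neg_of_add_eq_zero_left h0
    rw [e1, map_neg, hSf, neg_mul_neg] at ht
    exact ht)
  refine ⟨g, hg, S, hl, fun m => ?_, 0, 2, ?_⟩
  · rw [cd_add, cd_smul, hg2, ← add_mul]
    refine mul_ne_zero (hnu ?_) (hfull m)
    fin_cases m
    exacts [hν, show frob hF (frob hF ν) * frob hF ν = 1 by rw [frob_frob]; linear_combination hν,
      show frob hF (1 : F) * 1 = 1 by simp, show frob hF (1 : F) * 1 = 1 by simp]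
  · rw [cd_add, cd_smul, cd_add, cd_smul, hg2, hg2]
    show frob hF (ν * cd hF e v 0 + S * cd hF e v 0) * (ν * cd hF e v 0 + S * cd hF e v 0) ≠
      frob hF (1 * cd hF e v 2 + S * cd hF e v 2) * (1 * cd hF e v 2 + S * cd hF e v 2)
    simp only [map_add, map_mul, map_one, hSf]
    intro h
    have : A * (S * s) = 0 := by
      rw [hs, hA]
      linear_combination h + (1 + S) * (1 + S) * hflat 2 0 - A * hν + A * S * h2
    rw [hS] at this
    apply hνs.1
    show s = 0
    rcases mul_eq_zero.1 ((mul_eq_zero.1 this).resolve_left hA0) with h' | h'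
    · exact (mul_eq_zero.1 h').resolve_left hA0
    · exact h'

end Over

end Cfsg.Lib.Linear.UDec
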