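import Cfsg.Agent.Lib.Linear.UDec.Basic

/-!
# Monomial elements of dimension six with prescribed matrix coefficient

For six coefficients the weights of norm one with prescribed product and vanishing weighted sum are
built by hand from a transposition and a quadrangle. A quadrangle exists because the non-zero norms
`N (a + b z)`, `z` of norm one, fill at least half of the fixed field.
-/

set_option autoImplicit false

namespace Cfsg.Lib.Linear.UDec

open Module
open Cfsg.Lib.Linear Cfsg.Lib.Linear.Herm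

variable {F : Type*} [Field F] [Fintype F] {q n : ℕ} {hF : Fintype.card F = q ^ 2}
  {e : Fin n → (Fin n → F)} {L : Subgroup ((Fin n → F) ≃ₗ[F] (Fin n → F))}

section field

variable (hF)

open scoped Classical in
/-- The non-zero values of `N (a + b z)` on the circle. -/
theorem card_norm_values {a b : F} (ha : a ≠ 0) (hb : b ≠ 0) :
    q ≤ 2 * (((normOne hF).image fun z => frob hF (a + b * z) * (a + b * z)).erase 0).card := by
  classical
  set f : F → F := fun z => frob hF (a + b * z) * (a + b * z) with hf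
  have hz : ((normOne hF).filter fun z => f z = 0).card ≤ 1 := Finset.card_le_one.2 fun z hz z' hz' => by
    simp only [Finset.mem_filter, hf, mul_eq_zero, map_eq_zero, or_self] at hz hz'
    exact mul_left_cancel₀ hb (by linear_combination hz.2 - hz'.2)
  have h1 : ((normOne hF).filter fun z => ¬ f z = 0).card ≤
      2 * (((normOne hF).filter fun z => ¬ f z = 0).image f).card := by
    refine Finset.card_le_mul_card_image _ 2 fun y _ => (Finset.card_le_card fun z hz => ?_).trans
      (card_fibre_le hF (frob hF a * a + frob hF b * b) (b := frob hF a * b)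
        (mul_ne_zero (by simpa using ha) hb) y)
    simp only [Finset.mem_filter, mem_normOne] at hz ⊢
    refine ⟨hz.1.1, ?_⟩
    rw [← hz.2]
    simp only [hf, map_add, map_mul, frob_frob]
    linear_combination (-(frob hF b * b)) * hz.1.1
  have h2 : (((normOne hF).filter fun z => ¬ f z = 0).image f) ⊆ ((normOne hF).image f).erase 0 := by
    intro y hy
    obtain ⟨z, hz, rfl⟩ := Finset.mem_image.1 hy
    rw [Finset.mem_filter] at hz
    exact Finset.mem_erase.2 ⟨hz.2, Finset.mem_image_of_mem f hz.1⟩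
  have h3 := Finset.card_le_card h2
  have h4 := Finset.card_filter_add_card_filter_not (s := normOne hF) (fun z => f z = 0)
  have h5 := card_normOne hF
  simp only [hf] at *
  omega

/-- A quadrangle with prescribed sides. -/
theorem exists_quad {a b a' b' : F} (ha : a ≠ 0) (hb : b ≠ 0) (ha' : a' ≠ 0) (hb' : b' ≠ 0) :
    ∃ z y y' : F, frob hF z * z = 1 ∧ frob hF y * y = 1 ∧ frob hF y' * y' = 1 ∧
      a + b * z + a' * y + b' * y' = 0 ∧ a + b * z ≠ 0 := by
  classical
  set V : F → F → Finset F := fun a b =>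
    ((normOne hF).image fun z => frob hF (a + b * z) * (a + b * z)).erase 0 with hV
  have hsub : ∀ a b : F, V a b ⊆ (fixedSet hF).erase 0 := fun a b y hy => by
    obtain ⟨h0, hy⟩ := Finset.mem_erase.1 hy
    obtain ⟨z, -, rfl⟩ := Finset.mem_image.1 hy
    exact Finset.mem_erase.2 ⟨h0, (mem_fixed hF).2 (by rw [map_mul, frob_frob, mul_comm])⟩
  obtain ⟨t, ht⟩ : (V a b ∩ V a' b').Nonempty := by
    rw [← Finset.card_pos]
    have h1 := card_norm_values hF ha hb
    have h2 := card_norm_values hF ha' hb'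
    have h3 := Finset.card_le_card (Finset.union_subset (hsub a b) (hsub a' b'))
    have h4 := Finset.card_union_add_card_inter (V a b) (V a' b')
    have h5 := Finset.card_erase_add_one (show (0 : F) ∈ fixedSet hF by simp [mem_fixed])
    have h6 := card_fixed_le hF
    simp only [hV] at h3 h4 ⊢
    omega
  obtain ⟨h1, h2⟩ := Finset.mem_inter.1 ht
  obtain ⟨h0, h1⟩ := Finset.mem_erase.1 h1
  obtain ⟨-, h2⟩ := Finset.mem_erase.1 h2
  obtain ⟨z, hz, e1⟩ := Finset.mem_image.1 h1
  obtain ⟨z', hz', e2⟩ := Finset.mem_image.1 h2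
  rw [mem_normOne] at hz hz'
  have hS : a + b * z ≠ 0 := fun h => h0 (by rw [← e1, h, mul_zero])
  have hS' : a' + b' * z' ≠ 0 := fun h => h0 (by rw [← e2, h, mul_zero])
  set y := -(a + b * z) / (a' + b' * z') with hy
  have hyn : frob hF y * y = 1 := by
    rw [hy, map_div₀, div_mul_div_comm, map_neg, neg_mul_neg, div_eq_one_iff_eq
      (mul_ne_zero ((map_ne_zero _).2 hS') hS')]
    exact e1.trans e2.symm
  refine ⟨z, y, y * z', hz, hyn, ?_, ?_, hS⟩
  · rw [map_mul]; linear_combination (frob hF z' * z') * hyn + hz'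
  · have hy' : y * (a' + b' * z') = -(a + b * z) := div_mul_cancel₀ _ hS'
    linear_combination hy'

omit [Fintype F] in
/-- Of three elements two have a square product. -/
theorem exists_square_pair [Finite F] (a : Fin 3 → F) :
    ∃ i j, i ≠ j ∧ IsSquare (a i * a j) := by
  classical
  haveI := Fintype.ofFinite F
  by_cases h : ringChar F = 2
  · exact ⟨0, 1, by decide, FiniteField.isSquare_of_char_two h _⟩
  obtain ⟨i, j, hij, he⟩ : ∃ i j : Fin 3, i ≠ j ∧
      (decide (IsSquare (a i)) = decide (IsSquare (a j))) := by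
    obtain ⟨i, j, hij, he⟩ := Fintype.exists_ne_map_eq_of_card_lt
      (fun i => decide (IsSquare (a i))) (by simp)
    exact ⟨i, j, hij, he⟩
  refine ⟨i, j, hij, ?_⟩
  by_cases hi : IsSquare (a i)
  · exact hi.mul (by simpa [hi] using he)
  · have hj : ¬ IsSquare (a j) := by simpa [hi] using he
    have h1 := (quadraticChar_neg_one_iff_not_isSquare (F := F)).2 hi
    have h2 := (quadraticChar_neg_one_iff_not_isSquare (F := F)).2 hj
    have h0 : a i * a j ≠ 0 := mul_ne_zero (fun e => hi (by simp [e])) (fun e => hj (by simp [e]))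
    rw [← quadraticChar_one_iff_isSquare h0, map_mul, h1, h2]
    norm_num

end field

section mono

/-- Permutation matrices are isometries of sign determinant. -/
theorem exists_perm_iso (he : Ortho hF e) (π : Equiv.Perm (Fin n)) :
    ∃ g ∈ iso (hB hF n), (LinearEquiv.det g : F) = ((Equiv.Perm.sign π : ℤ) : F) ∧
      ∀ i, g (e i) = e (π i) := by
  induction π using Equiv.Perm.swap_induction_on with
  | one => exact ⟨1, one_mem _, by simp, fun i => rfl⟩
  | swap_mul f i j hij ih =>
    obtain ⟨g, hg, h1, h2⟩ := ih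
    set w := e i - e j with hw
    have hwk : ∀ k, hB hF n w (e k) = (if i = k then 1 else 0) - if j = k then 1 else 0 := fun k => by
      rw [hw, map_sub, LinearMap.sub_apply, he i k, he j k]
    have hww : hB hF n w w = 2 := by
      conv_lhs => arg 2; rw [hw]
      rw [map_sub, hwk, hwk, if_pos rfl, if_neg hij.symm, if_neg hij, if_pos rfl]
      ring
    have hl : (-1 : F) + frob hF (-1) + frob hF (-1) * (-1) * hB hF n w w = 0 := by
      rw [hww, map_neg, map_one]; ring
    refine ⟨qrefl w (-1) hl * g, mul_mem (qrefl_mem_iso (hB_isSymm hF n) _ _ hl) hg, ?_, fun k => ?_⟩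
    · rw [map_mul, Units.val_mul, det_qrefl, h1, hww, map_mul, Equiv.Perm.sign_swap hij]
      push_cast
      ring
    · rw [LinearEquiv.mul_apply, h2, qrefl_apply, hwk, Equiv.Perm.mul_apply]
      rcases eq_or_ne (f k) i with h | h
      · rw [h, Equiv.swap_apply_left, if_pos rfl, if_neg hij.symm, hw]; module
      rcases eq_or_ne (f k) j with h' | h'
      · rw [h', Equiv.swap_apply_right, if_neg hij, if_pos rfl, hw]; module
      · rw [Equiv.swap_apply_of_ne_of_ne h h', if_neg (Ne.symm h), if_neg (Ne.symm h')]; module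

/-- The monomial element with permutation `π` and phases `c`. -/
theorem Over.perm_mem (O : Over hF e L) (π : Equiv.Perm (Fin n)) (c : Fin n → F)
    (hc : ∀ i, frob hF (c i) * c i = 1) (hp : ((Equiv.Perm.sign π : ℤ) : F) * ∏ i, c i = 1) :
    ∃ g ∈ L, (∀ i, g (e i) = c i • e (π i)) ∧
      ∀ v i, cd hF e (g v) (π i) = c i * cd hF e v i := by
  obtain ⟨P, hP, hPd, hP1⟩ := exists_perm_iso O.ortho π
  obtain ⟨D, hD, hDd, hD1⟩ := exists_dg hF O.ortho c hc
  have hg1 : ∀ i, (P * D) (e i) = c i • e (π i) := fun i => by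
    rw [LinearEquiv.mul_apply, hD1, map_smul, hP1]
  refine ⟨P * D, O.mem_of (mul_mem hP hD) ?_ fun i => ⟨π i, c i, hg1 i⟩, hg1, fun v i => ?_⟩
  · rw [map_mul, Units.val_mul, hPd, hDd, hp]
  · rw [LinearEquiv.mul_apply, ← cd_dg hF O.ortho hD hD1 hc v i]
    simp only [cd]
    rw [← hP1 i, hP (e i) (D v)]

/-- The coefficient of a monomial element. -/
theorem form_perm (he : Ortho hF e) {g : (Fin n → F) ≃ₗ[F] (Fin n → F)} {π : Equiv.Perm (Fin n)}
    {c : Fin n → F} (hg : ∀ v i, cd hF e (g v) (π i) = c i * cd hF e v i) (v : Fin n → F) :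
    hB hF n v (g v) = ∑ i, c i * (frob hF (cd hF e v (π i)) * cd hF e v i) := by
  rw [form_eq hF he, ← Equiv.sum_comp π]
  exact Finset.sum_congr rfl fun i _ => by rw [hg]; ring

end mono

section six

theorem sign_three :
    Equiv.Perm.sign (Equiv.swap (0 : Fin 6) 1 * Equiv.swap 2 3 * Equiv.swap 4 5) = -1 := by
  decide

theorem sign_two : Equiv.Perm.sign (Equiv.swap (2 : Fin 6) 3 * Equiv.swap 4 5) = 1 := by
  decide

theorem exists_move01 {i j : Fin 6} (h : i ≠ j) : ∃ τ : Equiv.Perm (Fin 6), τ 0 = i ∧ τ 1 = j :=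
  ⟨Equiv.swap (Equiv.swap 0 i 1) j * Equiv.swap 0 i, by revert i j; decide, by revert i j; decide⟩

/-- Two monomial elements, differing by two signs, whose coefficient at `v` vanishes. -/
theorem Over.exists_pair_six (O : Over hF e L) (h6 : n = 6) {v : Fin n → F}
    (hv : ∀ i, cd hF e v i ≠ 0) :
    ∃ g ∈ L, ∃ g' ∈ L, hB hF n v (g v) = 0 ∧ hB hF n v (g' v) = 0 ∧ ∃ i j, i ≠ j ∧
      g' (e i) = -g (e i) ∧ g' (e j) = -g (e j) ∧ ∀ k, k ≠ i → k ≠ j → g' (e k) = g (e k) := by
  classical
  subst h6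
  obtain ⟨i, j, hij, s, hs⟩ := exists_square_pair fun m : Fin 3 => cd hF e v (Fin.castLE (by omega) m)
  -- move the square pair to `0, 1`
  obtain ⟨τ, hτ0, hτ1⟩ := exists_move01
    (show (Fin.castLE (by omega) i : Fin 6) ≠ Fin.castLE (by omega) j from
      fun h => hij (Fin.castLE_injective _ h))
  set p : Fin 6 → F := fun m => cd hF e v (τ m) with hp
  have hp0 : ∀ m, p m ≠ 0 := fun m => hv _
  have hss : s * s = p 0 * p 1 := by rw [hp]; simp only [hτ0, hτ1]; exact hs.symm
  have hs0 : s ≠ 0 := fun h => mul_ne_zero (hp0 0) (hp0 1) (by rw [← hss, h, mul_zero])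
  have hσ : ∀ x : F, x ≠ 0 → frob hF x ≠ 0 := fun x hx => by simpa using hx
  set u2 := frob hF (p 3) * p 2 with hu2
  set u4 := frob hF (p 5) * p 4 with hu4
  have hu2' : u2 ≠ 0 := mul_ne_zero (hσ _ (hp0 3)) (hp0 2)
  have hu4' : u4 ≠ 0 := mul_ne_zero (hσ _ (hp0 5)) (hp0 4)
  clear_value u2 u4
  obtain ⟨z, y, y', hz, hy, hy', hsum, hS⟩ := exists_quad hF hu2' (hσ _ hu2') hu4' (hσ _ hu4')
  set S := u2 + frob hF u2 * z with hSdef
  have hS' := hσ S hS
  have ez : frob hF S * z = S := by
    rw [hSdef, map_add, map_mul, frob_frob]; linear_combination u2 * hz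
  have ey : frob hF S * (y * y') = S := by
    have h := congrArg (frob hF) hsum
    rw [map_zero] at h
    simp only [map_add, map_mul, frob_frob] at h
    linear_combination (y * y') * h - hsum - (frob hF u4 * y') * hy - (u4 * y) * hy'
  set κ := frob hF s * p 1 * frob hF S / (s * frob hF (p 1) * S) with hκ
  have hden : s * frob hF (p 1) * S ≠ 0 := mul_ne_zero (mul_ne_zero hs0 (hσ _ (hp0 1))) hS
  have hκn : frob hF κ * κ = 1 := by
    have hden' : frob hF s * p 1 * frob hF S ≠ 0 := mul_ne_zero (mul_ne_zero (hσ _ hs0) (hp0 1)) hS'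
    rw [hκ]
    simp only [map_div₀, map_mul, frob_frob]
    field_simp
    exact div_self (by simp [hp0, hs0, hS, hS'])
  set r := frob hF (p 1) * p 0 / (frob hF (p 0) * p 1) with hr
  have hden2 : frob hF (p 0) * p 1 ≠ 0 := mul_ne_zero (hσ _ (hp0 0)) (hp0 1)
  have hrn : frob hF r * r = 1 := by
    have hden' : frob hF (p 1) * p 0 ≠ 0 := mul_ne_zero (hσ _ (hp0 1)) (hp0 0)
    rw [hr]
    simp only [map_div₀, map_mul, frob_frob]
    field_simp
    exact div_self (by simp [hp0, hs0, hS])
  have hprod : κ * κ * r * z * (y * y') = 1 := by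
    have e1 : z = S / frob hF S := by rw [eq_div_iff hS', mul_comm]; exact ez
    have e2 : y * y' = S / frob hF S := by rw [eq_div_iff hS', mul_comm]; exact ey
    have es : frob hF s * frob hF s = frob hF (p 0) * frob hF (p 1) := by
      rw [← map_mul, hss, map_mul]
    rw [hκ, hr, e1, e2, div_mul_div_comm, div_mul_div_comm, div_mul_div_comm, div_mul_div_comm,
      div_eq_one_iff_eq (by simp [hden, hden2, hS'])]
    linear_combination (p 1 * p 1 * frob hF (p 1) * p 0 * frob hF S ^ 2 * S ^ 2) * es -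
      (frob hF (p 1) * frob hF (p 1) * frob hF (p 0) * p 1 * S ^ 2 * frob hF S ^ 2) * hss
  set π : Equiv.Perm (Fin 6) := Equiv.swap 0 1 * Equiv.swap 2 3 * Equiv.swap 4 5 with hπ
  set π' : Equiv.Perm (Fin 6) := τ * π * τ⁻¹ with hπ'
  have hsign : ((Equiv.Perm.sign π' : ℤ) : F) = -1 := by
    rw [hπ', map_mul, map_mul, map_inv, mul_inv_cancel_comm, hπ, sign_three]; simp
  have main : ∀ κ' : F, frob hF κ' * κ' = 1 → κ' * κ' = κ * κ →
      ∃ g ∈ L, hB hF 6 v (g v) = 0 ∧ ∀ m : Fin 6,
        g (e (τ m)) = (![κ', -(κ' * r), 1, z, y, y'] m) • e (τ (π m)) := by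
    intro κ' hn' hk
    set c : Fin 6 → F := ![κ', -(κ' * r), 1, z, y, y'] with hc
    have hcn : ∀ m, frob hF (c m) * c m = 1 := by
      intro m
      fin_cases m <;>
        simp only [hc, Matrix.cons_val_zero, Matrix.cons_val_one, Matrix.cons_val,
          Fin.isValue, Fin.zero_eta, Fin.mk_one, Fin.reduceFinMk, map_one, mul_one, map_neg, map_mul,
          neg_mul_neg, hn', hz, hy, hy']
      linear_combination (frob hF r * r) * hn' + hrn
    obtain ⟨g, hg, hg1, hg2⟩ := O.perm_mem π' (fun i => c (τ⁻¹ i)) (fun i => hcn _) (by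
      rw [hsign, Equiv.prod_comp (τ⁻¹) c, Fin.prod_univ_six]
      simp only [hc, Matrix.cons_val_zero, Matrix.cons_val_one, Matrix.cons_val]
      linear_combination hprod + (r * z * y * y') * hk)
    refine ⟨g, hg, ?_, fun m => ?_⟩
    · rw [form_perm O.ortho hg2, ← Equiv.sum_comp τ, Fin.sum_univ_six]
      simp only [hπ', hπ, Equiv.Perm.mul_apply, Equiv.Perm.inv_def, Equiv.symm_apply_apply]
      simp only [show ∀ m, cd hF e v (τ m) = p m from fun _ => rfl, hc]
      simp [Equiv.swap_apply_def]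
      have e1 : r * (frob hF (p 0) * p 1) = frob hF (p 1) * p 0 := div_mul_cancel₀ _ hden2
      simp only [hu2, hu4, hSdef, map_mul, frob_frob] at hsum
      linear_combination hsum - κ' * e1
    · rw [hg1, hπ']
      simp only [Equiv.Perm.mul_apply, Equiv.Perm.inv_def, Equiv.symm_apply_apply]
  obtain ⟨g, hg, h1, h2⟩ := main κ hκn rfl
  obtain ⟨g', hg', h1', h2'⟩ := main (-κ) (by rw [map_neg, neg_mul_neg, hκn]) (by ring)
  refine ⟨g, hg, g', hg', h1, h1', τ 0, τ 1, fun h => by simpa using τ.injective h, ?_, ?_,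
    fun k hk0 hk1 => ?_⟩
  · rw [h2, h2']; simp
  · rw [h2, h2']; simp
  · obtain ⟨m, rfl⟩ := τ.surjective k
    have m0 : m ≠ 0 := fun h => hk0 (by rw [h])
    have m1 : m ≠ 1 := fun h => hk1 (by rw [h])
    rw [h2, h2']
    fin_cases m <;> simp_all

/-- In even characteristic: a monomial element fixing the line `e k`, whose coefficient at `v` is its
phase at `k`, such that the corrected image of `v` keeps three non-zero coordinates. -/
theorem Over.exists_even_six (O : Over hF e L) (h6 : n = 6) (h2 : (2 : F) = 0) (hq : 4 ≤ q)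
    {v : Fin n → F} (hv : ∀ i, cd hF e v i ≠ 0) {k : Fin n}
    (hN : frob hF (cd hF e v k) * cd hF e v k ≠ 1) :
    ∃ g ∈ L, ∃ l : F, hB hF n v (g v) = l ∧ cd hF e (g v + l • v) k = 0 ∧
      ∃ a b c, a ≠ b ∧ a ≠ c ∧ b ≠ c ∧ cd hF e (g v + l • v) a ≠ 0 ∧
        cd hF e (g v + l • v) b ≠ 0 ∧ cd hF e (g v + l • v) c ≠ 0 := by
  classical
  subst h6
  set τ : Equiv.Perm (Fin 6) := Equiv.swap 0 k with hτ
  have hτ0 : τ 0 = k := Equiv.swap_apply_left _ _
  set p : Fin 6 → F := fun m => cd hF e v (τ m) with hp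
  have hp0 : ∀ m, p m ≠ 0 := fun m => hv _
  have hσ : ∀ x : F, x ≠ 0 → frob hF x ≠ 0 := fun x hx => by simpa using hx
  set u0 := frob hF (p 0) * p 0 - 1 with hu0
  set u1 := frob hF (p 1) * p 1 with hu1
  set u4 := frob hF (p 5) * p 4 with hu4
  have hu0' : u0 ≠ 0 := sub_ne_zero.2 (by simpa [hp, hτ0] using hN)
  have hu1' : u1 ≠ 0 := mul_ne_zero (hσ _ (hp0 1)) (hp0 1)
  have hu4' : u4 ≠ 0 := mul_ne_zero (hσ _ (hp0 5)) (hp0 4)
  obtain ⟨z, y, y', hz, hy, hy', hsum, hS⟩ := exists_quad hF hu0' hu1' hu4' (hσ _ hu4')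
  set r := frob hF (p 3) * p 2 / (frob hF (p 2) * p 3) with hr
  have hden : frob hF (p 2) * p 3 ≠ 0 := mul_ne_zero (hσ _ (hp0 2)) (hp0 3)
  have hrn : frob hF r * r = 1 := by
    have hden' : frob hF (p 3) * p 2 ≠ 0 := mul_ne_zero (hσ _ (hp0 3)) (hp0 2)
    rw [hr]
    simp only [map_div₀, map_mul, frob_frob]
    field_simp
    exact div_self (by simp [hp0])
  -- square roots
  have hchar : ringChar F = 2 := by
    have := (ringChar.spec F 2).1 (by exact_mod_cast h2)
    rcases (Nat.dvd_prime Nat.prime_two).1 this with h | h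
    · exact absurd h CharP.ringChar_ne_one
    · exact h
  have hne0 : z * (y * y') * r ≠ 0 := fun h => by
    have : frob hF (z * (y * y') * r) * (z * (y * y') * r) = 1 := by
      simp only [map_mul]
      linear_combination (frob hF y * y * frob hF y' * y' * (frob hF r * r)) * hz +
        (frob hF y' * y' * (frob hF r * r)) * hy + (frob hF r * r) * hy' + hrn
    simp [h] at this
  obtain ⟨ρ, hρ⟩ := FiniteField.isSquare_of_char_two hchar (z * (y * y') * r)⁻¹
  have hρ2 : ρ * ρ * (z * (y * y') * r) = 1 := by rw [← hρ, inv_mul_cancel₀ hne0]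
  have hρn : frob hF ρ * ρ = 1 := by
    have h := congrArg (fun x => frob hF x * x) hρ2
    simp only [map_mul, map_one, one_mul] at h
    have h' : (frob hF ρ * ρ - 1) * (frob hF ρ * ρ - 1) = 0 := by
      linear_combination h - (frob hF ρ * ρ) ^ 2 * (frob hF y * y * frob hF y' * y' * (frob hF r * r)) * hz -
        (frob hF ρ * ρ) ^ 2 * (frob hF y' * y' * (frob hF r * r)) * hy -
        (frob hF ρ * ρ) ^ 2 * (frob hF r * r) * hy' - (frob hF ρ * ρ) ^ 2 * hrn -
        (frob hF ρ * ρ - 1) * h2
    linear_combination mul_self_eq_zero.1 h'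
  -- avoid one cube
  obtain ⟨l, hl, hl3⟩ := exists_normOne hF (Polynomial.nthRoots 3 (ρ * p 2 / p 3)).toFinset
    (((Multiset.toFinset_card_le _).trans (Polynomial.card_nthRoots 3 _)).trans_lt (by omega))
  rw [Multiset.mem_toFinset, Polynomial.mem_nthRoots (by norm_num)] at hl3
  have hl0 : l ≠ 0 := fun h => by simp [h] at hl
  set κ := ρ / l ^ 2 with hκ
  have hκn : frob hF κ * κ = 1 := by
    rw [hκ, map_div₀, map_pow, div_mul_div_comm, ← mul_pow, hl, one_pow, div_one, hρn]
  set π : Equiv.Perm (Fin 6) := Equiv.swap 2 3 * Equiv.swap 4 5 with hπ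
  set π' : Equiv.Perm (Fin 6) := τ * π * τ⁻¹ with hπ'
  have hsign : ((Equiv.Perm.sign π' : ℤ) : F) = 1 := by
    rw [hπ', map_mul, map_mul, map_inv, mul_inv_cancel_comm, hπ, sign_two]; simp
  set c : Fin 6 → F := ![l, l * z, κ, κ * r, l * y, l * y'] with hc
  have hcn : ∀ m, frob hF (c m) * c m = 1 := by
    intro m
    fin_cases m <;>
      simp only [hc, Matrix.cons_val_zero, Matrix.cons_val_one, Matrix.cons_val,
        Fin.isValue, Fin.zero_eta, Fin.mk_one, Fin.reduceFinMk, map_mul, hl, hκn]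
    · linear_combination (frob hF z * z) * hl + hz
    · linear_combination (frob hF r * r) * hκn + hrn
    · linear_combination (frob hF y * y) * hl + hy
    · linear_combination (frob hF y' * y') * hl + hy'
  obtain ⟨g, hg, -, hg2⟩ := O.perm_mem π' (fun i => c (τ⁻¹ i)) (fun i => hcn _) (by
    rw [hsign, Equiv.prod_comp (τ⁻¹) c, Fin.prod_univ_six, one_mul]
    simp only [hc, Matrix.cons_val_zero, Matrix.cons_val_one, Matrix.cons_val]
    have : κ * l ^ 2 = ρ := div_mul_cancel₀ _ (pow_ne_zero _ hl0)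
    linear_combination hρ2 + ((κ * l ^ 2 + ρ) * z * y * y' * r) * this)
  have hB : hB hF 6 v (g v) = l := by
    rw [form_perm O.ortho hg2, ← Equiv.sum_comp τ, Fin.sum_univ_six]
    simp only [hπ', hπ, Equiv.Perm.mul_apply, Equiv.Perm.inv_def, Equiv.symm_apply_apply]
    simp only [show ∀ m, cd hF e v (τ m) = p m from fun _ => rfl, hc]
    simp [Equiv.swap_apply_def]
    have e1 : r * (frob hF (p 2) * p 3) = frob hF (p 3) * p 2 := div_mul_cancel₀ _ hden
    simp only [hu0, hu1, hu4, map_mul, frob_frob] at hsum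
    linear_combination l * hsum + κ * e1 + κ * frob hF (p 3) * p 2 * h2
  have hcd : ∀ m : Fin 6, cd hF e (g v + l • v) (τ (π m)) = c m * p m + l * p (π m) := fun m => by
    rw [cd_add, cd_smul]
    have := hg2 v (τ m)
    simp only [hπ', Equiv.Perm.mul_apply, Equiv.Perm.inv_def, Equiv.symm_apply_apply] at this
    rw [this]
  have neg_eq : ∀ x y : F, x + y = 0 → x = y := fun x y h => by linear_combination h - y * h2
  refine ⟨g, hg, l, hB, ?_, ?_⟩
  · have := hcd 0
    simp only [hπ, Equiv.Perm.mul_apply, hc] at this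
    simp [Equiv.swap_apply_def] at this
    rw [hτ0] at this
    rw [this]; linear_combination (l * p 0) * h2
  -- coordinates `2` and `3` are not zero
  have h3 : cd hF e (g v + l • v) (τ 3) ≠ 0 := fun h0 => by
    have := hcd 2
    simp only [hπ, Equiv.Perm.mul_apply, hc] at this
    simp [Equiv.swap_apply_def] at this
    rw [this] at h0
    refine hl3 ?_
    have e := neg_eq _ _ h0
    rw [hκ, div_mul_eq_mul_div, div_eq_iff (pow_ne_zero _ hl0)] at e
    rw [eq_div_iff (hp0 3), e]; ring
  have h2' : cd hF e (g v + l • v) (τ 2) ≠ 0 := fun h0 => by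
    have := hcd 3
    simp only [hπ, Equiv.Perm.mul_apply, hc] at this
    simp [Equiv.swap_apply_def] at this
    rw [this] at h0
    have e := neg_eq _ _ h0
    have eN := congrArg (fun x => frob hF x * x) e
    simp only [map_mul] at eN
    have eN' : frob hF (p 3) * p 3 = frob hF (p 2) * p 2 := by
      linear_combination eN - (frob hF r * r * (frob hF (p 3) * p 3)) * hκn -
        (frob hF (p 3) * p 3) * hrn + (frob hF (p 2) * p 2) * hl
    refine hl3 ?_
    rw [hκ, hr, div_mul_div_comm, div_mul_eq_mul_div,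
      div_eq_iff (mul_ne_zero (pow_ne_zero _ hl0) hden)] at e
    rw [eq_div_iff (hp0 3)]
    refine mul_left_cancel₀ (mul_ne_zero (hσ _ (hp0 2)) (hp0 2)) ?_
    linear_combination -e + (ρ * p 2) * eN'
  -- one of the coordinates `4`, `5` is not zero
  have h45 : cd hF e (g v + l • v) (τ 4) ≠ 0 ∨ cd hF e (g v + l • v) (τ 5) ≠ 0 := by
    by_contra hh
    push Not at hh
    obtain ⟨h4, h5⟩ := hh
    have a5 := hcd 4
    have a4 := hcd 5
    simp only [hπ, Equiv.Perm.mul_apply, hc] at a4 a5
    simp [Equiv.swap_apply_def] at a4 a5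
    rw [a5] at h5
    rw [a4] at h4
    have e5 : y * p 4 = p 5 := mul_left_cancel₀ hl0 (by linear_combination neg_eq _ _ h5)
    have e4 : y' * p 5 = p 4 := mul_left_cancel₀ hl0 (by linear_combination neg_eq _ _ h4)
    have e4n := congrArg (fun x => frob hF x * x) e5
    simp only [map_mul] at e4n
    refine hS ?_
    simp only [hu4, map_mul, frob_frob] at hsum
    linear_combination hsum - frob hF (p 5) * e5 - frob hF (p 4) * e4 + e4n -
      (frob hF (p 4) * p 4) * hy - (frob hF (p 4) * p 4) * h2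
  rcases h45 with h | h
  · exact ⟨τ 2, τ 3, τ 4, τ.injective.ne (by decide), τ.injective.ne (by decide),
      τ.injective.ne (by decide), h2', h3, h⟩
  · exact ⟨τ 2, τ 3, τ 5, τ.injective.ne (by decide), τ.injective.ne (by decide),
      τ.injective.ne (by decide), h2', h3, h⟩

end six

end Cfsg.Lib.Linear.UDec
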