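import Cfsg.Agent.Lib.Linear.UDec.Gen
import Cfsg.Agent.Lib.Linear.UDec.Count
import Cfsg.Agent.Lib.Linear.UDec.Six
import Cfsg.Agent.Lib.Linear.UDec.FourEven

/-!
# Overgroups of the monomial group, even `q`

A phased transposition is a transvection, so overgroups contain transvections with large centres.
-/

set_option autoImplicit false

namespace Cfsg.Lib.Linear.UDec

open Module
open Cfsg.Lib.Linear Cfsg.Lib.Linear.Herm

variable {F : Type*} [Field F] [Fintype F] {q n : ℕ} {hF : Fintype.card F = q ^ 2}
  {e : Fin n → (Fin n → F)} {L : Subgroup ((Fin n → F) ≃ₗ[F] (Fin n → F))}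

theorem neg_eq_of_two (h2 : (2 : F) = 0) (a : F) : -a = a := by linear_combination (-a) * h2

namespace Over

variable (O : Over hF e L)
include O

/-- A phased transposition as a transvection. -/
theorem tv_pair (h2 : (2 : F) = 0) {i j : Fin n} (hij : i ≠ j) {c : F} (hc : frob hF c * c = 1) :
    Tv hF L (e i + c • e j) 1 := by
  set z := e i + c • e j with hz
  have hzk : ∀ k, hB hF n z (e k) = (if i = k then 1 else 0) + frob hF c * if j = k then 1 else 0 := by
    intro k
    rw [hz, map_add, LinearMap.add_apply, LinearMap.map_smulₛₗ, LinearMap.smul_apply, smul_eq_mul,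
      O.ortho i k, O.ortho j k]
  have hzz : hB hF n z z = 0 := by
    conv_lhs => arg 2; rw [hz]
    rw [map_add, map_smul, hzk, hzk, smul_eq_mul, if_pos rfl, if_neg hij.symm, if_neg hij, if_pos rfl]
    linear_combination hc + h2
  have h : (1 : F) + frob hF 1 + frob hF 1 * 1 * hB hF n z z = 0 := by
    rw [hzz, map_one]; linear_combination h2
  refine ⟨h, O.mem_of (qrefl_mem_iso (hB_isSymm hF n) _ _ h) ?_ fun k => ?_⟩
  · rw [det_qrefl, hzz, mul_zero, add_zero]
  · rcases eq_or_ne k i with rfl | hki
    · refine ⟨j, c, cd_ext hF O.ortho fun m => ?_⟩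
      rw [tv_apply_iso, hzk, if_pos rfl, if_neg hij.symm, hz]
      simp only [cd_add, cd_smul, cd_frame hF O.ortho]
      linear_combination (if m = k then (1 : F) else 0) * h2
    rcases eq_or_ne k j with rfl | hkj
    · refine ⟨i, frob hF c, cd_ext hF O.ortho fun m => ?_⟩
      rw [tv_apply_iso, hzk, if_pos rfl, if_neg hij, hz]
      simp only [cd_add, cd_smul, cd_frame hF O.ortho]
      linear_combination (if m = k then (1 : F) else 0) * hc + (if m = k then (1 : F) else 0) * h2
    · refine ⟨k, 1, ?_⟩
      rw [qrefl_apply, hzk, if_neg hki.symm, if_neg hkj.symm]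
      simp

/-- A transvection with centre of weight at least three. -/
theorem exists_heavy (h2 : (2 : F) = 0) {x : (Fin n → F) ≃ₗ[F] (Fin n → F)} (hx : x ∈ L)
    (hxM : ¬ Mono e x) :
    ∃ v, hB hF n v v = 0 ∧ Tv hF L v 1 ∧ 3 ≤ (supp hF e v).card := by
  classical
  by_contra hne
  push Not at hne
  have hn := O.dim
  have hq := two_le_q hF
  set S : Fin n → Finset (Fin n) := fun i => supp hF e (x (e i)) with hS
  have h1 : ∀ {i j : Fin n}, i ≠ j → ∀ c : F, frob hF c * c = 1 →
      (supp hF e (x (e i) + c • x (e j))).card ≤ 2 := by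
    intro i j hij c hc
    rw [← map_smul, ← map_add]
    refine Nat.le_of_lt_succ (hne _ ?_ (O.tv_map hx (O.tv_pair h2 hij hc)))
    rw [O.le_iso hx]
    simp only [map_add, LinearMap.add_apply, map_smul, LinearMap.map_smulₛₗ, LinearMap.smul_apply,
      smul_eq_mul, RingHom.id_apply, O.ortho _ _, if_pos, if_neg hij, if_neg hij.symm, mul_zero, add_zero,
      zero_add, mul_one]
    linear_combination hc + h2
  have h3 : ∀ {i j : Fin n}, i ≠ j → (S i ∪ S j).card ≤ 3 := by
    intro i j hij
    have e1 : (∑ c ∈ normOne hF, (supp hF e (x (e i) + c • x (e j))).card) ≤ 2 * (q + 1) := by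
      refine (Finset.sum_le_card_nsmul _ _ 2 fun c hc => h1 hij c ((mem_normOne hF).1 hc)).trans_eq ?_
      rw [card_normOne, smul_eq_mul, mul_comm]
    have e2 : (S i ∪ S j).card * q ≤ ∑ c ∈ normOne hF, (supp hF e (x (e i) + c • x (e j))).card := by
      calc (S i ∪ S j).card * q ≤ ∑ m ∈ S i ∪ S j,
            ((normOne hF).filter fun c => m ∈ supp hF e (x (e i) + c • x (e j))).card := by
            refine le_trans ?_ (Finset.card_nsmul_le_sum _ _ q fun m hm => ?_)
            · rw [smul_eq_mul]
            have hle : ((normOne hF).filter fun c => m ∉ supp hF e (x (e i) + c • x (e j))).card ≤ 1 := by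
              refine Finset.card_le_one.2 fun a ha b hb => ?_
              simp only [Finset.mem_filter, mem_supp, not_not, cd_add, cd_smul] at ha hb
              refine mul_right_cancel₀ ?_ (add_left_cancel (ha.2.trans hb.2.symm))
              intro h0
              simp only [hS, Finset.mem_union, mem_supp] at hm
              rcases hm with hm | hm
              · exact hm (by simpa [h0] using ha.2)
              · exact hm h0
            have := Finset.card_filter_add_card_filter_not (s := normOne hF)
              (fun c => m ∈ supp hF e (x (e i) + c • x (e j)))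
            rw [card_normOne] at this
            omega
        _ ≤ ∑ m, ((normOne hF).filter fun c => m ∈ supp hF e (x (e i) + c • x (e j))).card :=
            Finset.sum_le_univ_sum_of_nonneg fun _ => Nat.zero_le _
        _ = _ := by
            simp only [Finset.card_filter]
            rw [Finset.sum_comm]
            simp
    by_contra h4
    have := Nat.mul_le_mul_right q (show 4 ≤ (S i ∪ S j).card by omega)
    omega
  have hne0 : ∀ i, (S i).Nonempty := fun i => by
    by_contra h
    rw [Finset.not_nonempty_iff_eq_empty] at h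
    refine ne_zero hF O.ortho i (x.injective (cd_ext hF O.ortho fun m => ?_))
    rw [map_zero, cd_zero]
    by_contra hm
    exact Finset.notMem_empty m (h ▸ (mem_supp.2 hm : m ∈ S i))
  obtain ⟨i, hi⟩ : ∃ i, 2 ≤ (S i).card := by
    by_contra hc
    push Not at hc
    refine hxM fun i => ?_
    obtain ⟨m, hm⟩ := Finset.card_eq_one.1
      (le_antisymm (Nat.le_of_lt_succ (hc i)) (Finset.card_pos.2 (hne0 i)))
    refine ⟨m, cd hF e (x (e i)) m, cd_ext hF O.ortho fun p => ?_⟩
    rw [cd_smul, cd_frame hF O.ortho]
    rcases eq_or_ne p m with rfl | hp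
    · rw [if_pos rfl, mul_one]
    · rw [if_neg hp, mul_zero]
      by_contra h0
      exact hp (Finset.mem_singleton.1 (hm ▸ (mem_supp.2 h0 : p ∈ S i)))
  have hmeet : ∀ j, j ≠ i → 2 ≤ (S i ∩ S j).card := by
    intro j hj
    by_contra hlt
    rcases Nat.eq_zero_or_pos (S i ∩ S j).card with h0 | h0
    · have hsub : S i ∪ S j ⊆ supp hF e (x (e i) + (1 : F) • x (e j)) := by
        intro m hm
        have hd := Finset.disjoint_iff_inter_eq_empty.2 (Finset.card_eq_zero.1 h0)
        rw [mem_supp, cd_add, cd_smul, one_mul]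
        rcases Finset.mem_union.1 hm with hm | hm
        · have : cd hF e (x (e j)) m = 0 := by
            by_contra h; exact Finset.disjoint_left.1 hd hm (mem_supp.2 h)
          rw [this, add_zero]; exact mem_supp.1 hm
        · have : cd hF e (x (e i)) m = 0 := by
            by_contra h; exact Finset.disjoint_left.1 hd (mem_supp.2 h) hm
          rw [this, zero_add]; exact mem_supp.1 hm
      have e1 := (Finset.card_le_card hsub).trans (h1 (Ne.symm hj) 1 (by simp))
      rw [Finset.card_union_of_disjoint
        (Finset.disjoint_iff_inter_eq_empty.2 (Finset.card_eq_zero.1 h0))] at e1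
      have := Finset.card_pos.2 (hne0 j)
      omega
    · obtain ⟨m, hm⟩ := Finset.card_eq_one.1 (by omega : (S i ∩ S j).card = 1)
      have h := O.le_iso hx (e i) (e j)
      rw [O.ortho i j, if_neg (Ne.symm hj), form_eq hF O.ortho, Finset.sum_eq_single m (fun p _ hp => by
        by_contra hne'
        obtain ⟨a1, a2⟩ := mul_ne_zero_iff.1 hne'
        refine hp (Finset.mem_singleton.1 (hm ▸ Finset.mem_inter.2 ⟨mem_supp.2 ?_, mem_supp.2 a2⟩))
        exact fun h0 => a1 (by rw [h0, map_zero])) (fun h' => absurd (Finset.mem_univ m) h')] at h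
      have hm' : m ∈ S i ∩ S j := hm ▸ Finset.mem_singleton_self m
      simp only [hS, Finset.mem_inter, mem_supp] at hm'
      exact mul_ne_zero (by simpa using hm'.1) hm'.2 h
  obtain ⟨T, hT, hTc⟩ : ∃ T : Finset (Fin n), (∀ j, S j ⊆ T) ∧ T.card ≤ 3 := by
    have hi3 : (S i).card ≤ 3 := by
      obtain ⟨j, hj⟩ := O.exists_other {i} (by simp)
      rw [Finset.mem_singleton] at hj
      exact (Finset.card_le_card Finset.subset_union_left).trans (h3 (Ne.symm hj))
    by_cases hall : ∀ j, S j ⊆ S i
    · exact ⟨S i, hall, hi3⟩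
    push Not at hall
    obtain ⟨j, hj⟩ := hall
    have hji : j ≠ i := fun h => hj (h ▸ Finset.Subset.rfl)
    have hlt : (S i).card < (S i ∪ S j).card := Finset.card_lt_card
      ⟨Finset.subset_union_left, fun h => hj (Finset.subset_union_right.trans h)⟩
    have hij3 := h3 (Ne.symm hji)
    refine ⟨S i ∪ S j, fun k => ?_, hij3⟩
    rcases eq_or_ne k i with rfl | hki
    · exact Finset.subset_union_left
    rcases eq_or_ne k j with rfl | hkj
    · exact Finset.subset_union_right
    have hsubk : ∀ k, k ≠ i → S i ⊆ S k := fun k hk => by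
      have := Finset.eq_of_subset_of_card_le (Finset.inter_subset_left : S i ∩ S k ⊆ S i)
        (by have := hmeet k hk; omega)
      exact Finset.inter_eq_left.1 this
    have hS2 : S i ∪ S j = S j := Finset.union_eq_right.2 (hsubk j hji)
    intro m hm
    by_contra hmT
    rw [hS2] at hmT hlt
    have := h3 (Ne.symm hkj)
    have : (insert m (S j)).card ≤ (S j ∪ S k).card := Finset.card_le_card (Finset.insert_subset
      (Finset.mem_union_right _ hm) Finset.subset_union_left)
    rw [Finset.card_insert_of_notMem hmT] at this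
    omega
  obtain ⟨p, hp⟩ := O.exists_other T (by omega)
  have h := cd_frame hF O.ortho p p
  rw [if_pos rfl, ← x.apply_symm_apply (e p), ← expand hF O.ortho (x.symm (e p)), map_sum] at h
  simp only [cd, map_sum, map_smul] at h
  rw [Finset.sum_eq_zero fun k _ => ?_] at h
  · exact zero_ne_one h
  · have : cd hF e (x (e k)) p = 0 := by
      by_contra h0; exact hp (hT k (mem_supp.2 h0))
    rw [cd] at this
    rw [this, smul_zero]

/-- Even `q ≥ 4`. -/
theorem pairC_of_even (h2 : (2 : F) = 0) (hq : 4 ≤ q) (hn : n = 4 ∨ n = 6 ∨ 10 ≤ n) {x : (Fin n → F) ≃ₗ[F] (Fin n → F)} (hx : x ∈ L)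
    (hxM : ¬ Mono e x) : ∃ a b, a ≠ b ∧ PairC hF e L a b := by
  classical
  have image : ∀ {v : Fin n → F} {g : (Fin n → F) ≃ₗ[F] (Fin n → F)}, g ∈ L → hB hF n v v = 0 →
      Tv hF L v 1 → hB hF n (g v + hB hF n v (g v) • v) (g v + hB hF n v (g v) • v) = 0 ∧
        Tv hF L (g v + hB hF n v (g v) • v) 1 := by
    intro v g hg hv ht
    obtain ⟨h, hm⟩ := ht
    have e1 : (qrefl v 1 h * g) v = g v + hB hF n v (g v) • v := by
      rw [LinearEquiv.mul_apply, qrefl_apply, one_mul]
    rw [← e1]
    exact ⟨by rw [O.le_iso (mul_mem hm hg)]; exact hv, O.tv_map (mul_mem hm hg) ⟨h, hm⟩⟩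
  have finish : ∀ {v : Fin n → F}, hB hF n v v = 0 → Tv hF L v 1 → ∀ {r k : Fin n},
      cd hF e v r = 0 → cd hF e v k ≠ 0 → frob hF (cd hF e v k) * cd hF e v k ≠ 1 →
      ∃ a b, a ≠ b ∧ PairC hF e L a b := by
    intro v hv ht r k hr hk hN
    have hc := O.centre_of_tv hv hk hr ht one_ne_zero (by rwa [one_mul])
    obtain ⟨b, hb, hbk⟩ : ∃ b, cd hF e v b ≠ 0 ∧ b ≠ k := by
      by_contra hne
      push Not at hne
      rw [form_eq hF O.ortho, Finset.sum_eq_single k (fun m _ hm => by
        rw [not_not.1 fun h => hm (hne m h), mul_zero]) (fun h => absurd (Finset.mem_univ k) h)] at hv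
      exact mul_ne_zero (by simpa using hk) hk hv
    exact ⟨k, b, hbk.symm, O.pairC_of_centre hv hc hbk.symm hk hb hr⟩
  have fromZero : ∀ {v : Fin n → F}, hB hF n v v = 0 → Tv hF L v 1 → 3 ≤ (supp hF e v).card →
      ∀ {r : Fin n}, cd hF e v r = 0 → ∃ a b, a ≠ b ∧ PairC hF e L a b := by
    intro v hv ht hs r hr
    by_cases hall : ∀ k, cd hF e v k ≠ 0 → frob hF (cd hF e v k) * cd hF e v k = 1
    swap
    · push Not at hall
      obtain ⟨k, hk, hN⟩ := hall
      exact finish hv ht hr hk hN
    obtain ⟨i, hi, j, hj, k, hk, hij, hik, hjk⟩ := Finset.two_lt_card.1 hs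
    rw [mem_supp] at hi hj hk
    obtain ⟨ν, hν, hν1⟩ := exists_normOne hF {1} (by rw [Finset.card_singleton]; omega)
    rw [Finset.mem_singleton] at hν1
    set a := 1 + ν with ha
    have ha0 : a ≠ 0 := fun h => hν1 (by rw [← neg_eq_of_two h2 (1 : F)]; linear_combination h)
    obtain ⟨μ, hμ, hμs⟩ := exists_normOne hF
      (insert a ((normOne hF).filter fun z =>
        (frob hF a * a + 1) + frob hF a * z + frob hF (frob hF a) * frob hF z = 1))
      (lt_of_le_of_lt ((Finset.card_insert_le _ _).trans
        (Nat.add_le_add_right (card_fibre_le hF _ (by simpa using ha0) 1) 1)) (by omega))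
    simp only [Finset.mem_insert, Finset.mem_filter, mem_normOne, hμ, true_and, not_or, frob_frob] at hμs
    have hir : i ≠ r := fun h => hi (h ▸ hr)
    have hjr : j ≠ r := fun h => hj (h ▸ hr)
    obtain ⟨g, hg, -, g2, g3, -⟩ := O.dg_comp (Function.update (Function.update 1 i ν) j μ) r (fun m => by
      rcases eq_or_ne m j with rfl | h1
      · rw [Function.update_self]; exact hμ
      rcases eq_or_ne m i with rfl | h1'
      · rw [Function.update_of_ne h1, Function.update_self]; exact hν
      · simp [h1, h1']) (by simp [hir.symm, hjr.symm])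
    have hgv : g v = v + (((ν - 1) * cd hF e v i) • e i + ((μ - 1) * cd hF e v j) • e j) := by
      refine cd_ext hF O.ortho fun m => ?_
      rw [cd_add, cd_add, cd_smul, cd_smul, cd_frame hF O.ortho, cd_frame hF O.ortho]
      rcases eq_or_ne m r with rfl | hmr
      · rw [g3 v hr, hr, if_neg hir.symm, if_neg hjr.symm]; ring
      rw [g2 v m hmr]
      rcases eq_or_ne m j with rfl | hmj
      · rw [Function.update_self, if_neg hij.symm, if_pos rfl]; ring
      rcases eq_or_ne m i with rfl | hmi
      · rw [Function.update_of_ne hmj, Function.update_self, if_pos rfl, if_neg hmj]; ring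
      · rw [Function.update_of_ne hmj, Function.update_of_ne hmi, if_neg hmi, if_neg hmj, Pi.one_apply]
        ring
    have hS : hB hF n v (g v) = ν + μ := by
      rw [hgv, map_add, map_add, map_smul, map_smul, hv, smul_eq_mul, smul_eq_mul,
        ← (hB_isSymm hF n).eq (e i) v, ← (hB_isSymm hF n).eq (e j) v]
      simp only [cd]
      have e1 := hall i hi
      have e2 := hall j hj
      simp only [cd] at e1 e2
      linear_combination (ν - 1) * e1 + (μ - 1) * e2 - h2
    obtain ⟨hv', ht'⟩ := image hg hv ht
    rw [hS] at hv' ht'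
    have hk' : cd hF e (g v + (ν + μ) • v) k = cd hF e v k * (a + μ) := by
      rw [cd_add, cd_smul, g2 v k (fun h => hk (h ▸ hr)), Function.update_of_ne hjk.symm,
        Function.update_of_ne hik.symm, Pi.one_apply, ha]
      ring
    refine finish hv' ht' (r := r) (k := k) (by rw [cd_add, cd_smul, g3 v hr, hr]; ring) ?_ ?_
    · rw [hk']
      refine mul_ne_zero hk fun h => hμs.1 ?_
      rw [← neg_eq_of_two h2 a]; linear_combination h
    · rw [hk']
      intro h
      refine hμs.2 ?_
      simp only [map_mul, map_add] at h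
      linear_combination h - (frob hF a + frob hF μ) * (a + μ) * hall k hk - hμ
  have fullOne : ∀ {v : Fin n → F}, hB hF n v v = 0 → Tv hF L v 1 → (∀ m, cd hF e v m ≠ 0) →
      ∀ {k : Fin n}, frob hF (cd hF e v k) * cd hF e v k ≠ 1 → ∃ a b, a ≠ b ∧ PairC hF e L a b := by
    intro v hv ht hfull k hN
    rcases hn with h4 | h6 | hn
    · -- dimension four
      have second : ∀ {v : Fin n → F}, hB hF n v v = 0 → Tv hF L v 1 → (∀ m, cd hF e v m ≠ 0) →
          ∀ {k : Fin n}, frob hF (cd hF e v k) * cd hF e v k ≠ 1 →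
          (∃ m m', frob hF (cd hF e v m) * cd hF e v m ≠ frob hF (cd hF e v m') * cd hF e v m') →
          ∃ a b, a ≠ b ∧ PairC hF e L a b := by
        intro v hv ht hfull k hN hne
        obtain ⟨g, hg, l, hl, hk0, hrest⟩ := O.exists_even_four h4 h2 hv hfull hN hne
        obtain ⟨hv', ht'⟩ := image hg hv ht
        rw [hl] at hv' ht'
        rcases hrest with ⟨m, hm, hm1⟩ | ⟨a, b, c, hab, hac, hbc, ha, hb, hc⟩
        · exact finish hv' ht' hk0 hm hm1
        · exact fromZero hv' ht' (Finset.two_lt_card.2 ⟨a, mem_supp.2 ha, b, mem_supp.2 hb, c,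
            mem_supp.2 hc, hab, hac, hbc⟩) hk0
      by_cases hne : ∃ m m', frob hF (cd hF e v m) * cd hF e v m ≠ frob hF (cd hF e v m') * cd hF e v m'
      · exact second hv ht hfull hN hne
      push Not at hne
      obtain ⟨g, hg, l, hl, hfull', m, m', hmm⟩ := O.exists_even_flat h4 h2 hq hfull hne
      obtain ⟨hv', ht'⟩ := image hg hv ht
      rw [hl] at hv' ht'
      by_cases h1 : frob hF (cd hF e (g v + l • v) m) * cd hF e (g v + l • v) m = 1
      · exact second hv' ht' hfull' (k := m') (fun h => hmm (h1.trans h.symm)) ⟨m, m', hmm⟩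
      · exact second hv' ht' hfull' h1 ⟨m, m', hmm⟩
    · -- dimension six
      obtain ⟨g, hg, l, hl, hk0, a, b, c, hab, hac, hbc, ha, hb, hc⟩ := O.exists_even_six h6 h2 hq hfull hN
      obtain ⟨hv', ht'⟩ := image hg hv ht
      rw [hl] at hv' ht'
      exact fromZero hv' ht' (Finset.two_lt_card.2 ⟨a, mem_supp.2 ha, b, mem_supp.2 hb, c, mem_supp.2 hc,
        hab, hac, hbc⟩) hk0
    let U := (powMonoidHom (q + 1) : Fˣ →* Fˣ).ker
    let ε : U →* F := (Units.coeHom F).comp U.subtype
    haveI : Fintype U := Fintype.ofFinite _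
    have hε : Function.Injective ε := fun a b h => Subtype.ext (Units.ext h)
    have hεn : ∀ d, frob hF (ε d) * ε d = 1 := fun d => by
      have h := congrArg Units.val (MonoidHom.mem_ker.1 d.2)
      rw [powMonoidHom_apply, Units.val_pow_eq_pow_val, Units.val_one, pow_succ] at h
      rwa [frob_apply]
    set p : Fin n → F := fun m => frob hF (cd hF e v m) * cd hF e v m with hp
    set u : Fin n → F := fun m => p m - if m = k then 1 else 0 with hu
    have hu0 : ∀ m, u m ≠ 0 := fun m => by
      simp only [hu, hp]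
      split_ifs with h
      · subst h; exact sub_ne_zero.2 hN
      · rw [sub_zero]; exact mul_ne_zero (by simpa using hfull m) (hfull m)
    set bad : Finset (Fin n → U) :=
      (Finset.univ : Finset ((Fin n × Fin n) × (U × U))).biUnion fun t =>
        {d | (∀ m, m ≠ t.1.1 → m ≠ t.1.2 → d m = t.2.1) ∧ d t.1.1 = t.2.2 ∧
          ∑ m, u m * ε (d m) = 0} with hbad
    have hbadc : bad.card ≤ Fintype.card (Fin n) ^ 2 * (q + 1) ^ 2 := by
      refine Finset.card_biUnion_le.trans ((Finset.sum_le_card_nsmul _ _ 1 fun t _ => ?_).trans ?_)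
      · refine Finset.card_le_one.2 fun d hd d' hd' => ?_
        simp only [Finset.mem_filter, Finset.mem_univ, true_and] at hd hd'
        obtain ⟨⟨a, b⟩, c, da⟩ := t
        have hne : ∀ m, m ≠ b → d m = d' m := fun m hm => by
          rcases eq_or_ne m a with rfl | hma
          · exact hd.2.1.trans hd'.2.1.symm
          · exact (hd.1 m hma hm).trans (hd'.1 m hma hm).symm
        refine funext fun m => ?_
        rcases eq_or_ne m b with rfl | hm
        · have h := hd.2.2.trans hd'.2.2.symm
          rw [← Finset.add_sum_erase _ _ (Finset.mem_univ m), ← Finset.add_sum_erase _ _ (Finset.mem_univ m),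
            Finset.sum_congr rfl (fun l hl => by rw [hne l (Finset.ne_of_mem_erase hl)]), add_left_inj] at h
          exact hε (mul_left_cancel₀ (hu0 m) h)
        · exact hne m hm
      · rw [Finset.card_univ, smul_eq_mul, mul_one, Fintype.card_prod, Fintype.card_prod, Fintype.card_prod,
          ← Nat.card_eq_fintype_card (α := U), card_norm_one hF]
        simp [pow_two]
    obtain ⟨d, hd, hdp, hds⟩ := Count.exists_avoid (frob hF) ε hε hεn (by omega) hF
      (by rw [← Nat.card_eq_fintype_card]; exact card_norm_one hF) (by rw [Fintype.card_fin]; exact hn)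
      u hu0 bad hbadc
    obtain ⟨g, hg, -, g2⟩ := O.dg_mem (fun m => ε (d m)) (fun m => hεn _) (by rw [← map_prod, hdp, map_one])
    have hS : hB hF n v (g v) = ε (d k) := by
      rw [form_eq hF O.ortho, ← sub_eq_zero, ← hds]
      simp only [hu, hp, g2, sub_mul, Finset.sum_sub_distrib, ite_mul, one_mul, zero_mul,
        Finset.sum_ite_eq', Finset.mem_univ, if_true]
      congr 1
      exact Finset.sum_congr rfl fun m _ => by ring
    obtain ⟨hv', ht'⟩ := image hg hv ht
    rw [hS] at hv' ht'
    set v' := g v + ε (d k) • v with hv'def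
    have hcd : ∀ m, cd hF e v' m = (ε (d m) + ε (d k)) * cd hF e v m := fun m => by
      rw [hv'def, cd_add, cd_smul, g2]; ring
    refine fromZero hv' ht' ?_ (r := k) (by rw [hcd]; linear_combination (ε (d k) * cd hF e v k) * h2)
    by_contra hc
    obtain ⟨a, b, hab⟩ : ∃ a b, supp hF e v' ⊆ {a, b} := by
      rcases Nat.lt_or_ge (supp hF e v').card 2 with h | h
      · rcases (supp hF e v').eq_empty_or_nonempty with h0 | ⟨m, hm⟩
        · exact ⟨k, k, by simp [h0]⟩
        · exact ⟨m, m, fun m' hm' => by simp [Finset.card_le_one.1 (by omega) m' hm' m hm]⟩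
      · obtain ⟨a, b, -, hab⟩ := Finset.card_eq_two.1 (by omega : (supp hF e v').card = 2)
        exact ⟨a, b, hab.le⟩
    refine hd ?_
    rw [hbad, Finset.mem_biUnion]
    refine ⟨((a, b), d k, d a), Finset.mem_univ _, ?_⟩
    simp only [Finset.mem_filter, Finset.mem_univ, true_and, hds, and_true]
    intro m ha hb
    have h0 : cd hF e v' m = 0 := by
      by_contra h
      have := hab (mem_supp.2 h)
      simp [ha, hb] at this
    rw [hcd, mul_eq_zero, or_iff_left (hfull m)] at h0
    refine hε ?_
    rw [← neg_eq_of_two h2 (ε (d k))]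
    linear_combination h0
  obtain ⟨v, hv, ht, hs⟩ := O.exists_heavy h2 hx hxM
  by_cases hr : ∃ r, cd hF e v r = 0
  · obtain ⟨r, hr⟩ := hr
    exact fromZero hv ht hs hr
  push Not at hr
  by_cases hall : ∀ k, frob hF (cd hF e v k) * cd hF e v k = 1
  swap
  · push Not at hall
    obtain ⟨k, hk⟩ := hall
    exact fullOne hv ht hr hk
  obtain ⟨ν, hν, hνs⟩ := exists_normOne hF
    (((normOne hF).filter fun z => 0 + 1 * z + frob hF 1 * frob hF z = 0) ∪
      (normOne hF).filter fun z => 0 + 1 * z + frob hF 1 * frob hF z = 1)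
    (lt_of_le_of_lt ((Finset.card_union_le _ _).trans (Nat.add_le_add (card_fibre_le hF 0 one_ne_zero 0)
      (card_fibre_le hF 0 one_ne_zero 1))) (by omega))
  simp only [Finset.mem_union, Finset.mem_filter, mem_normOne, hν, true_and, not_or, map_one, zero_add,
    one_mul] at hνs
  obtain ⟨i, -⟩ := O.exists_other ∅ (by simp)
  obtain ⟨j, hj⟩ := O.exists_other {i} (by simp)
  obtain ⟨k, hk⟩ := O.exists_other {i, j} (Finset.card_le_two.trans_lt (by norm_num))
  simp only [Finset.mem_insert, Finset.mem_singleton, not_or] at hj hk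
  obtain ⟨g, hg, -, g2⟩ := O.dg_mem (Function.update (Function.update 1 i ν) j (frob hF ν)) (fun m => by
    rcases eq_or_ne m j with rfl | h1
    · rw [Function.update_self, frob_frob]; linear_combination hν
    rcases eq_or_ne m i with rfl | h1'
    · rw [Function.update_of_ne h1, Function.update_self]; exact hν
    · simp [h1, h1']) (by
    rw [Finset.prod_update_of_mem (Finset.mem_univ j), Finset.prod_update_of_mem (by simp [Ne.symm hj])]
    simp [hν])
  have hgv : g v = v + (((ν - 1) * cd hF e v i) • e i + ((frob hF ν - 1) * cd hF e v j) • e j) := by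
    refine cd_ext hF O.ortho fun m => ?_
    rw [cd_add, cd_add, cd_smul, cd_smul, cd_frame hF O.ortho, cd_frame hF O.ortho, g2]
    rcases eq_or_ne m j with rfl | hmj
    · rw [Function.update_self, if_neg hj, if_pos rfl]; ring
    rcases eq_or_ne m i with rfl | hmi
    · rw [Function.update_of_ne hmj, Function.update_self, if_pos rfl, if_neg hmj]; ring
    · rw [Function.update_of_ne hmj, Function.update_of_ne hmi, if_neg hmi, if_neg hmj, Pi.one_apply]; ring
  set S := ν + frob hF ν with hSdef
  have hS : hB hF n v (g v) = S := by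
    rw [hgv, map_add, map_add, map_smul, map_smul, hv, smul_eq_mul, smul_eq_mul,
      ← (hB_isSymm hF n).eq (e i) v, ← (hB_isSymm hF n).eq (e j) v]
    simp only [cd]
    have e1 := hall i
    have e2 := hall j
    simp only [cd] at e1 e2
    linear_combination (ν - 1) * e1 + (frob hF ν - 1) * e2 - h2
  obtain ⟨hv', ht'⟩ := image hg hv ht
  rw [hS] at hv' ht'
  have hν0 : ν ≠ 0 := fun h => by simp [h] at hν
  have hS1 : 1 + S ≠ 0 := fun h => hνs.2 (by rw [← neg_eq_of_two h2 (1 : F)]; linear_combination h)
  refine fullOne hv' ht' (k := k) (fun m => ?_) ?_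
  · rw [cd_add, cd_smul, g2]
    rcases eq_or_ne m j with rfl | hmj
    · rw [Function.update_self, ← add_mul]
      refine mul_ne_zero ?_ (hr m)
      rw [hSdef, show frob hF ν + (ν + frob hF ν) = ν by linear_combination frob hF ν * h2]
      exact hν0
    rcases eq_or_ne m i with rfl | hmi
    · rw [Function.update_of_ne hmj, Function.update_self, ← add_mul]
      refine mul_ne_zero ?_ (hr m)
      rw [hSdef, show ν + (ν + frob hF ν) = frob hF ν by linear_combination ν * h2]
      simpa using hν0
    · rw [Function.update_of_ne hmj, Function.update_of_ne hmi, Pi.one_apply, ← add_mul]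
      exact mul_ne_zero hS1 (hr m)
  · rw [cd_add, cd_smul, g2, Function.update_of_ne hk.2, Function.update_of_ne hk.1, Pi.one_apply,
      ← add_mul]
    simp only [map_mul, map_add, map_one, hSdef, frob_frob]
    intro h
    have : (ν + frob hF ν) * (ν + frob hF ν) = 0 := by
      linear_combination h - (1 + (frob hF ν + ν)) * (1 + (ν + frob hF ν)) * hall k -
        (ν + frob hF ν) * h2
    exact hνs.1 (mul_self_eq_zero.1 this)

end Over

end Cfsg.Lib.Linear.UDec
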