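import Cfsg.Agent.Lib.Linear.UDec.Gen

/-!
# An element fixing a frame line but not the frame gives a transvection, odd `q`
-/

set_option autoImplicit false

namespace Cfsg.Lib.Linear.UDec

open Module
open Cfsg.Lib.Linear Cfsg.Lib.Linear.Herm

variable {F : Type*} [Field F] [Fintype F] {q n : ℕ} {hF : Fintype.card F = q ^ 2}
  {e : Fin n → (Fin n → F)} {L : Subgroup ((Fin n → F) ≃ₗ[F] (Fin n → F))}

/-- `g` multiplies `u` by `κ` and `e r` by its inverse, fixing their common perp. -/
def IsTorus (hF : Fintype.card F = q ^ 2) (e : Fin n → (Fin n → F)) (r : Fin n) (u : Fin n → F) (κ : F)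
    (g : (Fin n → F) ≃ₗ[F] (Fin n → F)) : Prop :=
  ∀ v, g v = v + ((κ - 1) * hB hF n u v) • u + ((frob hF κ - 1) * cd hF e v r) • e r

theorem IsTorus.mul {r : Fin n} {u : Fin n → F} {κ κ' : F} {g g' : (Fin n → F) ≃ₗ[F] (Fin n → F)}
    (he : Ortho hF e) (hu : hB hF n u u = 1) (hur : cd hF e u r = 0)
    (hg : IsTorus hF e r u κ g) (hg' : IsTorus hF e r u κ' g') :
    IsTorus hF e r u (κ * κ') (g * g') := by
  intro v
  have hru : hB hF n u (e r) = 0 := hB_symm_zero hF hur
  rw [LinearEquiv.mul_apply, hg' v, hg, map_add, map_add, map_smul, map_smul, hu, hru, cd_add, cd_add,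
    cd_smul, cd_smul, hur, cd_frame hF he, if_pos rfl, smul_eq_mul, smul_eq_mul, map_mul]
  simp only [mul_zero, add_zero, mul_one]
  module

theorem IsTorus.eq_one {r : Fin n} {u : Fin n → F} {g : (Fin n → F) ≃ₗ[F] (Fin n → F)}
    (hg : IsTorus hF e r u 1 g) (v : Fin n → F) : g v = v := by
  rw [hg v, map_one, sub_self, zero_mul, zero_mul, zero_smul, zero_smul, add_zero, add_zero]

/-- A vector with at most one non-zero coordinate is a multiple of a frame vector. -/
theorem eq_smul_of_supp (he : Ortho hF e) (hn : 0 < n) {v : Fin n → F} (h : (supp hF e v).card ≤ 1) :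
    ∃ (j : Fin n) (c : F), v = c • e j := by
  classical
  obtain ⟨j, hj⟩ : ∃ j, supp hF e v ⊆ {j} := by
    rcases (supp hF e v).eq_empty_or_nonempty with h0 | ⟨j, hj⟩
    · exact ⟨⟨0, hn⟩, by simp [h0]⟩
    · exact ⟨j, fun i hi => Finset.mem_singleton.2 (Finset.card_le_one.1 h i hi j hj)⟩
  refine ⟨j, cd hF e v j, cd_ext hF he fun i => ?_⟩
  rw [cd_smul, cd_frame hF he]
  rcases eq_or_ne i j with rfl | hij
  · rw [if_pos rfl, mul_one]
  · rw [if_neg hij, mul_zero]
    by_contra h0
    exact hij (Finset.mem_singleton.1 (hj (mem_supp.2 h0)))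

theorem natCast_q_eq_zero (hF : Fintype.card F = q ^ 2) : (q : F) = 0 := by
  have h := Nat.cast_card_eq_zero F
  rw [hF, Nat.cast_pow] at h
  exact pow_eq_zero_iff two_ne_zero |>.1 h

theorem pow_succ_q_eq_one {t : F} (ht : frob hF t * t = 1) : t ^ (q + 1) = 1 := by
  rwa [pow_succ, ← frob_apply hF]

namespace Over

variable (O : Over hF e L)
include O

theorem exists_torus {x : (Fin n → F) ≃ₗ[F] (Fin n → F)} (hx : x ∈ L) {r : Fin n} {c : F}
    (hr : x (e r) = c • e r) {j : Fin n} (hjr : j ≠ r) {κ : F} (hκ : frob hF κ * κ = 1) :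
    ∃ g ∈ L, IsTorus hF e r (x (e j)) κ g := by
  classical
  obtain ⟨h, hh, h1, -, -, h4⟩ := O.dg_comp (Function.update 1 j κ) r (fun i => by
    rcases eq_or_ne i j with rfl | hi
    · rw [Function.update_self]; exact hκ
    · simp [hi]) (by simp [hjr.symm])
  have hprod : (∏ i, Function.update (1 : Fin n → F) j κ i)⁻¹ = frob hF κ := by
    rw [Finset.prod_update_of_mem (Finset.mem_univ j)]
    simp only [Pi.one_apply, Finset.prod_const_one, mul_one]
    exact inv_eq_of_mul_eq_one_left hκ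
  have hc : frob hF c * c = 1 := by
    have h := O.le_iso hx (e r) (e r)
    simp only [hr, map_smul, LinearMap.map_smulₛₗ, LinearMap.smul_apply, O.ortho r r, if_pos,
      smul_eq_mul, RingHom.id_apply, mul_one] at h
    linear_combination h
  refine ⟨x * h * x⁻¹, mul_mem (mul_mem hx hh) (inv_mem hx), fun v => ?_⟩
  have hv : x (x⁻¹ v) = v := by rw [← LinearEquiv.mul_apply, mul_inv_cancel]; rfl
  have hhv : h (x⁻¹ v) = x⁻¹ v + ((κ - 1) * cd hF e (x⁻¹ v) j) • e j +
      ((frob hF κ - 1) * cd hF e (x⁻¹ v) r) • e r := by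
    conv_lhs => rw [← expand hF O.ortho (x⁻¹ v)]
    rw [map_sum]
    conv_rhs => arg 1; arg 1; rw [← expand hF O.ortho (x⁻¹ v)]
    rw [← sub_eq_zero]
    have key : ∀ i, h (cd hF e (x⁻¹ v) i • e i) = cd hF e (x⁻¹ v) i • e i +
        (if i = j then ((κ - 1) * cd hF e (x⁻¹ v) j) • e j else 0) +
        (if i = r then ((frob hF κ - 1) * cd hF e (x⁻¹ v) r) • e r else 0) := by
      intro i
      rw [map_smul]
      rcases eq_or_ne i r with rfl | hir
      · rw [h4, hprod, if_neg hjr.symm, if_pos rfl]; module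
      rw [h1 i hir, if_neg hir]
      rcases eq_or_ne i j with rfl | hij
      · rw [Function.update_self, if_pos rfl]; module
      · rw [Function.update_of_ne hij, if_neg hij, Pi.one_apply]; module
    rw [Finset.sum_congr rfl fun i _ => key i, Finset.sum_add_distrib, Finset.sum_add_distrib,
      Finset.sum_ite_eq', Finset.sum_ite_eq', if_pos (Finset.mem_univ _), if_pos (Finset.mem_univ _)]
    exact sub_self _
  have e1 : cd hF e (x⁻¹ v) j = hB hF n (x (e j)) v := by
    have := O.le_iso hx (e j) (x⁻¹ v)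
    rw [hv] at this
    exact this.symm
  have e2 : c * cd hF e (x⁻¹ v) r = cd hF e v r := by
    have := O.le_iso hx (e r) (x⁻¹ v)
    rw [hv, hr, LinearMap.map_smulₛₗ, LinearMap.smul_apply, smul_eq_mul] at this
    simp only [cd]
    linear_combination (-c) * this + hB hF n (e r) v * hc
  rw [LinearEquiv.mul_apply, LinearEquiv.mul_apply, hhv, map_add, map_add, map_smul, map_smul, hv, hr,
    e1, smul_smul, ← e2]
  congr 2
  ring

theorem exists_torus_frame {r a : Fin n} (har : a ≠ r) {η : F} (hη : frob hF η * η = 1) :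
    ∃ g ∈ L, IsTorus hF e r (e a) η g := by
  simpa using O.exists_torus (one_mem L) (r := r) (c := 1) (by simp) har hη

/-- Two tori in a plane give a transvection. -/
theorem pairC_of_plane (h2 : (2 : F) ≠ 0) {x : (Fin n → F) ≃ₗ[F] (Fin n → F)} (hx : x ∈ L)
    {r : Fin n} {c₀ : F} (hxr : x (e r) = c₀ • e r) {j a : Fin n} (hjr : j ≠ r) (har : a ≠ r)
    (hur : cd hF e (x (e j)) r = 0)
    (hP0 : frob hF (cd hF e (x (e j)) a) * cd hF e (x (e j)) a ≠ 0)
    (hP1 : frob hF (cd hF e (x (e j)) a) * cd hF e (x (e j)) a ≠ 1) :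
    ∃ v, hB hF n v v = 0 ∧ cd hF e v r = 0 ∧ cd hF e v a ≠ 0 ∧ UMax.Centre hF L v := by
  classical
  set u := x (e j) with hu
  set ua := cd hF e u a with hua
  have huu : hB hF n u u = 1 := by rw [hu, O.le_iso hx, O.ortho, if_pos rfl]
  have huea : hB hF n u (e a) = frob hF ua := ((hB_isSymm hF n).eq (e a) u).symm
  have huer : hB hF n u (e r) = 0 := hB_symm_zero hF hur
  have hear : cd hF e (e a) r = 0 := by rw [cd_frame hF O.ortho, if_neg har.symm]
  have heaa : hB hF n (e a) (e a) = 1 := by rw [O.ortho, if_pos rfl]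
  set P := frob hF ua * ua with hP
  have hPf : frob hF P = P := by rw [hP, map_mul, frob_frob]; ring
  obtain ⟨c, hc⟩ := exists_norm_fixed (frob_ne_id hF) (frob_frob hF) (sub_ne_zero.2 hP1)
    (by rw [map_sub, hPf, map_one])
  have hc0 : c ≠ 0 := fun h => hP1 (by rw [h, map_zero, zero_mul] at hc; exact (sub_eq_zero.1 hc.symm))
  have hsc : frob hF c ≠ 0 := by simpa using hc0
  set w := u - ua • e a with hw
  have hwa : cd hF e w a = 0 := by rw [hw, cd_sub, cd_smul, cd_frame hF O.ortho, if_pos rfl, hua]; ring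
  have hwr : cd hF e w r = 0 := by rw [hw, cd_sub, cd_smul, hur, hear]; ring
  have hww : hB hF n w w = 1 - P := by
    have heau : hB hF n (e a) u = ua := rfl
    simp only [hw, hP, map_sub, LinearMap.sub_apply, map_smul, LinearMap.map_smulₛₗ,
      LinearMap.smul_apply, smul_eq_mul, RingHom.id_apply, huu, huea, heaa, heau]
    ring
  set v₀ := c • e a + w with hv₀
  have hv0a : cd hF e v₀ a = c := by
    rw [hv₀, cd_add, cd_smul, cd_frame hF O.ortho, if_pos rfl, hwa]; ring
  have hv0r : cd hF e v₀ r = 0 := by rw [hv₀, cd_add, cd_smul, hear, hwr]; ring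
  have hv0ea : hB hF n v₀ (e a) = frob hF c := by
    rw [← hv0a]; exact ((hB_isSymm hF n).eq (e a) v₀).symm
  have hv00 : hB hF n v₀ v₀ = 0 := by
    have h1 : hB hF n (e a) w = 0 := hwa
    simp only [hv₀, map_add, LinearMap.add_apply, map_smul, LinearMap.map_smulₛₗ, LinearMap.smul_apply,
      smul_eq_mul, RingHom.id_apply, heaa, h1, hB_symm_zero hF h1, hww, mul_one, mul_zero]
    linear_combination hc
  have hv0ne : v₀ ≠ 0 := fun h => hc0 (by rw [← hv0a, h, cd_zero])
  set S := frob hF ua * c + (1 - P) with hS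
  have huv0 : hB hF n u v₀ = S := by
    rw [hv₀, hw, map_add, map_smul, map_sub, map_smul, huu, huea, hS, hP]
    simp only [smul_eq_mul]
    ring
  -- elements of `L` scaling `v₀`
  have scale : ∀ κ : F, frob hF κ * κ = 1 → ∃ s η : F, ∃ g h : (Fin n → F) ≃ₗ[F] (Fin n → F),
      s ≠ 0 ∧ frob hF η * η = 1 ∧ g ∈ L ∧ h ∈ L ∧ IsTorus hF e r (e a) η g ∧ IsTorus hF e r u κ h ∧
      g (h v₀) = s • v₀ := by
    intro κ hκ
    obtain ⟨h, hh, hT⟩ := O.exists_torus hx hxr hjr hκ
    set D := (κ - 1) * S with hD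
    have hv1 : h v₀ = (c + D * ua) • e a + (1 + D) • w := by
      rw [hT v₀, huv0, hv0r, mul_zero, zero_smul, add_zero, ← hD, hv₀, hw]
      module
    have hN : frob hF (c + D * ua) * (c + D * ua) = (P - 1) * (frob hF (1 + D) * (1 + D)) := by
      rw [hD, hS, hP]
      simp only [map_add, map_sub, map_mul, map_one, frob_frob]
      rw [hP] at hc
      linear_combination hc +
        ((frob hF ua * c + (1 - frob hF ua * ua)) *
          (ua * frob hF c + (1 - ua * frob hF ua))) * hκ
    have hs0 : 1 + D ≠ 0 := by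
      intro h0
      rw [h0, mul_zero, mul_zero] at hN
      have h1 : c + D * ua = 0 := by
        rcases mul_eq_zero.1 hN with h2 | h2
        · exact (map_eq_zero _).1 h2
        · exact h2
      rw [h0, h1, zero_smul, zero_smul, add_zero, ← LinearEquiv.map_zero h] at hv1
      exact hv0ne (h.injective hv1)
    have hc1 : c + D * ua ≠ 0 := by
      intro h1
      rw [h1, mul_zero] at hN
      exact mul_ne_zero (sub_ne_zero.2 hP1) (mul_ne_zero (fun hh => hs0 ((map_eq_zero _).1 hh)) hs0) hN.symm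
    set η := (1 + D) * c / (c + D * ua) with hη
    have hη1 : frob hF η * η = 1 := by
      have : frob hF (c + D * ua) ≠ 0 := fun hh => hc1 ((map_eq_zero _).1 hh)
      rw [hη, map_div₀, div_mul_div_comm, div_eq_one_iff_eq (mul_ne_zero this hc1), hN, map_mul, ← hc]
      ring
    obtain ⟨g, hg, hgT⟩ := O.exists_torus_frame har hη1
    refine ⟨1 + D, η, g, h, hs0, hη1, hg, hh, hgT, hT, ?_⟩
    have hxa : hB hF n (e a) (h v₀) = c + D * ua := by
      rw [hv1, map_add, map_smul, map_smul, heaa, show hB hF n (e a) w = 0 from hwa]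
      simp
    have hxr' : cd hF e (h v₀) r = 0 := by rw [hv1, cd_add, cd_smul, cd_smul, hear, hwr]; ring
    have e1 : (η - 1) * (c + D * ua) = (1 + D) * c - (c + D * ua) := by
      rw [hη]; field_simp
    rw [hgT (h v₀), hxa, hxr', e1, mul_zero, zero_smul, add_zero, hv1, hv₀]
    module
  choose sF ηF gF hF' hs hη hgm hhm hgT hhT hscale using scale
  -- a collision
  obtain ⟨κ₁, hκ₁, κ₂, hκ₂, hne, hcol⟩ : ∃ κ₁ ∈ normOne hF, ∃ κ₂ ∈ normOne hF, κ₁ ≠ κ₂ ∧
      (fun z : F => if hz : frob hF z * z = 1 then frob hF (sF z hz) * sF z hz else 1) κ₁ =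
      (fun z : F => if hz : frob hF z * z = 1 then frob hF (sF z hz) * sF z hz else 1) κ₂ := by
    refine Finset.exists_ne_map_eq_of_card_lt_of_maps_to (t := (fixedSet hF).erase 0) ?_ ?_
    · rw [card_normOne]
      have h1 := Finset.card_erase_add_one (show (0 : F) ∈ fixedSet hF by simp [mem_fixed])
      have h2 := card_fixed_le hF
      omega
    · intro z hz
      simp only [Finset.mem_coe, mem_normOne] at hz
      simp only [dif_pos hz, Finset.coe_erase, Set.mem_diff, Finset.mem_coe, mem_fixed, Set.mem_singleton_iff]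
      exact ⟨by rw [map_mul, frob_frob]; ring, mul_ne_zero (by simpa using hs z hz) (hs z hz)⟩
  rw [mem_normOne] at hκ₁ hκ₂
  simp only [dif_pos hκ₁, dif_pos hκ₂] at hcol
  set s₁ := sF κ₁ hκ₁
  set s₂ := sF κ₂ hκ₂
  have hs₁ : s₁ ≠ 0 := hs κ₁ hκ₁
  set η₁ := ηF κ₁ hκ₁
  set η₂ := ηF κ₂ hκ₂
  have hinv : ∀ {z : F}, frob hF z * z = 1 → frob hF (frob hF z) * frob hF z = 1 := fun h => by
    rw [frob_frob]; linear_combination h
  obtain ⟨U, hUm, hU⟩ := O.exists_torus hx hxr hjr (hinv hκ₁)
  obtain ⟨A, hAm, hA⟩ := O.exists_torus_frame har (hinv (hη κ₁ hκ₁))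
  set t := s₂ / s₁ with ht
  have htn : frob hF t * t = 1 := by
    have : frob hF s₁ ≠ 0 := by simpa using hs₁
    rw [ht, map_div₀, div_mul_div_comm, div_eq_one_iff_eq (mul_ne_zero this hs₁), hcol]
  have ht0 : t ≠ 0 := fun h => by rw [h, mul_zero] at htn; exact zero_ne_one htn
  set G := U * A * gF κ₂ hκ₂ * hF' κ₂ hκ₂ with hG
  have hGm : G ∈ L := mul_mem (mul_mem (mul_mem hUm hAm) (hgm _ _)) (hhm _ _)
  have hUU : ∀ v, U (hF' κ₁ hκ₁ v) = v := by
    intro v
    have := IsTorus.mul O.ortho huu hur hU (hhT κ₁ hκ₁)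
    rw [hκ₁] at this
    exact this.eq_one v
  have hAA : ∀ v, A (gF κ₁ hκ₁ v) = v := by
    intro v
    have := IsTorus.mul O.ortho heaa hear hA (hgT κ₁ hκ₁)
    rw [hη κ₁ hκ₁] at this
    exact this.eq_one v
  have hGv : G v₀ = t • v₀ := by
    have h1 : U (A (s₁ • v₀)) = v₀ := by rw [← hscale κ₁ hκ₁, hAA, hUU]
    rw [hG, LinearEquiv.mul_apply, LinearEquiv.mul_apply, LinearEquiv.mul_apply, hscale κ₂ hκ₂]
    rw [map_smul, map_smul] at h1 ⊢
    conv_rhs => rw [← h1]
    rw [smul_smul, ht, div_mul_cancel₀ _ hs₁]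
  -- the plane is preserved
  set Pl := Submodule.span F {e a, v₀} with hPl
  have haP : e a ∈ Pl := Submodule.subset_span (by simp)
  have hvP : v₀ ∈ Pl := Submodule.subset_span (by simp)
  have huP : u ∈ Pl := by
    rw [show u = v₀ + (ua - c) • e a by rw [hv₀, hw]; module]
    exact add_mem hvP (Submodule.smul_mem _ _ haP)
  have hPr : ∀ z ∈ Pl, cd hF e z r = 0 := by
    intro z hz
    obtain ⟨p, p', rfl⟩ := Submodule.mem_span_pair.1 hz
    rw [cd_add, cd_smul, cd_smul, hear, hv0r]; ring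
  have hpres : ∀ {κ : F} {g : (Fin n → F) ≃ₗ[F] (Fin n → F)} {w' : Fin n → F}, w' ∈ Pl →
      IsTorus hF e r w' κ g → ∀ z ∈ Pl, g z ∈ Pl := by
    intro κ g w' hw' hg z hz
    rw [hg z, hPr z hz, mul_zero, zero_smul, add_zero]
    exact add_mem hz (Submodule.smul_mem _ _ hw')
  have hGP : ∀ z ∈ Pl, G z ∈ Pl := fun z hz => hpres huP hU _ (hpres haP hA _
    (hpres haP (hgT _ _) _ (hpres huP (hhT _ _) _ hz)))
  obtain ⟨lam, mu, hlm⟩ := Submodule.mem_span_pair.1 (hGP _ haP)
  have hlam : lam = t := by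
    have h := O.le_iso hGm v₀ (e a)
    rw [hGv, ← hlm, LinearMap.map_smulₛₗ, LinearMap.smul_apply, map_add, map_smul, map_smul, hv0ea,
      hv00, smul_eq_mul, smul_eq_mul, smul_eq_mul, mul_zero, add_zero] at h
    refine mul_right_cancel₀ hsc ?_
    linear_combination t * h - lam * frob hF c * htn
  rw [hlam] at hlm
  have hmu : mu ≠ 0 := by
    intro h0
    rw [h0, zero_smul, add_zero] at hlm
    have hscal : ∀ z ∈ Pl, G z = t • z := by
      intro z hz
      obtain ⟨p, p', rfl⟩ := Submodule.mem_span_pair.1 hz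
      rw [map_add, map_smul, map_smul, hGv, ← hlm]; module
    have hAg := IsTorus.mul O.ortho heaa hear hA (hgT κ₂ hκ₂)
    have hhU := IsTorus.mul O.ortho huu hur (hhT κ₂ hκ₂) hU
    have hH : ∀ z ∈ Pl, (A * gF κ₂ hκ₂) ((hF' κ₂ hκ₂ * U) z) = t • z := by
      intro z hz
      have h1 := hscal (U z) (hpres huP hU z hz)
      have h2 : U (A (gF κ₂ hκ₂ (hF' κ₂ hκ₂ (U z)))) = U (t • z) := by rw [map_smul]; exact h1
      exact U.injective h2
    set z := e a - frob hF ua • u with hz
    have huz : hB hF n u z = 0 := by rw [hz, map_sub, map_smul, huea, huu]; simp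
    have hza : hB hF n (e a) z = 1 - P := by
      rw [hz, map_sub, map_smul, heaa, show hB hF n (e a) u = ua from rfl, hP]; simp
    have hzP : z ∈ Pl := sub_mem haP (Submodule.smul_mem _ _ huP)
    have hzr := hPr z hzP
    have hz1 := hH z hzP
    rw [hhU z, huz, hzr, mul_zero, mul_zero, zero_smul, zero_smul, add_zero, add_zero, hAg z, hzr, hza,
      mul_zero, zero_smul, add_zero] at hz1
    set η' := frob hF η₁ * η₂
    have h3 := congrArg (hB hF n u) hz1
    rw [map_add, map_smul, map_smul, huz, huea, smul_zero, zero_add, smul_eq_mul] at h3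
    have hη' : η' = 1 := by
      rcases mul_eq_zero.1 h3 with h4 | h4
      · exact sub_eq_zero.1 ((mul_eq_zero.1 h4).resolve_right (sub_ne_zero.2 (Ne.symm hP1)))
      · exact absurd h4 (left_ne_zero_of_mul hP0)
    have h5 := congrArg (hB hF n (e a)) hz1
    rw [hη', sub_self, zero_mul, zero_smul, add_zero, map_smul, hza, smul_eq_mul] at h5
    have ht1 : t = 1 := mul_right_cancel₀ (sub_ne_zero.2 (Ne.symm hP1)) (by linear_combination -h5)
    have h6 := hH u huP
    rw [hhU u, huu, hur, mul_zero, zero_smul, add_zero, mul_one] at h6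
    have hAgu : ∀ y ∈ Pl, (A * gF κ₂ hκ₂) y = y := by
      intro y hy
      rw [hAg y, hPr y hy]
      show y + ((η' - 1) * hB hF n (e a) y) • e a + _ = y
      rw [hη']; simp
    rw [hAgu _ (add_mem huP (Submodule.smul_mem _ _ huP)), ht1, one_smul, add_eq_left] at h6
    have h7 : κ₂ * frob hF κ₁ = 1 := by
      rcases smul_eq_zero.1 h6 with h8 | h8
      · exact sub_eq_zero.1 h8
      · simp [h8] at huu
    exact hne (by linear_combination (κ₂) * hκ₁ - κ₁ * h7)
  -- a power is a transvection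
  set ν := mu / t with hν
  have hm : ∀ m : ℕ, (G ^ m) (e a) = t ^ m • (e a + ((m : F) * ν) • v₀) ∧ (G ^ m) v₀ = t ^ m • v₀ := by
    intro m
    induction m with
    | zero => simp
    | succ m ih =>
      refine ⟨?_, ?_⟩
      · rw [pow_succ', LinearEquiv.mul_apply, ih.1, map_smul, map_add, map_smul, hGv, ← hlm, hν]
        match_scalars <;> field_simp <;> push_cast <;> ring
      · rw [pow_succ', LinearEquiv.mul_apply, ih.2, map_smul, hGv, smul_smul, pow_succ]
  set ρ := frob hF (frob hF κ₁) * (frob hF (frob hF η₁) * (frob hF η₂ * frob hF κ₂)) with hρ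
  have hGr : G (e r) = ρ • e r := by
    have key : ∀ {κ : F} {g : (Fin n → F) ≃ₗ[F] (Fin n → F)} {w' : Fin n → F}, cd hF e w' r = 0 →
        IsTorus hF e r w' κ g → g (e r) = frob hF κ • e r := by
      intro κ g w' hw' hg
      rw [hg, hB_symm_zero hF hw', cd_frame hF O.ortho, if_pos rfl, mul_zero, zero_smul, add_zero,
        mul_one, sub_smul, one_smul, add_sub_cancel]
    simp only [hG, LinearEquiv.mul_apply, key hur (hhT _ _), key hear (hgT _ _), key hear hA,
      key hur hU, map_smul, smul_smul, hρ]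
    congr 1
    ring
  have hρn : frob hF ρ * ρ = 1 := by
    have h := O.le_iso hGm (e r) (e r)
    simp only [hGr, map_smul, LinearMap.map_smulₛₗ, LinearMap.smul_apply, O.ortho r r, if_pos,
      smul_eq_mul, RingHom.id_apply, mul_one] at h
    linear_combination h
  set T := G ^ (q + 1) with hT
  have hTm : T ∈ L := pow_mem hGm _
  have hTa : T (e a) = e a + ν • v₀ := by
    rw [hT, (hm _).1, pow_succ_q_eq_one htn, one_smul, Nat.cast_add, natCast_q_eq_zero hF]
    simp
  have hTv : T v₀ = v₀ := by rw [hT, (hm _).2, pow_succ_q_eq_one htn, one_smul]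
  have hTr : T (e r) = e r := by
    have : ∀ m : ℕ, (G ^ m) (e r) = ρ ^ m • e r := by
      intro m
      induction m with
      | zero => simp
      | succ m ih => rw [pow_succ', LinearEquiv.mul_apply, ih, map_smul, hGr, smul_smul, pow_succ]
    rw [hT, this, pow_succ_q_eq_one hρn, one_smul]
  have hperp : ∀ y, hB hF n u y = 0 → hB hF n (e a) y = 0 → cd hF e y r = 0 → T y = y := by
    intro y h1 h2 h3
    have key : ∀ {κ : F} {g : (Fin n → F) ≃ₗ[F] (Fin n → F)} {w' : Fin n → F}, hB hF n w' y = 0 →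
        IsTorus hF e r w' κ g → g y = y := by
      intro κ g w' hw' hg
      rw [hg, hw', h3]; simp
    have hGy : G y = y := by
      rw [hG, LinearEquiv.mul_apply, LinearEquiv.mul_apply, LinearEquiv.mul_apply, key h1 (hhT _ _),
        key h2 (hgT _ _), key h2 hA, key h1 hU]
    have : ∀ m : ℕ, (G ^ m) y = y := by
      intro m
      induction m with
      | zero => simp
      | succ m ih => rw [pow_succ', LinearEquiv.mul_apply, ih, hGy]
    rw [hT, this]
  set α := ν / frob hF c with hα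
  have hν0 : ν ≠ 0 := div_ne_zero hmu ht0
  have hαt : α + frob hF α = 0 := by
    have h := O.le_iso hTm (e a) (e a)
    have h1 : hB hF n (e a) v₀ = c := hv0a
    simp only [hTa, map_add, LinearMap.add_apply, map_smul, LinearMap.map_smulₛₗ, LinearMap.smul_apply,
      smul_eq_mul, RingHom.id_apply, heaa, h1, hv0ea, hv00, mul_zero, add_zero] at h
    rw [hα, map_div₀, frob_frob, div_add_div _ _ hsc hc0, div_eq_zero_iff]
    left
    linear_combination h
  have hl : α + frob hF α + frob hF α * α * hB hF n v₀ v₀ = 0 := by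
    rw [hv00, mul_zero, add_zero]; exact hαt
  have hTeq : qrefl v₀ α hl = T := by
    refine LinearEquiv.ext fun y => ?_
    set m' := hB hF n v₀ y / frob hF c with hm'
    set l' := (cd hF e y a - m') / c with hl'
    set y₀ := y - l' • v₀ - m' • e a - cd hF e y r • e r with hy₀
    have h1 : hB hF n (e a) y₀ = 0 := by
      show cd hF e y₀ a = 0
      rw [hy₀, cd_sub, cd_sub, cd_sub, cd_smul, cd_smul, cd_smul, hv0a, cd_frame hF O.ortho,
        cd_frame hF O.ortho, if_pos rfl, if_neg har, hl']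
      field_simp
      ring
    have h2' : hB hF n v₀ y₀ = 0 := by
      rw [hy₀, map_sub, map_sub, map_sub, map_smul, map_smul, map_smul, hv00, hv0ea,
        hB_symm_zero hF hv0r, hm']
      simp only [smul_eq_mul]
      field_simp
      ring
    have h3 : cd hF e y₀ r = 0 := by
      rw [hy₀, cd_sub, cd_sub, cd_sub, cd_smul, cd_smul, cd_smul, hv0r, hear, cd_frame hF O.ortho,
        if_pos rfl]
      ring
    have h4 : hB hF n u y₀ = 0 := by
      rw [show u = v₀ + (ua - c) • e a by rw [hv₀, hw]; module, map_add, LinearMap.add_apply, h2',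
        LinearMap.map_smulₛₗ, LinearMap.smul_apply, h1, smul_zero, add_zero]
    have hy : y = y₀ + l' • v₀ + m' • e a + cd hF e y r • e r := by rw [hy₀]; abel
    conv_rhs => rw [hy]
    rw [map_add, map_add, map_add, map_smul, map_smul, map_smul, hperp y₀ h4 h1 h3, hTv, hTa, hTr,
      qrefl_apply, smul_add, smul_smul, show α * hB hF n v₀ y = m' * ν by rw [hα, hm']; ring, hy₀]
    module
  have htv : Tv hF L v₀ α := ⟨hl, hTeq ▸ hTm⟩
  refine ⟨v₀, hv00, hv0r, by rw [hv0a]; exact hc0, O.centre_of_tv hv00 (by rw [hv0a]; exact hc0) hv0r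
    htv (div_ne_zero hν0 hsc) fun h => h2 ?_⟩
  rw [hv0a] at h
  have h' := congrArg (frob hF) h
  simp only [map_mul, frob_frob, map_one] at h'
  linear_combination (frob hF c * c) * hαt - h - h'

/-- An element fixing a frame line and moving the frame gives a pair centre. -/
theorem pairC_of_fixer (h2 : (2 : F) ≠ 0) (hq : 3 ≤ q) {x : (Fin n → F) ≃ₗ[F] (Fin n → F)} (hx : x ∈ L)
    (hxM : ¬ Mono e x) {r : Fin n} {c₀ : F} (hxr : x (e r) = c₀ • e r) :
    ∃ a b, a ≠ b ∧ PairC hF e L a b := by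
  classical
  have hn : 0 < n := by have := O.dim; omega
  have orth : ∀ {y : (Fin n → F) ≃ₗ[F] (Fin n → F)}, y ∈ L → ∀ {d : F}, y (e r) = d • e r →
      ∀ {j : Fin n}, j ≠ r → cd hF e (y (e j)) r = 0 := by
    intro y hy d hd j hj
    have h := O.le_iso hy (e r) (e j)
    rw [hd, LinearMap.map_smulₛₗ, LinearMap.smul_apply, O.ortho r j, if_neg hj.symm, smul_eq_mul,
      mul_eq_zero] at h
    refine h.resolve_left fun h0 => ?_
    have : y (e r) = y 0 := by rw [hd, (map_eq_zero _).1 h0, zero_smul, map_zero]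
    exact ne_zero hF O.ortho r (y.injective this)
  obtain ⟨j, hj⟩ : ∃ j, 2 ≤ (supp hF e (x (e j))).card := by
    by_contra hne
    push Not at hne
    exact hxM fun i => eq_smul_of_supp O.ortho hn (Nat.le_of_lt_succ (hne i))
  have hjr : j ≠ r := by
    intro h
    subst h
    have : supp hF e (x (e j)) ⊆ {j} := fun i hi => by
      rw [mem_supp, hxr, cd_smul, cd_frame hF O.ortho] at hi
      by_contra h'
      exact hi (by rw [if_neg (fun h => h' (Finset.mem_singleton.2 h)), mul_zero])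
    have := Finset.card_le_card this
    rw [Finset.card_singleton] at this
    omega
  have hur := orth hx hxr hjr
  suffices H : ∃ y ∈ L, ∃ (d : F) (j a : Fin n), y (e r) = d • e r ∧ j ≠ r ∧ a ≠ r ∧
      frob hF (cd hF e (y (e j)) a) * cd hF e (y (e j)) a ≠ 0 ∧
      frob hF (cd hF e (y (e j)) a) * cd hF e (y (e j)) a ≠ 1 by
    obtain ⟨y, hy, d, j', a, hd, hj', ha, h0, h1⟩ := H
    obtain ⟨v, hvv, hvr, hva, hvc⟩ := O.pairC_of_plane h2 hy hd hj' ha (orth hy hd hj') h0 h1
    obtain ⟨b, hb, hba⟩ : ∃ b, cd hF e v b ≠ 0 ∧ b ≠ a := by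
      by_contra hne
      push Not at hne
      rw [form_eq hF O.ortho, Finset.sum_eq_single a (fun k _ hk => by
        rw [not_not.1 fun h => hk (hne k h), mul_zero]) (fun h => absurd (Finset.mem_univ a) h)] at hvv
      exact mul_ne_zero (by simpa using hva) hva hvv
    exact ⟨a, b, hba.symm, O.pairC_of_centre hvv hvc hba.symm hva hb hvr⟩
  obtain ⟨a, ha, b, hb, hab⟩ := Finset.one_lt_card.1 hj
  rw [mem_supp] at ha hb
  have har : a ≠ r := fun h => ha (h ▸ hur)
  have hbr : b ≠ r := fun h => hb (h ▸ hur)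
  by_cases h1 : frob hF (cd hF e (x (e j)) a) * cd hF e (x (e j)) a = 1
  swap
  · exact ⟨x, hx, c₀, j, a, hxr, hjr, har, mul_ne_zero (by simpa using ha) ha, h1⟩
  by_cases h1b : frob hF (cd hF e (x (e j)) b) * cd hF e (x (e j)) b = 1
  swap
  · exact ⟨x, hx, c₀, j, b, hxr, hjr, hbr, mul_ne_zero (by simpa using hb) hb, h1b⟩
  obtain ⟨κ, hκ, hκs⟩ := exists_normOne hF
    (insert 1 ((normOne hF).filter fun z => 2 + (-1) * z + frob hF (-1) * frob hF z = 1))
    (lt_of_le_of_lt ((Finset.card_insert_le _ _).trans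
      (Nat.add_le_add_right (card_fibre_le hF 2 (neg_ne_zero.2 one_ne_zero) 1) 1)) (by omega))
  simp only [Finset.mem_insert, Finset.mem_filter, mem_normOne, hκ, true_and, not_or, map_neg, map_one] at hκs
  obtain ⟨g, hg, hgT⟩ := O.exists_torus hx hxr hjr hκ
  have hgr : g (e r) = frob hF κ • e r := by
    rw [hgT, hB_symm_zero hF hur, cd_frame hF O.ortho, if_pos rfl, mul_zero, zero_smul, add_zero,
      mul_one, sub_smul, one_smul, add_sub_cancel]
  refine ⟨g, hg, _, b, a, hgr, hbr, har, ?_, ?_⟩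
  all_goals
    have hua : cd hF e (g (e b)) a = (κ - 1) * frob hF (cd hF e (x (e j)) b) * cd hF e (x (e j)) a := by
      rw [hgT, cd_add, cd_add, cd_smul, cd_smul, cd_frame hF O.ortho, cd_frame hF O.ortho,
        cd_frame hF O.ortho, if_neg hab, if_neg hbr.symm, ← (hB_isSymm hF n).eq (e b) (x (e j))]
      simp [cd]
    have hN : frob hF (cd hF e (g (e b)) a) * cd hF e (g (e b)) a = 2 + (-1) * κ + -1 * frob hF κ := by
      rw [hua]
      simp only [map_mul, map_sub, map_one, frob_frob]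
      linear_combination (frob hF κ - 1) * (κ - 1) *
        (frob hF (cd hF e (x (e j)) b) * cd hF e (x (e j)) b) * h1 +
        (frob hF κ - 1) * (κ - 1) * h1b + hκ
    rw [hN]
  · intro h
    have : (κ - 1) * (κ - 1) = 0 := by linear_combination (-κ) * h - hκ
    exact hκs.1 (sub_eq_zero.1 (mul_self_eq_zero.1 this))
  · exact hκs.2

end Over

end Cfsg.Lib.Linear.UDec
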