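import Cfsg.Agent.Lib.Linear.UDec.Basic

/-!
# Monomial elements of dimension four moving a vector to a perpendicular one, odd `q`

A double transposition with phases `z`, `w` pairs a vector without zero coordinates to itself with the
value `Tr (c z) + Tr (c' w)`, and two traces over the circle fill enough of the fixed field to vanish
on two different lines for each pairing.
-/

set_option autoImplicit false

namespace Cfsg.Lib.Linear.UDec

open Module
open Cfsg.Lib.Linear Cfsg.Lib.Linear.Herm

variable {F : Type*} [Field F] [Fintype F] {q n : ℕ} {hF : Fintype.card F = q ^ 2}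
  {e : Fin n → (Fin n → F)} {L : Subgroup ((Fin n → F) ≃ₗ[F] (Fin n → F))}

section field

variable (hF)

/-- Two traces over the circle cancel in two ways that differ by more than a sign. -/
theorem exists_two_roots (h2 : (2 : F) ≠ 0) {c c' : F} (hc : c ≠ 0) (hc' : c' ≠ 0) :
    ∃ z w z' w' : F, frob hF z * z = 1 ∧ frob hF w * w = 1 ∧ frob hF z' * z' = 1 ∧
      frob hF w' * w' = 1 ∧
      c * z + frob hF c * frob hF z + (c' * w + frob hF c' * frob hF w) = 0 ∧
      c * z' + frob hF c * frob hF z' + (c' * w' + frob hF c' * frob hF w') = 0 ∧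
      ¬ (z' = z ∧ w' = w) ∧ ¬ (z' = -z ∧ w' = -w) := by
  classical
  set g : F → F → F := fun b z => 0 + b * z + frob hF b * frob hF z with hg
  set A : F → Finset F := fun b => (normOne hF).image (g b) with hA
  have hfix : ∀ b, A b ⊆ fixedSet hF := fun b y hy => by
    obtain ⟨z, -, rfl⟩ := Finset.mem_image.1 hy
    rw [mem_fixed]
    simp only [hg, map_add, map_mul, map_zero, frob_frob]
    ring
  have hzero : ∀ {z w : F}, g c z = g (-c') w →
      c * z + frob hF c * frob hF z + (c' * w + frob hF c' * frob hF w) = 0 := fun {z w} h => by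
    simp only [hg, map_neg] at h
    linear_combination h
  have hbig : ∀ b, b ≠ 0 → q + 1 ≤ 2 * (A b).card := fun b hb => card_values hF 0 hb
  have hodd : q % 2 = 1 := by
    have := FiniteField.odd_card_of_char_ne_two (F := F) (fun h => h2 (by
      haveI : CharP F 2 := h ▸ ringChar.charP F
      exact_mod_cast CharP.cast_eq_zero F 2))
    rw [hF, pow_two, Nat.mul_mod] at this
    rcases Nat.mod_two_eq_zero_or_one q with h | h
    · rw [h] at this; simp at this
    · exact h
  have hne : ∀ {z : F}, frob hF z * z = 1 → z ≠ -z := fun {z} hz h => by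
    have : z = 0 := (mul_eq_zero.1 (show (2 : F) * z = 0 by linear_combination h)).resolve_left h2
    simp [this] at hz
  obtain ⟨a, haA, haB⟩ : ∃ a, a ∈ A c ∧ a ∈ A (-c') := by
    by_contra hno
    push Not at hno
    have h1 := Finset.card_le_card (Finset.union_subset (hfix c) (hfix (-c')))
    rw [Finset.card_union_of_disjoint (Finset.disjoint_left.2 hno)] at h1
    have := card_fixed_le hF
    have := hbig c hc
    have := hbig (-c') (neg_ne_zero.2 hc')
    omega
  obtain ⟨z, hz, hza⟩ := Finset.mem_image.1 haA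
  obtain ⟨w, hw, hwa⟩ := Finset.mem_image.1 haB
  have h0 := hzero (hza.trans hwa.symm)
  by_cases hz2 : ∃ z', z' ∈ normOne hF ∧ z' ≠ z ∧ g c z' = a
  · obtain ⟨z', hz', hzz, hza'⟩ := hz2
    exact ⟨z, w, z', w, (mem_normOne hF).1 hz, (mem_normOne hF).1 hw, (mem_normOne hF).1 hz',
      (mem_normOne hF).1 hw, h0, hzero (hza'.trans hwa.symm), fun h => hzz h.1,
      fun h => hne ((mem_normOne hF).1 hw) h.2⟩
  by_cases hw2 : ∃ w', w' ∈ normOne hF ∧ w' ≠ w ∧ g (-c') w' = a
  · obtain ⟨w', hw', hww, hwa'⟩ := hw2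
    exact ⟨z, w, z, w', (mem_normOne hF).1 hz, (mem_normOne hF).1 hw, (mem_normOne hF).1 hz,
      (mem_normOne hF).1 hw', h0, hzero (hza.trans hwa'.symm), fun h => hww h.2,
      fun h => hne ((mem_normOne hF).1 hz) h.1⟩
  push Not at hz2 hw2
  -- a value taken once makes the set of values larger
  have hbigger : ∀ {b z : F}, b ≠ 0 → z ∈ normOne hF → (∀ z', z' ∈ normOne hF → z' ≠ z → g b z' ≠ g b z) →
      q + 2 ≤ 2 * (A b).card := by
    intro b z hb hz hu
    have h1 : ((normOne hF).erase z).card ≤ 2 * (((normOne hF).erase z).image (g b)).card :=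
      Finset.card_le_mul_card_image _ 2 fun y _ => le_trans (Finset.card_le_card
        (Finset.filter_subset_filter _ (Finset.erase_subset _ _))) (card_fibre_le hF 0 hb y)
    have h2 : ((normOne hF).erase z).image (g b) ⊆ (A b).erase (g b z) := by
      intro y hy
      obtain ⟨z', hz', rfl⟩ := Finset.mem_image.1 hy
      obtain ⟨h', hz'⟩ := Finset.mem_erase.1 hz'
      exact Finset.mem_erase.2 ⟨hu z' hz' h', Finset.mem_image_of_mem _ hz'⟩
    have h3 := Finset.card_le_card h2
    have h4 := Finset.card_erase_add_one hz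
    have h5 : g b z ∈ A b := Finset.mem_image_of_mem _ hz
    have h6 := Finset.card_erase_add_one h5
    have h7 := card_normOne hF
    omega
  obtain ⟨b, hb, hbs⟩ : ∃ b, b ∈ A c ∩ A (-c') ∧ b ∉ ({a, -a} : Finset F) := by
    refine Finset.exists_mem_notMem_of_card_lt_card (Finset.card_le_two.trans_lt ?_)
    have h1 := hbigger hc hz fun z' hz' h => fun e => hz2 z' hz' h (e.trans hza)
    have h2 := hbigger (neg_ne_zero.2 hc') hw fun w' hw' h => fun e => hw2 w' hw' h (e.trans hwa)
    have h3 := Finset.card_le_card (Finset.union_subset (hfix c) (hfix (-c')))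
    have h4 := Finset.card_union_add_card_inter (A c) (A (-c'))
    have h5 := card_fixed_le hF
    omega
  simp only [Finset.mem_insert, Finset.mem_singleton, not_or] at hbs
  obtain ⟨hb1, hb2⟩ := Finset.mem_inter.1 hb
  obtain ⟨z', hz', hzb⟩ := Finset.mem_image.1 hb1
  obtain ⟨w', hw', hwb⟩ := Finset.mem_image.1 hb2
  refine ⟨z, w, z', w', (mem_normOne hF).1 hz, (mem_normOne hF).1 hw, (mem_normOne hF).1 hz',
    (mem_normOne hF).1 hw', h0, hzero (hzb.trans hwb.symm), fun h => hbs.1 ?_, fun h => hbs.2 ?_⟩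
  · rw [← hzb, ← hza, h.1]
  · rw [← hzb, ← hza, h.1]
    simp only [hg, map_neg]
    ring

end field

namespace Over

variable (O : Over hF e L)
include O

/-- A double transposition with phases. -/
theorem exists_dt {i j k l : Fin n} (hij : i ≠ j) (hik : i ≠ k) (hil : i ≠ l) (hjk : j ≠ k)
    (hjl : j ≠ l) (hkl : k ≠ l) {z w : F} (hz : frob hF z * z = 1) (hw : frob hF w * w = 1) :
    ∃ g ∈ L, ∀ v, cd hF e (g v) j = z * cd hF e v i ∧ cd hF e (g v) i = frob hF z * cd hF e v j ∧
      cd hF e (g v) l = w * cd hF e v k ∧ cd hF e (g v) k = frob hF w * cd hF e v l := by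
  classical
  obtain ⟨s, hs, s1, s2, s3, s4⟩ := O.swap_mem hij hik hjk hz
  obtain ⟨t, ht, t1, t2, t3, t4⟩ := O.swap_mem hkl (Ne.symm hik) (Ne.symm hil) hw
  obtain ⟨D, hD, D1, -⟩ := O.dg_mem (Function.update (Function.update 1 j (-1)) k (-1)) (fun m => by
    rcases eq_or_ne m k with rfl | h1
    · simp
    rcases eq_or_ne m j with rfl | h2
    · simp [h1]
    · simp [h1, h2]) (by
    rw [Finset.prod_update_of_mem (Finset.mem_univ k), Finset.prod_update_of_mem (by simp [hjk])]
    simp)
  have gi : (D * (s * t)) (e i) = z • e j := by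
    rw [LinearEquiv.mul_apply, LinearEquiv.mul_apply, t3, map_neg, s1, map_neg, map_smul, D1,
      Function.update_of_ne hjk, Function.update_self]
    module
  have gj : (D * (s * t)) (e j) = frob hF z • e i := by
    rw [LinearEquiv.mul_apply, LinearEquiv.mul_apply, t4 j hjk hjl hij.symm, s2, map_smul, D1,
      Function.update_of_ne hik, Function.update_of_ne hij, Pi.one_apply, one_smul]
  have gk : (D * (s * t)) (e k) = w • e l := by
    rw [LinearEquiv.mul_apply, LinearEquiv.mul_apply, t1, map_smul, s4 l hil.symm hjl.symm hkl.symm,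
      map_smul, D1, Function.update_of_ne hkl.symm, Function.update_of_ne hjl.symm, Pi.one_apply, one_smul]
  have gl : (D * (s * t)) (e l) = frob hF w • e k := by
    rw [LinearEquiv.mul_apply, LinearEquiv.mul_apply, t2, map_smul, s3, map_smul, map_neg, D1,
      Function.update_self]
    module
  set g := D * (s * t)
  have hgm : g ∈ L := mul_mem hD (mul_mem hs ht)
  have key : ∀ {a b : Fin n} {c : F}, g (e a) = c • e b → frob hF c * c = 1 → ∀ v,
      cd hF e (g v) b = c * cd hF e v a := by
    intro a b c h hc v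
    have h1 := O.le_iso hgm (e a) v
    rw [h, LinearMap.map_smulₛₗ, LinearMap.smul_apply, smul_eq_mul] at h1
    simp only [cd]
    linear_combination c * h1 - hB hF n (e b) (g v) * hc
  have hinv : ∀ {z : F}, frob hF z * z = 1 → frob hF (frob hF z) * frob hF z = 1 := fun h => by
    rw [frob_frob]; linear_combination h
  exact ⟨g, hgm, fun v => ⟨key gi hz v, key gj (hinv hz) v, key gk hw v, key gl (hinv hw) v⟩⟩

/-- Each pairing of the coordinates gives two perpendicular lines. -/
theorem pair_lines (h4 : n = 4) (h2 : (2 : F) ≠ 0) {u : Fin n → F} (hu : ∀ m, cd hF e u m ≠ 0)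
    (huu : hB hF n u u = 1) {i j k l : Fin n} (hij : i ≠ j) (hik : i ≠ k) (hil : i ≠ l) (hjk : j ≠ k)
    (hjl : j ≠ l) (hkl : k ≠ l) :
    ∃ g ∈ L, ∃ g' ∈ L, hB hF n u (g u) = 0 ∧ hB hF n u (g' u) = 0 ∧ (∀ t : F, g' u ≠ t • g u) ∧
      ∀ h ∈ ({g, g'} : Set ((Fin n → F) ≃ₗ[F] (Fin n → F))),
        frob hF (cd hF e (h u) i) * cd hF e (h u) i = frob hF (cd hF e u j) * cd hF e u j := by
  classical
  set c := frob hF (cd hF e u j) * cd hF e u i with hc
  set c' := frob hF (cd hF e u l) * cd hF e u k with hc'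
  obtain ⟨z, w, z', w', hz, hw, hz', hw', e0, e0', hd1, hd2⟩ := exists_two_roots hF h2
    (show c ≠ 0 from mul_ne_zero (by simpa using hu j) (hu i))
    (show c' ≠ 0 from mul_ne_zero (by simpa using hu l) (hu k))
  obtain ⟨g, hg, hgv⟩ := O.exists_dt hij hik hil hjk hjl hkl hz hw
  obtain ⟨g', hg', hgv'⟩ := O.exists_dt hij hik hil hjk hjl hkl hz' hw'
  have huniv : (Finset.univ : Finset (Fin n)) = {i, j, k, l} :=
    (Finset.eq_univ_of_card _ (by simp [hij, hik, hil, hjk, hjl, hkl, h4])).symm
  have hval : ∀ {h : (Fin n → F) ≃ₗ[F] (Fin n → F)} {z w : F}, (∀ v,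
      cd hF e (h v) j = z * cd hF e v i ∧ cd hF e (h v) i = frob hF z * cd hF e v j ∧
      cd hF e (h v) l = w * cd hF e v k ∧ cd hF e (h v) k = frob hF w * cd hF e v l) →
      hB hF n u (h u) = c * z + frob hF c * frob hF z + (c' * w + frob hF c' * frob hF w) := by
    intro h z w hv
    obtain ⟨a1, a2, a3, a4⟩ := hv u
    rw [form_eq hF O.ortho, huniv, Finset.sum_insert (by simp [hij, hik, hil]),
      Finset.sum_insert (by simp [hjk, hjl]), Finset.sum_pair hkl, a1, a2, a3, a4, hc, hc']
    simp only [map_mul, frob_frob]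
    ring
  refine ⟨g, hg, g', hg', (hval hgv).trans e0, (hval hgv').trans e0', fun t ht => ?_, ?_⟩
  · obtain ⟨a1, a2, a3, -⟩ := hgv u
    obtain ⟨b1, b2, b3, -⟩ := hgv' u
    have f1 := congrArg (fun v => cd hF e v j) ht
    have f2 := congrArg (fun v => cd hF e v i) ht
    have f3 := congrArg (fun v => cd hF e v l) ht
    simp only [cd_smul, a1, a2, a3, b1, b2, b3] at f1 f2 f3
    have g1 : z' = t * z := mul_right_cancel₀ (hu i) (by linear_combination f1)
    have g2 : frob hF z' = t * frob hF z := mul_right_cancel₀ (hu j) (by linear_combination f2)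
    have g3 : w' = t * w := mul_right_cancel₀ (hu k) (by linear_combination f3)
    have hz0 : frob hF z ≠ 0 := fun h => by simp [h] at hz
    have g4 : t * t = 1 := by
      rw [g2, g1] at hz'
      linear_combination hz' - t * t * hz
    rcases mul_self_eq_one_iff.1 g4 with rfl | rfl
    · exact hd1 ⟨by rw [g1, one_mul], by rw [g3, one_mul]⟩
    · exact hd2 ⟨by rw [g1, neg_one_mul], by rw [g3, neg_one_mul]⟩
  · rintro h (rfl | rfl)
    · rw [(hgv u).2.1, map_mul, frob_frob]
      linear_combination (frob hF (cd hF e u j) * cd hF e u j) * hz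
    · rw [(hgv' u).2.1, map_mul, frob_frob]
      linear_combination (frob hF (cd hF e u j) * cd hF e u j) * hz'

/-- Four monomial images of a vector without zeros that are perpendicular to it, on different lines. -/
theorem four_perp (h4 : n = 4) (h2 : (2 : F) ≠ 0) {ν : F} (hν : frob hF ν * ν = 1) (hν2 : ν * ν ≠ 1)
    (hν4 : ν ^ 4 ≠ 1) {u : Fin n → F} (hu : ∀ m, cd hF e u m ≠ 0) (huu : hB hF n u u = 1) :
    ∃ H : Fin 4 → ((Fin n → F) ≃ₗ[F] (Fin n → F)), (∀ i, H i ∈ L) ∧
      (∀ i, hB hF n u (H i u) = 0) ∧ ∀ i j, i < j → ∀ t : F, H j u ≠ t • H i u := by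
  classical
  set N : Fin n → F := fun m => frob hF (cd hF e u m) * cd hF e u m with hN
  by_cases hflat : ∀ b c, N b = N c
  swap
  · push Not at hflat
    obtain ⟨b, c, hbc⟩ := hflat
    have hbc' : b ≠ c := fun h => hbc (h ▸ rfl)
    obtain ⟨a, ha⟩ := O.exists_other {b, c} (Finset.card_le_two.trans_lt (by norm_num))
    simp only [Finset.mem_insert, Finset.mem_singleton, not_or] at ha
    obtain ⟨d, hd⟩ := O.exists_other {a, b, c} (Finset.card_le_three.trans_lt (by norm_num))
    simp only [Finset.mem_insert, Finset.mem_singleton, not_or] at hd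
    obtain ⟨g, hg, g', hg', f1, f2, f3, f4⟩ := O.pair_lines h4 h2 hu huu ha.1 ha.2 (Ne.symm hd.1) hbc'
      (Ne.symm hd.2.1) (Ne.symm hd.2.2)
    obtain ⟨k, hk, k', hk', p1, p2, p3, p4⟩ := O.pair_lines h4 h2 hu huu ha.2 ha.1 (Ne.symm hd.1)
      (Ne.symm hbc') (Ne.symm hd.2.2) (Ne.symm hd.2.1)
    have cross : ∀ x ∈ ({g, g'} : Set ((Fin n → F) ≃ₗ[F] (Fin n → F))),
        ∀ y ∈ ({k, k'} : Set ((Fin n → F) ≃ₗ[F] (Fin n → F))), ∀ t : F, y u ≠ t • x u := by
      intro x hx y hy t ht
      have hxL : x ∈ L := by rcases hx with rfl | rfl <;> assumption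
      have hyL : y ∈ L := by rcases hy with rfl | rfl <;> assumption
      have hn := O.le_iso hyL u u
      rw [ht] at hn
      simp only [map_smul, LinearMap.map_smulₛₗ, LinearMap.smul_apply, smul_eq_mul,
        O.le_iso hxL u u, huu, mul_one] at hn
      have e1 := p4 y hy
      rw [ht, cd_smul, map_mul] at e1
      have e2 := f4 x hx
      simp only [hN] at hbc
      exact hbc (by linear_combination e1 - (frob hF t * t) * e2 -
        (frob hF (cd hF e u b) * cd hF e u b) * hn)
    refine ⟨![g, g', k, k'], fun i => ?_, fun i => ?_, fun i j hij => ?_⟩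
    · fin_cases i <;> assumption
    · fin_cases i <;> assumption
    · fin_cases i <;> fin_cases j <;> first
        | exact absurd hij (by decide)
        | exact f3
        | exact p3
        | exact cross _ (by simp) _ (by simp)
  · subst h4
    have hinv : ∀ {z : F}, frob hF z * z = 1 → frob hF (frob hF z) * frob hF z = 1 := fun h => by
      rw [frob_frob]; linear_combination h
    have hneg : ∀ {z : F}, frob hF z * z = 1 → frob hF (-z) * -z = 1 := fun h => by
      rw [map_neg, neg_mul_neg]; exact h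
    have hone : frob hF (1 : F) * 1 = 1 := by simp
    -- diagonal elements with balanced phases
    have mk : ∀ d : Fin 4 → F, (∀ m, frob hF (d m) * d m = 1) → ∏ m, d m = 1 → ∑ m, d m = 0 →
        ∃ g ∈ L, hB hF 4 u (g u) = 0 ∧ ∀ m, cd hF e (g u) m = d m * cd hF e u m := by
      intro d hd hp hs
      obtain ⟨g, hg, -, hg2⟩ := O.dg_mem d hd hp
      refine ⟨g, hg, ?_, fun m => hg2 u m⟩
      rw [form_eq hF O.ortho, Finset.sum_congr rfl fun m _ =>
        show frob hF (cd hF e u m) * cd hF e (g u) m = N 0 * d m by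
          rw [hg2, hflat 0 m]; simp only [hN]; ring, ← Finset.mul_sum, hs, mul_zero]
    have mkρ : ∀ ρ : F, frob hF ρ * ρ = 1 → ∃ g ∈ L, hB hF 4 u (g u) = 0 ∧
        cd hF e (g u) 0 = frob hF ρ * cd hF e u 0 ∧ cd hF e (g u) 1 = -frob hF ρ * cd hF e u 1 ∧
        cd hF e (g u) 2 = ρ * cd hF e u 2 := by
      intro ρ hρ
      obtain ⟨g, hg, g1, g2⟩ := mk ![frob hF ρ, -frob hF ρ, ρ, -ρ] (fun m => by
        fin_cases m
        exacts [hinv hρ, hneg (hinv hρ), hρ, hneg hρ]) (by
        simp [Fin.prod_univ_four]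
        linear_combination (frob hF ρ * ρ + 1) * hρ) (by simp [Fin.sum_univ_four])
      exact ⟨g, hg, g1, g2 0, g2 1, g2 2⟩
    obtain ⟨g₀, hg₀, a0, a1, a2⟩ := mk ![1, 1, -1, -1] (fun m => by
      fin_cases m
      exacts [hone, hone, hneg hone, hneg hone]) (by simp [Fin.prod_univ_four]) (by simp [Fin.sum_univ_four]) |>
      fun ⟨g, hg, g1, g2⟩ => (⟨g, hg, g1, g2 0, g2 1⟩ : ∃ g ∈ L, hB hF 4 u (g u) = 0 ∧
        cd hF e (g u) 0 = 1 * cd hF e u 0 ∧ cd hF e (g u) 1 = 1 * cd hF e u 1)
    obtain ⟨g₁, hg₁, b0, b1, b2, b3⟩ := mkρ 1 hone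
    obtain ⟨g₂, hg₂, c0, c1, c2, c3⟩ := mkρ ν hν
    obtain ⟨g₃, hg₃, d0, d1, d2, d3⟩ := mkρ (ν * ν) (by
      rw [map_mul]; linear_combination (frob hF ν * ν + 1) * hν)
    have vs0 : ∀ {y : (Fin 4 → F) ≃ₗ[F] (Fin 4 → F)} {ρ : F}, frob hF ρ * ρ = 1 →
        cd hF e (y u) 0 = frob hF ρ * cd hF e u 0 → cd hF e (y u) 1 = -frob hF ρ * cd hF e u 1 →
        ∀ t : F, y u ≠ t • g₀ u := by
      intro y ρ hρ e0 e1 t ht
      rw [ht, cd_smul] at e0 e1
      rw [a1] at e0
      rw [a2] at e1
      have f0 : t = frob hF ρ := mul_right_cancel₀ (hu 0) (by linear_combination e0)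
      have f1 : t = -frob hF ρ := mul_right_cancel₀ (hu 1) (by linear_combination e1)
      have : (2 : F) * frob hF ρ = 0 := by linear_combination f1 - f0
      rw [(mul_eq_zero.1 this).resolve_left h2, zero_mul] at hρ
      exact zero_ne_one hρ
    have vs : ∀ {x y : (Fin 4 → F) ≃ₗ[F] (Fin 4 → F)} {ρ ρ' : F}, frob hF ρ * ρ = 1 →
        frob hF ρ' * ρ' = 1 → ρ' * ρ' ≠ ρ * ρ →
        cd hF e (x u) 0 = frob hF ρ * cd hF e u 0 → cd hF e (x u) 2 = ρ * cd hF e u 2 →
        cd hF e (y u) 0 = frob hF ρ' * cd hF e u 0 → cd hF e (y u) 2 = ρ' * cd hF e u 2 →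
        ∀ t : F, y u ≠ t • x u := by
      intro x y ρ ρ' hρ hρ' hne x0 x2 y0 y2 t ht
      rw [ht, cd_smul, x0] at y0
      rw [ht, cd_smul, x2] at y2
      have f0 : t * frob hF ρ = frob hF ρ' := mul_right_cancel₀ (hu 0) (by linear_combination y0)
      have f2 : t * ρ = ρ' := mul_right_cancel₀ (hu 2) (by linear_combination y2)
      apply hne
      rw [← f0, ← f2] at hρ'
      have ht2 : t * t = 1 := by linear_combination hρ' - t * t * hρ
      rw [← f2]
      linear_combination (ρ * ρ) * ht2
    refine ⟨![g₀, g₁, g₂, g₃], fun i => ?_, fun i => ?_, fun i j hij => ?_⟩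
    · fin_cases i <;> assumption
    · fin_cases i <;> assumption
    · fin_cases i <;> fin_cases j <;> first
        | exact absurd hij (by decide)
        | exact vs0 hone b1 b2
        | exact vs0 hν c1 c2
        | exact vs0 (by rw [map_mul]; linear_combination (frob hF ν * ν + 1) * hν) d1 d2
        | exact vs hone hν (by rw [mul_one]; exact hν2) b1 b3 c1 c3
        | exact vs hone (by rw [map_mul]; linear_combination (frob hF ν * ν + 1) * hν)
            (fun h => hν4 (by linear_combination h)) b1 b3 d1 d3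
        | exact vs hν (by rw [map_mul]; linear_combination (frob hF ν * ν + 1) * hν)
            (fun h => hν2 (mul_left_cancel₀ (a := ν * ν)
              (fun h0 => by rcases mul_eq_zero.1 h0 with h0 | h0 <;> simp [h0] at hν)
              (by linear_combination h))) c1 c3 d1 d3

end Over

end Cfsg.Lib.Linear.UDec
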