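import Cfsg.Agent.Lib.Linear.UDec.Even

/-!
# Overgroups of the monomial group of `SU_4(2)`

The diagonal elements permute the isotropic lines without zero coordinates transitively.
-/

set_option autoImplicit false

namespace Cfsg.Lib.Linear.UDec

open Module
open Cfsg.Lib.Linear Cfsg.Lib.Linear.Herm

variable {F : Type*} [Field F] [Fintype F] {q n : ℕ} {hF : Fintype.card F = q ^ 2}
  {e : Fin n → (Fin n → F)} {L : Subgroup ((Fin n → F) ≃ₗ[F] (Fin n → F))}

theorem Over.centres_of_two_four (O : Over hF e L) (h4 : n = 4) (hq : q = 2)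
    {x : (Fin n → F) ≃ₗ[F] (Fin n → F)} (hx : x ∈ L) (hxM : ¬ Mono e x) (v : Fin n → F)
    (hv : hB hF n v v = 0) : UMax.Centre hF L v := by
  classical
  subst hq
  subst h4
  have hsq : ∀ a : F, frob hF a = a * a := fun a => by rw [frob_apply, pow_two]
  have h4 : ∀ a : F, a * a * a * a = a := fun a => by
    have := FiniteField.pow_card a
    rw [hF] at this
    linear_combination this
  have h2 : (2 : F) = 0 := by
    have := natCast_q_eq_zero' hF
    simpa using this
  have hN : ∀ {a : F}, a ≠ 0 → frob hF a * a = 1 := fun {a} ha => by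
    rw [hsq]
    refine mul_right_cancel₀ ha ?_
    rw [one_mul]
    exact h4 a
  -- transvections with parameter one are all transvections
  have tvC : ∀ {u : Fin 4 → F}, hB hF 4 u u = 0 → Tv hF L u 1 → UMax.Centre hF L u := by
    intro u hu h
    rw [centre_iff hF hu]
    intro α hα
    rcases eq_or_ne α 0 with rfl | ha
    · exact tv_zero hF u
    · rw [hsq] at hα
      have : α * (1 + α) = 0 := by linear_combination hα
      rw [eq_neg_of_add_eq_zero_right ((mul_eq_zero.1 this).resolve_left ha), neg_eq_of_two h2]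
      exact h
  haveI : CharP F 2 := CharTwo.of_one_ne_zero_of_two_eq_zero one_ne_zero h2
  have hev : ∀ {u : Fin 4 → F}, hB hF 4 u u = 0 → Even (supp hF e u).card := fun {u} hu => by
    rw [form_eq hF O.ortho, ← Finset.sum_subset (Finset.subset_univ (supp hF e u)) (fun i _ hi => by
        rw [mem_supp, not_not] at hi; rw [hi, mul_zero]),
      Finset.sum_congr rfl (fun i hi => hN (mem_supp.1 hi)), Finset.sum_const, nsmul_one] at hu
    exact even_iff_two_dvd.2 ((CharP.cast_eq_zero_iff F 2 _).1 hu)
  have hle : ∀ u : Fin 4 → F, (supp hF e u).card ≤ 4 := fun u =>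
    (Finset.card_le_univ _).trans (by rw [Fintype.card_fin])
  obtain ⟨u, hu, ht, hs⟩ := O.exists_heavy h2 hx hxM
  have hfull : ∀ {u : Fin 4 → F}, (supp hF e u).card = 4 → ∀ m, cd hF e u m ≠ 0 := fun {u} h m =>
    mem_supp.1 (by rw [Finset.eq_univ_of_card (supp hF e u) (by rw [h, Fintype.card_fin])]
                   exact Finset.mem_univ m)
  have hu0 := hfull (show (supp hF e u).card = 4 by
    obtain ⟨m, hm⟩ := hev hu; have := hle u; omega)
  have hcu := tvC hu ht
  obtain ⟨m, hm⟩ := hev hv
  have hv4 := hle v
  obtain h | h | h : (supp hF e v).card = 0 ∨ (supp hF e v).card = 2 ∨ (supp hF e v).card = 4 := by omega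
  · have : v = 0 := cd_ext hF O.ortho fun i => by
      rw [cd_zero]; by_contra hi
      exact (Finset.notMem_empty i) (Finset.card_eq_zero.1 h ▸ mem_supp.2 hi)
    subst this
    exact UMax.centre_smul hF (v := u) hu hcu 0 |> fun h => by rwa [zero_smul] at h
  · obtain ⟨i, l, hil, hi⟩ := Finset.card_eq_two.1 h
    have hi0 : cd hF e v i ≠ 0 := mem_supp.1 (by rw [hi]; simp)
    have hl0 : cd hF e v l ≠ 0 := mem_supp.1 (by rw [hi]; simp)
    have hve : v = cd hF e v i • (e i + (cd hF e v l / cd hF e v i) • e l) := by
      refine cd_ext hF O.ortho fun k => ?_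
      rw [cd_smul, cd_add, cd_smul, cd_frame hF O.ortho, cd_frame hF O.ortho]
      rcases eq_or_ne k i with rfl | hki
      · rw [if_pos rfl, if_neg hil]; ring
      rcases eq_or_ne k l with rfl | hkl
      · rw [if_pos rfl, if_neg hil.symm]; field_simp; ring
      · rw [if_neg hki, if_neg hkl]
        have : cd hF e v k = 0 := by
          by_contra h0
          have := hi ▸ mem_supp.2 h0
          simp [hki, hkl] at this
        rw [this]; ring
    have hc := hN (div_ne_zero hl0 hi0)
    have hz : hB hF 4 (e i + (cd hF e v l / cd hF e v i) • e l)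
        (e i + (cd hF e v l / cd hF e v i) • e l) = 0 := by
      rw [← one_smul F (e i), pair_iso O.ortho hil, map_one]
      linear_combination hc + h2
    rw [hve]
    exact UMax.centre_smul hF hz (tvC hz (O.tv_pair h2 hil hc)) _
  · have hv0 := hfull h
    set r : Fin 4 → F := fun i => cd hF e v i / cd hF e u i with hr
    have hr0 : ∀ i, r i ≠ 0 := fun i => div_ne_zero (hv0 i) (hu0 i)
    set P := ∏ i, r i with hP
    have hP0 : P ≠ 0 := Finset.prod_ne_zero_iff.2 fun i _ => hr0 i
    obtain ⟨g, hg, -, g2⟩ := O.dg_mem (fun i => r i / P) (fun i => hN (div_ne_zero (hr0 i) hP0)) (by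
      rw [Finset.prod_div_distrib, Finset.prod_const, Finset.card_univ, Fintype.card_fin,
        show P ^ 4 = P by linear_combination h4 P, div_self hP0])
    have hve : v = P • g u := cd_ext hF O.ortho fun i => by
      rw [cd_smul, g2, hr]
      field_simp [hu0 i]
    rw [hve]
    exact UMax.centre_smul hF (by rw [O.le_iso hg]; exact hu) (UMax.centre_map hF O.le_iso hg hcu) _

end Cfsg.Lib.Linear.UDec
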