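import Cfsg.Agent.Lib.Linear.UDec.Plane

/-!
# From one centre to all centres, `q ≥ 3`
-/

set_option autoImplicit false

namespace Cfsg.Lib.Linear.UDec

open Module
open Cfsg.Lib.Linear Cfsg.Lib.Linear.Herm

variable {F : Type*} [Field F] [Fintype F] {q n : ℕ} {hF : Fintype.card F = q ^ 2}
  {e : Fin n → (Fin n → F)} {L : Subgroup ((Fin n → F) ≃ₗ[F] (Fin n → F))}

open scoped Classical in
/-- The coordinates where a vector is non-zero. -/
noncomputable def supp (hF : Fintype.card F = q ^ 2) (e : Fin n → (Fin n → F)) (v : Fin n → F) :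
    Finset (Fin n) := {i | cd hF e v i ≠ 0}

theorem mem_supp {v : Fin n → F} {i : Fin n} : i ∈ supp hF e v ↔ cd hF e v i ≠ 0 := by simp [supp]

/-- A centre supported on `i`, `l`. -/
def PairC (hF : Fintype.card F = q ^ 2) (e : Fin n → (Fin n → F))
    (L : Subgroup ((Fin n → F) ≃ₗ[F] (Fin n → F))) (i l : Fin n) : Prop :=
  ∃ x y : F, x ≠ 0 ∧ y ≠ 0 ∧ frob hF x * x + frob hF y * y = 0 ∧
    UMax.Centre hF L (x • e i + y • e l)

theorem pairC_symm {i l : Fin n} (h : PairC hF e L i l) : PairC hF e L l i := by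
  obtain ⟨x, y, hx, hy, he, hc⟩ := h
  exact ⟨y, x, hy, hx, by linear_combination he, by rwa [add_comm]⟩

theorem pair_iso (he : Ortho hF e) {i l : Fin n} (hil : i ≠ l) (x y : F) :
    hB hF n (x • e i + y • e l) (x • e i + y • e l) = frob hF x * x + frob hF y * y := by
  simp only [map_add, LinearMap.add_apply, LinearMap.map_smulₛₗ, LinearMap.smul_apply, map_smul,
    he _ _, if_pos, if_neg hil, if_neg hil.symm, smul_eq_mul, mul_zero, add_zero, zero_add, mul_one,
    RingHom.id_apply]
  ring

namespace Over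

variable (O : Over hF e L)
include O

theorem pairC_move {i l c : Fin n} (hil : i ≠ l) (hcl : c ≠ l) (h : PairC hF e L i l) :
    PairC hF e L c l := by
  rcases eq_or_ne c i with rfl | hci
  · exact h
  obtain ⟨x, y, hx, hy, he, hc⟩ := h
  obtain ⟨r, hr⟩ := O.exists_other {i, l, c} (Finset.card_le_three.trans_lt (by norm_num))
  simp only [Finset.mem_insert, Finset.mem_singleton, not_or] at hr
  obtain ⟨g, hg, h1, -, -, h4⟩ := O.swap_mem hci.symm (Ne.symm hr.1) (Ne.symm hr.2.2) (c := 1) (by simp)
  refine ⟨x, y, hx, hy, he, ?_⟩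
  have := UMax.centre_map hF O.le_iso hg hc
  rwa [map_add, map_smul, map_smul, h1, one_smul, h4 l hil.symm hcl.symm (Ne.symm hr.2.1)] at this

theorem pairC_all {a b : Fin n} (hab : a ≠ b) (h : PairC hF e L a b) {i l : Fin n} (hil : i ≠ l) :
    PairC hF e L i l := by
  rcases eq_or_ne i b with rfl | hib
  · exact pairC_symm (O.pairC_move hab hil.symm h)
  · exact pairC_symm (O.pairC_move hib.symm hil.symm (pairC_symm (O.pairC_move hab hib h)))

theorem pair_centre {a b : Fin n} (hab : a ≠ b) (h : PairC hF e L a b) {i l : Fin n} (hil : i ≠ l)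
    {x y : F} (hxy : frob hF x * x + frob hF y * y = 0) (hx : x ≠ 0) :
    UMax.Centre hF L (x • e i + y • e l) := by
  classical
  obtain ⟨u, w, hu, hw, huw, hc⟩ := O.pairC_all hab h hil
  have hc' : UMax.Centre hF L ((x / u) • (u • e i + w • e l)) :=
    UMax.centre_smul hF (by rw [pair_iso O.ortho hil]; exact huw) hc _
  rw [smul_add, smul_smul, smul_smul, div_mul_cancel₀ _ hu] at hc'
  set y₀ := x / u * w with hy₀
  have hy₀0 : y₀ ≠ 0 := mul_ne_zero (div_ne_zero hx hu) hw
  have hk : frob hF (y / y₀) * (y / y₀) = 1 := by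
    have h0 : frob hF y₀ ≠ 0 := by simpa using hy₀0
    rw [map_div₀, div_mul_div_comm, div_eq_one_iff_eq (mul_ne_zero h0 hy₀0)]
    have hu' : frob hF u ≠ 0 := by simpa using hu
    rw [hy₀, map_mul, map_div₀]
    field_simp
    linear_combination frob hF u * u * hxy - frob hF x * x * huw
  obtain ⟨r, hr⟩ := O.exists_other {i, l} (Finset.card_le_two.trans_lt (by norm_num))
  simp only [Finset.mem_insert, Finset.mem_singleton, not_or] at hr
  obtain ⟨g, hg, h1, -, -, -⟩ := O.dg_comp (Function.update 1 l (y / y₀)) r (fun k => by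
    rcases eq_or_ne k l with rfl | hk'
    · rw [Function.update_self]; exact hk
    · simp [hk']) (by simp [hr.2])
  have := UMax.centre_map hF O.le_iso hg hc'
  rwa [map_add, map_smul, map_smul, h1 i (Ne.symm hr.1), h1 l (Ne.symm hr.2),
    Function.update_of_ne hil, Function.update_self, Pi.one_apply, one_smul, smul_smul,
    mul_div_cancel₀ _ hy₀0] at this

/-- A centre missing a coordinate gives a centre supported on two coordinates. -/
theorem pairC_of_centre {v : Fin n → F} (hv : hB hF n v v = 0) (hc : UMax.Centre hF L v)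
    {j l r : Fin n} (hjl : j ≠ l) (hj : cd hF e v j ≠ 0) (hl : cd hF e v l ≠ 0)
    (hr : cd hF e v r = 0) : PairC hF e L j l := by
  classical
  have hjr : j ≠ r := fun h => hj (h ▸ hr)
  have hlr : l ≠ r := fun h => hl (h ▸ hr)
  set Nj := frob hF (cd hF e v j) * cd hF e v j with hNj
  set Nl := frob hF (cd hF e v l) * cd hF e v l with hNl
  have hNj0 : Nj ≠ 0 := mul_ne_zero (by simpa using hj) hj
  have hNl0 : Nl ≠ 0 := mul_ne_zero (by simpa using hl) hl
  set W := (normOne hF).image fun z : F => 2 + (-1) * z + frob hF (-1) * frob hF z with hW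
  have hWf : ∀ w ∈ W, frob hF w = w := by
    intro w hw
    obtain ⟨z, -, rfl⟩ := Finset.mem_image.1 hw
    simp only [map_add, map_mul, map_neg, map_one, frob_frob, map_ofNat]
    ring
  have hcard : q + 2 ≤ 2 * W.card := by
    have h1 : (1 : F) ∈ normOne hF := by simp [mem_normOne]
    have h0 : (0 : F) ∈ W := Finset.mem_image.2 ⟨1, h1, by rw [map_neg, map_one]; ring⟩
    have hsub : ((normOne hF).erase 1).image (fun z : F => 2 + (-1) * z + frob hF (-1) * frob hF z) ⊆
        W.erase 0 := by
      intro y hy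
      obtain ⟨z, hz, rfl⟩ := Finset.mem_image.1 hy
      refine Finset.mem_erase.2 ⟨fun h => ?_, Finset.mem_image.2 ⟨z, Finset.mem_of_mem_erase hz, rfl⟩⟩
      have hz1 := (mem_normOne hF).1 (Finset.mem_of_mem_erase hz)
      rw [map_neg, map_one] at h
      have : (z - 1) * (z - 1) = 0 := by linear_combination (-z) * h - hz1
      exact Finset.ne_of_mem_erase hz (sub_eq_zero.1 (mul_self_eq_zero.1 this))
    have h2 : ((normOne hF).erase 1).card ≤ 2 * (((normOne hF).erase 1).image
        fun z : F => 2 + (-1) * z + frob hF (-1) * frob hF z).card :=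
      Finset.card_le_mul_card_image _ 2 fun y _ => le_trans (Finset.card_le_card
        (Finset.filter_subset_filter _ (Finset.erase_subset _ _)))
        (card_fibre_le hF 2 (neg_ne_zero.2 one_ne_zero) y)
    have h3 := Finset.card_le_card hsub
    have h4 := Finset.card_erase_add_one h0
    have h5 := Finset.card_erase_add_one h1
    have h6 := card_normOne hF
    omega
  obtain ⟨p, hp, hp'⟩ : ∃ p, p ∈ (W.image (Nj * ·)).erase 0 ∧ p ∈ (W.image (-Nl * ·)).erase 0 := by
    by_contra hne
    push Not at hne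
    have h0 : (0 : F) ∈ W := Finset.mem_image.2 ⟨1, by simp [mem_normOne], by rw [map_neg, map_one]; ring⟩
    have hd : Disjoint ((W.image (Nj * ·)).erase 0) ((W.image (-Nl * ·)).erase 0) :=
      Finset.disjoint_left.2 hne
    have hs : (W.image (Nj * ·)).erase 0 ∪ (W.image (-Nl * ·)).erase 0 ⊆ (fixedSet hF).erase 0 := by
      intro x hx
      rcases Finset.mem_union.1 hx with h | h <;> obtain ⟨hx0, hx⟩ := Finset.mem_erase.1 h <;>
        obtain ⟨w, hw, rfl⟩ := Finset.mem_image.1 hx <;>
        refine Finset.mem_erase.2 ⟨hx0, (mem_fixed hF).2 ?_⟩ <;>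
        simp only [hNj, hNl, map_mul, map_neg, frob_frob, hWf w hw] <;> ring
    have h1 := Finset.card_le_card hs
    have hi1 : (W.image (Nj * ·)).card = W.card :=
      Finset.card_image_of_injective _ (mul_right_injective₀ hNj0)
    have hi2 : (W.image (-Nl * ·)).card = W.card :=
      Finset.card_image_of_injective _ (mul_right_injective₀ (neg_ne_zero.2 hNl0))
    have e1 := Finset.card_erase_add_one (Finset.mem_image.2 ⟨0, h0, mul_zero Nj⟩ :
      (0 : F) ∈ W.image (Nj * ·))
    have e2 := Finset.card_erase_add_one (Finset.mem_image.2 ⟨0, h0, mul_zero (-Nl)⟩ :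
      (0 : F) ∈ W.image (-Nl * ·))
    have e3 := Finset.card_erase_add_one (show (0 : F) ∈ fixedSet hF by simp [mem_fixed])
    have e4 := card_fixed_le hF
    rw [Finset.card_union_of_disjoint hd] at h1
    omega
  obtain ⟨hp0, hp⟩ := Finset.mem_erase.1 hp
  obtain ⟨-, hp'⟩ := Finset.mem_erase.1 hp'
  simp only [hW, Finset.mem_image, mem_normOne] at hp hp'
  obtain ⟨_, ⟨κ₀, hκ₀, rfl⟩, e1⟩ := hp
  obtain ⟨_, ⟨η₀, hη₀, rfl⟩, e2⟩ := hp'
  -- phases with non-vanishing pairing
  obtain ⟨κ, η, hκ, hη, hκ1, hη1, htr, hS⟩ : ∃ κ η : F, frob hF κ * κ = 1 ∧ frob hF η * η = 1 ∧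
      κ ≠ 1 ∧ η ≠ 1 ∧ Nj * (2 - κ - frob hF κ) + Nl * (2 - η - frob hF η) = 0 ∧
      (κ - 1) * Nj + (η - 1) * Nl ≠ 0 := by
    have htr : Nj * (2 - κ₀ - frob hF κ₀) + Nl * (2 - η₀ - frob hF η₀) = 0 := by
      rw [map_neg, map_one] at e1 e2
      linear_combination e1 - e2
    have hκ1 : κ₀ ≠ 1 := fun h => hp0 (by rw [← e1, h, map_neg, map_one]; ring)
    have hη1 : η₀ ≠ 1 := fun h => hp0 (by rw [← e2, h, map_neg, map_one]; ring)
    have hinv : ∀ {z : F}, frob hF z * z = 1 → frob hF (frob hF z) * frob hF z = 1 := fun h => by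
      rw [frob_frob]; linear_combination h
    have hone : ∀ {z : F}, z ≠ 1 → frob hF z ≠ 1 := fun {z} h h' => h (by
      rw [← frob_frob hF z, h', map_one])
    by_cases h1 : (κ₀ - 1) * Nj + (η₀ - 1) * Nl = 0
    · by_cases h2 : (κ₀ - 1) * Nj + (frob hF η₀ - 1) * Nl = 0
      · by_cases h3 : (frob hF κ₀ - 1) * Nj + (η₀ - 1) * Nl = 0
        · have hηr : frob hF η₀ = η₀ := mul_right_cancel₀ hNl0 (by linear_combination h2 - h1)
          have hκr : frob hF κ₀ = κ₀ := mul_right_cancel₀ hNj0 (by linear_combination h3 - h1)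
          have hm : ∀ {z : F}, frob hF z * z = 1 → frob hF z = z → z ≠ 1 → z = -1 := fun h h' hne => by
            rw [h'] at h
            exact (mul_self_eq_one_iff.1 h).resolve_left hne
          rw [hm hκ₀ hκr hκ1, hm hη₀ hηr hη1] at h1
          have h2' : (2 : F) ≠ 0 := fun h => hκ1 (by
            rw [hm hκ₀ hκr hκ1]; linear_combination (-1 : F) * h)
          have hs : Nj + Nl = 0 := mul_left_cancel₀ h2' (by linear_combination -h1)
          obtain ⟨z, hz, hzs⟩ := exists_normOne hF {1, -1}
            (Finset.card_le_two.trans_lt (by have := two_le_q hF; omega))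
          simp only [Finset.mem_insert, Finset.mem_singleton, not_or] at hzs
          refine ⟨z, frob hF z, hz, hinv hz, hzs.1, hone hzs.1, ?_, fun h => ?_⟩
          · rw [frob_frob]; linear_combination (2 - z - frob hF z) * hs
          · have hzr : frob hF z = z := mul_left_cancel₀ hNj0
              (by linear_combination -h + (frob hF z - 1) * hs)
            exact hzs.2 (hm hz hzr hzs.1)
        · exact ⟨_, η₀, hinv hκ₀, hη₀, hone hκ1, hη1, by rw [frob_frob]; linear_combination htr, h3⟩
      · exact ⟨κ₀, _, hκ₀, hinv hη₀, hκ1, hone hη1, by rw [frob_frob]; linear_combination htr, h2⟩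
    · exact ⟨κ₀, η₀, hκ₀, hη₀, hκ1, hη1, htr, h1⟩
  obtain ⟨g, hg, -, hg2, hg3, -⟩ := O.dg_comp (Function.update (Function.update 1 j κ) l η) r (fun i => by
    rcases eq_or_ne i l with rfl | hi
    · rw [Function.update_self]; exact hη
    rcases eq_or_ne i j with rfl | hi'
    · rw [Function.update_of_ne hi, Function.update_self]; exact hκ
    · simp [hi, hi']) (by simp [hjr.symm, hlr.symm])
  have hgv : g v = v + (((κ - 1) * cd hF e v j) • e j + ((η - 1) * cd hF e v l) • e l) := by
    refine cd_ext hF O.ortho fun i => ?_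
    rw [cd_add, cd_add, cd_smul, cd_smul, cd_frame hF O.ortho, cd_frame hF O.ortho]
    rcases eq_or_ne i r with rfl | hir
    · rw [hg3 v hr, hr, if_neg hjr.symm, if_neg hlr.symm]; ring
    rw [hg2 v i hir]
    rcases eq_or_ne i l with rfl | hil
    · rw [Function.update_self, if_neg hjl.symm, if_pos rfl]; ring
    rcases eq_or_ne i j with rfl | hij
    · rw [Function.update_of_ne hil, Function.update_self, if_pos rfl, if_neg hil]; ring
    · rw [Function.update_of_ne hil, Function.update_of_ne hij, if_neg hij, if_neg hil, Pi.one_apply]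
      ring
  have hcvj : hB hF n v (e j) = frob hF (cd hF e v j) := ((hB_isSymm hF n).eq (e j) v).symm
  have hcvl : hB hF n v (e l) = frob hF (cd hF e v l) := ((hB_isSymm hF n).eq (e l) v).symm
  set S : F := (κ - 1) * Nj + (η - 1) * Nl with hSdef
  have hSv : hB hF n v (g v) = S := by
    rw [hgv, map_add, map_add, map_smul, map_smul, hv, hcvj, hcvl, smul_eq_mul, smul_eq_mul, hSdef,
      hNj, hNl]
    ring
  have hSt : S + frob hF S = 0 := by
    rw [hNj, hNl] at htr
    simp only [hSdef, hNj, hNl, map_add, map_mul, map_sub, map_one, frob_frob]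
    linear_combination -htr
  have hβ : (-S⁻¹) + frob hF (-S⁻¹) = 0 := by
    rw [map_neg, map_inv₀, eq_neg_of_add_eq_zero_right hSt, inv_neg]; ring
  obtain ⟨ht, htm⟩ := (centre_iff hF hv).1 hc _ hβ
  have hcz := UMax.centre_map hF O.le_iso htm (UMax.centre_map hF O.le_iso hg hc)
  rw [qrefl_apply, hSv, neg_mul, inv_mul_cancel₀ hS, neg_one_smul, ← sub_eq_add_neg, hgv,
    add_sub_cancel_left] at hcz
  refine ⟨_, _, mul_ne_zero (sub_ne_zero.2 hκ1) hj, mul_ne_zero (sub_ne_zero.2 hη1) hl, ?_, hcz⟩
  simp only [map_mul, map_sub, map_one]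
  linear_combination htr + Nj * hκ + Nl * hη

/-- All centres. -/
theorem centres_of_pairC (hq : 3 ≤ q) {a b : Fin n} (hab : a ≠ b) (h : PairC hF e L a b)
    (v : Fin n → F) (hv : hB hF n v v = 0) : UMax.Centre hF L v := by
  classical
  have hpair := fun {i l : Fin n} (hil : i ≠ l) {x y : F}
    (hxy : frob hF x * x + frob hF y * y = 0) (hx : x ≠ 0) => O.pair_centre hab h hil hxy hx
  induction hs : (supp hF e v).card using Nat.strong_induction_on generalizing v with
  | h s ih =>
  have ih' : ∀ w, hB hF n w w = 0 → (supp hF e w).card < s → UMax.Centre hF L w :=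
    fun w hw hlt => ih _ hlt w hw rfl
  rcases Nat.lt_or_ge s 3 with hs3 | hs3
  · interval_cases s
    · have : v = 0 := cd_ext hF O.ortho fun i => by
        rw [cd_zero]; by_contra hi
        have := Finset.card_eq_zero.1 hs
        exact (Finset.notMem_empty i) (this ▸ mem_supp.2 hi)
      subst this
      intro l hl
      convert one_mem L
      refine LinearEquiv.ext fun x => ?_
      rw [qrefl_apply]
      simp
    · obtain ⟨i, hi⟩ := Finset.card_eq_one.1 hs
      have hi0 : cd hF e v i ≠ 0 := mem_supp.1 (hi ▸ Finset.mem_singleton_self i)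
      rw [form_eq hF O.ortho, Finset.sum_eq_single i (fun k _ hk => by
        have : cd hF e v k = 0 := by
          by_contra h0; exact hk (Finset.mem_singleton.1 (hi ▸ mem_supp.2 h0))
        rw [this, mul_zero]) (fun h => absurd (Finset.mem_univ i) h)] at hv
      exact absurd hv (mul_ne_zero (by simpa using hi0) hi0)
    · obtain ⟨i, l, hil, hi⟩ := Finset.card_eq_two.1 hs
      have hve : v = cd hF e v i • e i + cd hF e v l • e l := by
        refine cd_ext hF O.ortho fun k => ?_
        rw [cd_add, cd_smul, cd_smul, cd_frame hF O.ortho, cd_frame hF O.ortho]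
        rcases eq_or_ne k i with rfl | hki
        · rw [if_pos rfl, if_neg hil]; ring
        rcases eq_or_ne k l with rfl | hkl
        · rw [if_pos rfl, if_neg hil.symm]; ring
        · rw [if_neg hki, if_neg hkl]
          have : cd hF e v k = 0 := by
            by_contra h0
            have := hi ▸ mem_supp.2 h0
            simp [hki, hkl] at this
          rw [this]; ring
      rw [hve, pair_iso O.ortho hil] at hv
      rw [hve]
      exact hpair hil hv (mem_supp.1 (by rw [hi]; simp))
  -- a pair transvection image of a vector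
  obtain ⟨β, hβm, hβ⟩ : ∃ β ∈ traceZero hF, β ∉ ({0, -1} : Finset F) :=
    Finset.exists_mem_notMem_of_card_lt_card
      (Finset.card_le_two.trans_lt (lt_of_lt_of_le (by omega) (le_card_traceZero hF)))
  rw [mem_traceZero] at hβm
  simp only [Finset.mem_insert, Finset.mem_singleton, not_or] at hβ
  obtain ⟨ζ₀, hζ₀⟩ := exists_norm_fixed (frob_ne_id hF) (frob_frob hF) (a := (-1 : F))
    (neg_ne_zero.2 one_ne_zero) (by rw [map_neg, map_one])
  have act : ∀ (γ ζ : F), γ + frob hF γ = 0 → frob hF ζ * ζ = -1 → ∀ {i l : Fin n}, i ≠ l →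
      ∃ g ∈ L, ∀ x : Fin n → F,
        cd hF e (g x) i = cd hF e x i + γ * (cd hF e x i + frob hF ζ * cd hF e x l) ∧
        frob hF (cd hF e (g x) i) * cd hF e (g x) i + frob hF (cd hF e (g x) l) * cd hF e (g x) l =
          frob hF (cd hF e x i) * cd hF e x i + frob hF (cd hF e x l) * cd hF e x l ∧
        ∀ k, k ≠ i → k ≠ l → cd hF e (g x) k = cd hF e x k := by
    intro γ ζ hγ hζ i l hil
    have hz : hB hF n ((1 : F) • e i + ζ • e l) ((1 : F) • e i + ζ • e l) = 0 := by
      rw [pair_iso O.ortho hil, hζ, map_one]; ring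
    obtain ⟨h', hm⟩ := (centre_iff hF hz).1 (hpair hil (by rw [hζ, map_one]; ring) one_ne_zero) γ hγ
    refine ⟨_, hm, fun x => ?_⟩
    have hzx : hB hF n ((1 : F) • e i + ζ • e l) x = cd hF e x i + frob hF ζ * cd hF e x l := by
      simp [cd]
    refine ⟨?_, ?_, fun k hki hkl => ?_⟩
    · rw [tv_apply_iso, hzx, cd_add, cd_smul, cd_smul, cd_frame hF O.ortho, cd_frame hF O.ortho,
        if_pos rfl, if_neg hil]
      ring
    · rw [tv_apply_iso, tv_apply_iso, hzx, cd_add, cd_add, cd_smul, cd_smul, cd_smul, cd_smul,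
        cd_frame hF O.ortho, cd_frame hF O.ortho, cd_frame hF O.ortho, cd_frame hF O.ortho,
        if_pos rfl, if_pos rfl, if_neg hil, if_neg hil.symm]
      simp only [one_mul, mul_zero, add_zero, zero_add, map_add, map_mul, map_one, frob_frob, mul_one]
      linear_combination
        (frob hF γ * γ * (frob hF (cd hF e x i) + ζ * frob hF (cd hF e x l)) *
          (cd hF e x i + frob hF ζ * cd hF e x l)) * hζ +
        ((frob hF (cd hF e x i) + ζ * frob hF (cd hF e x l)) *
          (cd hF e x i + frob hF ζ * cd hF e x l)) * hγ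
    · rw [tv_apply_iso, cd_add, cd_smul, cd_smul, cd_frame hF O.ortho, cd_frame hF O.ortho,
        if_neg hki, if_neg hkl]
      ring
  have values : ∀ (x : Fin n → F) {i l : Fin n}, i ≠ l → cd hF e x i ≠ 0 → cd hF e x l ≠ 0 →
      ∃ V : Finset F, q + 1 ≤ 2 * V.card ∧ ∀ p ∈ V, ∃ g ∈ L,
        frob hF (cd hF e (g x) i) * cd hF e (g x) i = p ∧
        frob hF (cd hF e (g x) i) * cd hF e (g x) i + frob hF (cd hF e (g x) l) * cd hF e (g x) l =
          frob hF (cd hF e x i) * cd hF e x i + frob hF (cd hF e x l) * cd hF e x l ∧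
        ∀ k, k ≠ i → k ≠ l → cd hF e (g x) k = cd hF e x k := by
    intro x i l hil hi hl
    set A : F := (1 + β) * cd hF e x i with hA
    set C : F := β * frob hF ζ₀ * cd hF e x l with hC
    have hb : frob hF C * A ≠ 0 := by
      have h1 : (1 + β) ≠ 0 := fun h => hβ.2 (eq_neg_of_add_eq_zero_right h)
      have h2 : ζ₀ ≠ 0 := fun h => by simp [h] at hζ₀
      simpa [hA, hC] using ⟨⟨⟨hβ.1, h2⟩, hl⟩, h1, hi⟩
    refine ⟨(normOne hF).image fun z => (frob hF A * A + frob hF C * C) + (frob hF C * A) * z +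
      frob hF (frob hF C * A) * frob hF z, card_values hF _ hb, fun p hp => ?_⟩
    obtain ⟨z, hz, rfl⟩ := Finset.mem_image.1 hp
    rw [mem_normOne] at hz
    obtain ⟨g, hg, hgx⟩ := act β (ζ₀ * z) hβm (by rw [map_mul]; linear_combination (frob hF ζ₀ * ζ₀) * hz + hζ₀) hil
    obtain ⟨h1, h2, h3⟩ := hgx x
    refine ⟨g, hg, ?_, h2, h3⟩
    rw [h1, hA, hC]
    simp only [map_add, map_mul, map_one, frob_frob]
    linear_combination (β * frob hF ζ₀ * cd hF e x l * (frob hF β * ζ₀ * frob hF (cd hF e x l))) * hz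
  have hNv : ∀ i, frob hF (frob hF (cd hF e v i) * cd hF e v i) =
      frob hF (cd hF e v i) * cd hF e v i := fun i => by rw [map_mul, frob_frob]; ring
  -- the main step
  have step : ∀ (w : Fin n → F), hB hF n w w = 0 → (supp hF e w).card ≤ s → ∀ {j l m : Fin n},
      j ≠ l → j ≠ m → l ≠ m → cd hF e w j ≠ 0 → cd hF e w l ≠ 0 →
      frob hF (cd hF e w j) * cd hF e w j + frob hF (cd hF e w l) * cd hF e w l ≠ 0 →
      UMax.Centre hF L w := by
    intro w hw hws j l m hjl hjm hlm hwj hwl hS
    set S := frob hF (cd hF e w j) * cd hF e w j + frob hF (cd hF e w l) * cd hF e w l with hSdef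
    have hSf : frob hF S = S := by rw [hSdef]; simp only [map_add, map_mul, frob_frob]; ring
    obtain ⟨y, hy⟩ := exists_norm_fixed (frob_ne_id hF) (frob_frob hF) hS hSf
    obtain ⟨V, hVc, hV⟩ := values w hjl hwj hwl
    set T := ((traceZero hF).image fun x => x * x).image (S * ·) with hT
    have hTc : q + 1 ≤ 2 * T.card := by
      rw [hT, Finset.card_image_of_injective _ (mul_right_injective₀ hS)]
      exact card_squares hF
    obtain ⟨p, hpV, hpT⟩ : ∃ p, p ∈ V ∧ p ∈ T := by
      by_contra hne
      push Not at hne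
      have hsub : V ∪ T ⊆ fixedSet hF := by
        intro x hx
        rw [mem_fixed]
        rcases Finset.mem_union.1 hx with hx | hx
        · obtain ⟨g, -, h1, -⟩ := hV x hx
          rw [← h1, map_mul, frob_frob]; ring
        · simp only [hT, Finset.mem_image, mem_traceZero] at hx
          obtain ⟨_, ⟨t, ht, rfl⟩, rfl⟩ := hx
          rw [map_mul, map_mul, hSf, eq_neg_of_add_eq_zero_right ht]; ring
      have h1 := Finset.card_le_card hsub
      rw [Finset.card_union_of_disjoint (Finset.disjoint_left.2 hne)] at h1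
      have := card_fixed_le hF
      omega
    simp only [hT, Finset.mem_image, mem_traceZero] at hpT
    obtain ⟨_, ⟨t, ht, rfl⟩, hpT⟩ := hpT
    obtain ⟨g1, hg1, h11, h12, h13⟩ := hV p hpV
    obtain ⟨g2, hg2, hg2x⟩ := act t ζ₀ ht hζ₀ hjl
    -- the phases
    set a1 := cd hF e (g1 w) j
    set b1 := cd hF e (g1 w) l
    set a2 : F := t * (frob hF ζ₀ * y) with ha2
    have hb2 : ∀ u : Fin n → F, cd hF e u j = 0 → cd hF e u l = y →
        cd hF e (g2 u) j = a2 ∧ frob hF (cd hF e (g2 u) l) * cd hF e (g2 u) l = S - p := by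
      intro u hu0 hu1
      obtain ⟨e1, e2, -⟩ := hg2x u
      have h1 : cd hF e (g2 u) j = a2 := by rw [e1, hu0, hu1, ha2]; ring
      refine ⟨h1, ?_⟩
      rw [h1, hu0, hu1] at e2
      rw [ha2] at e2
      simp only [map_mul, map_zero, frob_frob] at e2
      linear_combination e2 + hy - hpT - (frob hF t * t * (frob hF y * y)) * hζ₀ +
        (frob hF y * y * t) * ht - t * t * hy
    have phase : ∀ x x' : F, frob hF x * x = frob hF x' * x' →
        ∃ k : F, frob hF k * k = 1 ∧ k * x' = x := by
      intro x x' hxx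
      by_cases hx' : x' = 0
      · refine ⟨1, by simp, ?_⟩
        rw [hx', mul_zero] at hxx
        rw [hx', mul_zero]
        rcases mul_eq_zero.1 hxx with h0 | h0
        · exact ((map_eq_zero _).1 h0).symm
        · exact h0.symm
      · refine ⟨x / x', ?_, div_mul_cancel₀ _ hx'⟩
        rw [map_div₀, div_mul_div_comm, div_eq_one_iff_eq (mul_ne_zero (by simpa using hx') hx'), hxx]
    obtain ⟨κ, hκ, hκe⟩ := phase a1 a2 (by
      rw [h11, ha2]
      simp only [map_mul, frob_frob]
      linear_combination (-1 : F) * hpT - (frob hF t * t * (frob hF y * y)) * hζ₀ +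
        (frob hF y * y * t) * ht - t * t * hy)
    set u₁ : Fin n → F := ∑ k, (if k = j then 0 else if k = l then y else cd hF e w k) • e k
    have hu₁ : ∀ k, cd hF e u₁ k = if k = j then 0 else if k = l then y else cd hF e w k :=
      cd_sum hF O.ortho _
    obtain ⟨-, hl2⟩ := hb2 u₁ (by rw [hu₁, if_pos rfl]) (by rw [hu₁, if_neg hjl.symm, if_pos rfl])
    obtain ⟨η, hη, hηe⟩ := phase b1 (cd hF e (g2 u₁) l) (by
      rw [hl2]; linear_combination h12 - h11)
    have hκ0 : κ ≠ 0 := fun h => by simp [h] at hκ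
    have hη0 : η ≠ 0 := fun h => by simp [h] at hη
    set δ : F := (κ * η)⁻¹ with hδ
    have hδ1 : frob hF δ * δ = 1 := by
      rw [hδ, map_inv₀, ← mul_inv, map_mul, mul_mul_mul_comm, hκ, hη, one_mul, inv_one]
    set u : Fin n → F :=
      ∑ k, (if k = j then 0 else if k = l then y else if k = m then cd hF e w k * (κ * η) else
        cd hF e w k) • e k
    have hu : ∀ k, cd hF e u k = if k = j then 0 else if k = l then y else
        if k = m then cd hF e w k * (κ * η) else cd hF e w k := cd_sum hF O.ortho _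
    have hu2 : cd hF e (g2 u) l = cd hF e (g2 u₁) l := by
      have hlu : cd hF e u l = cd hF e u₁ l := by rw [hu, hu₁, if_neg hjl.symm, if_pos rfl, if_neg hjl.symm, if_pos rfl]
      have hju : cd hF e u j = cd hF e u₁ j := by rw [hu, hu₁, if_pos rfl, if_pos rfl]
      have key : ∀ x : Fin n → F, cd hF e x j = 0 → cd hF e x l = y →
          cd hF e (g2 (x - u₁)) l = 0 := by
        intro x hxj hxl
        obtain ⟨e1, e2, -⟩ := hg2x (x - u₁)
        have hj0 : cd hF e (x - u₁) j = 0 := by rw [cd_sub, hxj, hu₁, if_pos rfl, sub_zero]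
        have hl0 : cd hF e (x - u₁) l = 0 := by
          rw [cd_sub, hxl, hu₁, if_neg hjl.symm, if_pos rfl, sub_self]
        rw [hj0, hl0] at e1 e2
        rw [e1] at e2
        simp only [mul_zero, add_zero, map_zero, zero_add] at e2
        rcases mul_eq_zero.1 e2 with h0 | h0
        · exact (map_eq_zero _).1 h0
        · exact h0
      have := key u (by rw [hju, hu₁, if_pos rfl]) (by rw [hlu, hu₁, if_neg hjl.symm, if_pos rfl])
      rwa [map_sub, cd_sub, sub_eq_zero] at this
    obtain ⟨huj, -⟩ := hb2 u (by rw [hu, if_pos rfl]) (by rw [hu, if_neg hjl.symm, if_pos rfl])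
    obtain ⟨d, hd, -, hd2⟩ := O.dg_mem
      (Function.update (Function.update (Function.update 1 j κ) l η) m δ) (fun k => by
        rcases eq_or_ne k m with rfl | h1
        · rw [Function.update_self]; exact hδ1
        rcases eq_or_ne k l with rfl | h2
        · rw [Function.update_of_ne h1, Function.update_self]; exact hη
        rcases eq_or_ne k j with rfl | h3
        · rw [Function.update_of_ne h1, Function.update_of_ne h2, Function.update_self]; exact hκ
        · simp [h1, h2, h3])
      (by
        rw [Finset.prod_update_of_mem (Finset.mem_univ m), Finset.prod_update_of_mem (by simp [hlm]),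
          Finset.prod_update_of_mem (by simp [hjm, hjl])]
        simp [hδ]
        field_simp)
    have hw12 : d (g2 u) = g1 w := by
      refine cd_ext hF O.ortho fun k => ?_
      rw [hd2]
      rcases eq_or_ne k m with rfl | h1
      · rw [Function.update_self, (hg2x u).2.2 k hjm.symm hlm.symm, hu, if_neg hjm.symm,
          if_neg hlm.symm, if_pos rfl, h13 k hjm.symm hlm.symm, hδ]
        field_simp
      rcases eq_or_ne k l with rfl | h2
      · rw [Function.update_of_ne h1, Function.update_self, hu2, hηe]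
      rcases eq_or_ne k j with rfl | h3
      · rw [Function.update_of_ne h1, Function.update_of_ne h2, Function.update_self, huj, hκe]
      · rw [Function.update_of_ne h1, Function.update_of_ne h2, Function.update_of_ne h3,
          Pi.one_apply, one_mul, (hg2x u).2.2 k h3 h2, hu, if_neg h3, if_neg h2, if_neg h1,
          h13 k h3 h2]
    have huu : hB hF n u u = 0 := by
      have hgu : hB hF n (d (g2 u)) (d (g2 u)) = hB hF n u u :=
        (O.le_iso hd _ _).trans (O.le_iso hg2 _ _)
      rw [hw12, O.le_iso hg1 w w, hw] at hgu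
      exact hgu.symm
    have hcu : UMax.Centre hF L u := ih' u huu (by
      refine lt_of_lt_of_le (Finset.card_lt_card ⟨fun k hk => ?_, fun hh => ?_⟩) hws
      · rw [mem_supp, hu] at hk
        rw [mem_supp]
        split_ifs at hk with h1 h2 h3
        · exact absurd rfl hk
        · rw [h2]; exact hwl
        · exact (mul_ne_zero_iff.1 hk).1
        · exact hk
      · have := hh (mem_supp.2 hwj)
        rw [mem_supp, hu, if_pos rfl] at this
        exact this rfl)
    have h2 := UMax.centre_map hF O.le_iso (inv_mem hg1)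
      (hw12 ▸ UMax.centre_map hF O.le_iso hd (UMax.centre_map hF O.le_iso hg2 hcu))
    rwa [← LinearEquiv.mul_apply, inv_mul_cancel] at h2
  obtain ⟨j, hj, l, hl, m, hm, hjl, hjm, hlm⟩ := Finset.two_lt_card.1 (hs ▸ hs3 : 2 < (supp hF e v).card)
  rw [mem_supp] at hj hl hm
  by_cases h1 : frob hF (cd hF e v j) * cd hF e v j + frob hF (cd hF e v l) * cd hF e v l = 0
  swap
  · exact step v hv hs.le hjl hjm hlm hj hl h1
  obtain ⟨V, hVc, hV⟩ := values v hjl hj hl
  obtain ⟨p, hp, hpm⟩ : ∃ p ∈ V, p ∉ ({-(frob hF (cd hF e v m) * cd hF e v m)} : Finset F) :=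
    Finset.exists_mem_notMem_of_card_lt_card (by rw [Finset.card_singleton]; omega)
  rw [Finset.mem_singleton] at hpm
  obtain ⟨g, hg, e1, e2, e3⟩ := hV p hp
  rw [h1] at e2
  have hgv : hB hF n (g v) (g v) = 0 := by rw [O.le_iso hg]; exact hv
  have hsub : supp hF e (g v) ⊆ supp hF e v := fun k hk => by
    rw [mem_supp] at hk ⊢
    rcases eq_or_ne k j with rfl | hkj
    · exact hj
    rcases eq_or_ne k l with rfl | hkl
    · exact hl
    · rwa [e3 k hkj hkl] at hk
  suffices hc : UMax.Centre hF L (g v) by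
    have := UMax.centre_map hF O.le_iso (inv_mem hg) hc
    rwa [← LinearEquiv.mul_apply, inv_mul_cancel] at this
  by_cases h0 : cd hF e (g v) j = 0
  · refine ih' _ hgv (lt_of_lt_of_le (Finset.card_lt_card ⟨hsub, fun hh => ?_⟩) hs.le)
    exact mem_supp.1 (hh (mem_supp.2 hj)) h0
  · refine step _ hgv ((Finset.card_le_card hsub).trans hs.le) hjm hjl hlm.symm h0
      (by rwa [e3 m hjm.symm hlm.symm]) ?_
    rw [e1, e3 m hjm.symm hlm.symm]
    exact fun h => hpm (eq_neg_of_add_eq_zero_left h)

end Over

end Cfsg.Lib.Linear.UDec
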