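import Cfsg.Agent.Lib.Linear.UDec.Even

/-!
# Overgroups of the monomial group, `q = 2`

All non-zero coordinates have norm one, and one transvection with a centre of weight at least four
gives all transvections.
-/

set_option autoImplicit false

namespace Cfsg.Lib.Linear.UDec

open Module
open Cfsg.Lib.Linear Cfsg.Lib.Linear.Herm

variable {F : Type*} [Field F] [Fintype F] {q n : ℕ} {hF : Fintype.card F = q ^ 2}
  {e : Fin n → (Fin n → F)} {L : Subgroup ((Fin n → F) ≃ₗ[F] (Fin n → F))}

namespace Over

variable (O : Over hF e L)
include O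

theorem centres_of_two (hn : 10 ≤ n) (hq : q = 2) {x : (Fin n → F) ≃ₗ[F] (Fin n → F)} (hx : x ∈ L)
    (hxM : ¬ Mono e x) (v : Fin n → F) (hv : hB hF n v v = 0) : UMax.Centre hF L v := by
  classical
  subst hq
  have hsq : ∀ a : F, frob hF a = a * a := fun a => by rw [frob_apply, pow_two]
  have h4 : ∀ a : F, a * a * a * a = a := fun a => by
    have := FiniteField.pow_card a
    rw [hF] at this
    linear_combination this
  have h2 : (2 : F) = 0 := by
    have := natCast_q_eq_zero' hF
    simpa using this
  have hN : ∀ {a : F}, a ≠ 0 → frob hF a * a = 1 := fun {a} ha => by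
    rw [hsq]
    refine mul_right_cancel₀ ha ?_
    rw [one_mul]
    exact h4 a
  have hneg : ∀ a : F, -a = a := fun a => neg_eq_of_two h2 a
  -- transvections with parameter one are all transvections
  have tvC : ∀ {u : Fin n → F}, hB hF n u u = 0 → Tv hF L u 1 → UMax.Centre hF L u := by
    intro u hu h
    rw [centre_iff hF hu]
    intro α hα
    rcases eq_or_ne α 0 with rfl | ha
    · exact tv_zero hF u
    · rw [hsq] at hα
      have : α * (1 + α) = 0 := by linear_combination hα
      rw [eq_neg_of_add_eq_zero_right ((mul_eq_zero.1 this).resolve_left ha), hneg]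
      exact h
  have hcard2 : ∀ k : ℕ, (k : F) = 0 → Even k := fun k hk => by
    haveI : CharP F 2 := CharTwo.of_one_ne_zero_of_two_eq_zero one_ne_zero h2
    exact even_iff_two_dvd.2 ((CharP.cast_eq_zero_iff F 2 k).1 hk)
  have hsum : ∀ u : Fin n → F, hB hF n u u = ((supp hF e u).card : F) := fun u => by
    rw [form_eq hF O.ortho, ← Finset.sum_subset (Finset.subset_univ (supp hF e u)) (fun i _ hi => by
        rw [mem_supp, not_not] at hi; rw [hi, mul_zero]),
      Finset.sum_congr rfl (fun i hi => hN (mem_supp.1 hi))]
    simp
  have image : ∀ {u : Fin n → F} {g : (Fin n → F) ≃ₗ[F] (Fin n → F)}, g ∈ L → hB hF n u u = 0 →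
      UMax.Centre hF L u → hB hF n (g u + hB hF n u (g u) • u) (g u + hB hF n u (g u) • u) = 0 ∧
        UMax.Centre hF L (g u + hB hF n u (g u) • u) := by
    intro u g hg hu hc
    obtain ⟨h, hm⟩ := (centre_iff hF hu).1 hc 1 (by rw [map_one]; linear_combination h2)
    have e1 : (qrefl u 1 h * g) u = g u + hB hF n u (g u) • u := by
      rw [LinearEquiv.mul_apply, qrefl_apply, one_mul]
    rw [← e1]
    exact ⟨by rw [O.le_iso (mul_mem hm hg)]; exact hu, UMax.centre_map hF O.le_iso (mul_mem hm hg) hc⟩
  -- the primitive cube roots of unity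
  obtain ⟨ω, hω, hω1⟩ := exists_normOne hF {1} (by rw [Finset.card_singleton]; omega)
  rw [Finset.mem_singleton] at hω1
  have hω0 : ω ≠ 0 := fun h => by simp [h] at hω
  have hω2 : ω * ω + ω + 1 = 0 := by
    rw [hsq] at hω
    refine (mul_eq_zero.1 (show (ω - 1) * (ω * ω + ω + 1) = 0 by linear_combination hω)).resolve_left
      (sub_ne_zero.2 hω1)
  have hω3 : frob hF (ω * ω) * (ω * ω) = 1 := hN (mul_ne_zero hω0 hω0)
  have hω4 : ω * ω ≠ 1 := fun h => hω1 (by
    have : ω + (1 + 1) = 0 := by linear_combination hω2 - h
    have h' : ω = 0 := by linear_combination this - h2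
    exact absurd h' hω0)
  -- a centre of weight four
  obtain ⟨v₄, hv₄, hc₄, hs₄⟩ : ∃ u, hB hF n u u = 0 ∧ UMax.Centre hF L u ∧
      (supp hF e u).card = 4 := by
    have lower : ∀ {u : Fin n → F}, hB hF n u u = 0 → UMax.Centre hF L u → 4 ≤ (supp hF e u).card →
        (supp hF e u).card < n → ∃ w, hB hF n w w = 0 ∧ UMax.Centre hF L w ∧
          (supp hF e w).card = 4 := by
      intro u hu hc hs hlt
      obtain ⟨r, hr⟩ : ∃ r, r ∉ supp hF e u := by
        by_contra h
        push Not at h
        rw [Finset.eq_univ_iff_forall.2 h, Finset.card_univ, Fintype.card_fin] at hlt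
        omega
      obtain ⟨T, hT, hTc⟩ := Finset.exists_subset_card_eq hs
      obtain ⟨j, hj⟩ := Finset.card_pos.1 (by omega : 0 < T.card)
      set d : Fin n → F := fun i => if i = j then ω * ω else if i ∈ T then ω else 1 with hd
      obtain ⟨g, hg, -, g2, g3, -⟩ := O.dg_comp d r (fun i => by
        simp only [hd]; split_ifs
        · exact hω3
        · exact hω
        · simp) (by
        simp only [hd]
        rw [if_neg (fun h : r = j => hr (hT (h ▸ hj))), if_neg (fun h => hr (hT h))])
      have hr0 : cd hF e u r = 0 := by by_contra h; exact hr (mem_supp.2 h)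
      have hS : hB hF n u (g u) = 1 := by
        rw [form_eq hF O.ortho, ← Finset.sum_subset (Finset.subset_univ (supp hF e u)) (fun i _ hi => by
            rw [mem_supp, not_not] at hi
            rw [hi, map_zero, zero_mul]),
          Finset.sum_congr rfl (fun i hi => show frob hF (cd hF e u i) * cd hF e (g u) i = d i by
            rw [g2 u i (fun h => hr (h ▸ hi))]
            linear_combination (d i) * hN (mem_supp.1 hi)),
          ← Finset.sum_sdiff hT, Finset.sum_congr rfl (fun i hi => show d i = 1 by
            have := (Finset.mem_sdiff.1 hi).2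
            simp only [hd]
            rw [if_neg (fun h : i = j => this (h ▸ hj)), if_neg this]),
          Finset.sum_const, Finset.card_sdiff_of_subset hT, hTc,
          ← Finset.add_sum_erase _ _ hj, Finset.sum_congr rfl (fun i hi => show d i = ω by
            simp only [hd]
            rw [if_neg (Finset.ne_of_mem_erase hi), if_pos (Finset.mem_of_mem_erase hi)]),
          Finset.sum_const, Finset.card_erase_of_mem hj, hTc]
        have hcz : ((supp hF e u).card : F) = 0 := by rw [← hsum, hu]
        simp only [hd, if_pos rfl, nsmul_eq_mul, Nat.cast_sub hs, hcz]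
        push_cast
        linear_combination hω2 + (ω - 3) * h2
      obtain ⟨hw, hwc⟩ := image hg hu hc
      rw [hS, one_smul] at hw hwc
      refine ⟨_, hw, hwc, ?_⟩
      have : supp hF e (g u + u) = T := by
        ext i
        rw [mem_supp, cd_add]
        rcases eq_or_ne i r with rfl | hir
        · rw [g3 u hr0, hr0, add_zero]
          exact ⟨fun h => absurd rfl h, fun h => absurd (hT h) hr⟩
        rw [g2 u i hir, ← add_one_mul]
        constructor
        · intro h
          by_contra hiT
          refine h (by
            simp only [hd]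
            rw [if_neg (fun h : i = j => hiT (h ▸ hj)), if_neg hiT]
            linear_combination (cd hF e u i) * h2)
        · intro hiT
          refine mul_ne_zero (fun h => ?_) (mem_supp.1 (hT hiT))
          simp only [hd] at h
          split_ifs at h
          · exact hω4 (by rw [← hneg 1]; linear_combination h)
          · exact hω1 (by rw [← hneg 1]; linear_combination h)
      rw [this, hTc]
    obtain ⟨u, hu, ht, hs⟩ := O.exists_heavy h2 hx hxM
    have hc := tvC hu ht
    have hev := hcard2 _ ((hsum u).symm.trans hu)
    obtain ⟨m, hm⟩ := hev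
    rcases Nat.lt_or_ge (supp hF e u).card n with hlt | hge
    · exact lower hu hc (by omega) hlt
    have hall : ∀ i, cd hF e u i ≠ 0 := fun i => mem_supp.1 (by
      rw [Finset.eq_univ_of_card (supp hF e u) (le_antisymm (Finset.card_le_univ _) (by rw [Fintype.card_fin]; exact hge))]
      exact Finset.mem_univ i)
    obtain ⟨T, -, hTc⟩ := Finset.exists_subset_card_eq
      (show 6 ≤ (Finset.univ : Finset (Fin n)).card by rw [Finset.card_univ, Fintype.card_fin]; omega)
    obtain ⟨A, hA, hAc⟩ := Finset.exists_subset_card_eq (show 3 ≤ T.card by omega)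
    set d : Fin n → F := fun i => if i ∈ A then ω else if i ∈ T then ω * ω else 1 with hd
    have dA : ∀ i ∈ A, d i = ω := fun i hi => by simp only [hd]; rw [if_pos hi]
    have dT : ∀ i ∈ T \ A, d i = ω * ω := fun i hi => by
      rw [Finset.mem_sdiff] at hi; simp only [hd]; rw [if_neg hi.2, if_pos hi.1]
    have d1 : ∀ i ∈ Finset.univ \ T, d i = 1 := fun i hi => by
      have := (Finset.mem_sdiff.1 hi).2
      simp only [hd]; rw [if_neg (fun h => this (hA h)), if_neg this]
    have hw3 : ω * ω * ω = 1 := by rw [← hω, hsq]
    obtain ⟨g, hg, -, g2⟩ := O.dg_mem d (fun i => by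
      simp only [hd]; split_ifs
      · exact hω
      · exact hω3
      · simp) (by
      rw [← Finset.prod_sdiff (Finset.subset_univ T), ← Finset.prod_sdiff hA, Finset.prod_congr rfl d1,
        Finset.prod_congr rfl dT, Finset.prod_congr rfl dA, Finset.prod_const_one, Finset.prod_const,
        Finset.prod_const, Finset.card_sdiff_of_subset hA, hTc, hAc]
      linear_combination (ω ^ 6 + ω ^ 3 + 1) * hw3)
    have hS : hB hF n u (g u) = 1 := by
      rw [form_eq hF O.ortho, Finset.sum_congr rfl (fun i _ =>
          show frob hF (cd hF e u i) * cd hF e (g u) i = d i by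
            rw [g2]; linear_combination (d i) * hN (hall i)),
        ← Finset.sum_sdiff (Finset.subset_univ T), ← Finset.sum_sdiff hA, Finset.sum_congr rfl d1,
        Finset.sum_congr rfl dT, Finset.sum_congr rfl dA, Finset.sum_const, Finset.sum_const,
        Finset.sum_const, Finset.card_sdiff_of_subset hA, hTc, hAc,
        Finset.card_sdiff_of_subset (Finset.subset_univ T), Finset.card_univ, Fintype.card_fin, hTc]
      have hcz : ((supp hF e u).card : F) = 0 := by rw [← hsum, hu]
      rw [Finset.eq_univ_of_card (supp hF e u) (le_antisymm (Finset.card_le_univ _)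
        (by rw [Fintype.card_fin]; exact hge)), Finset.card_univ, Fintype.card_fin] at hcz
      simp only [nsmul_eq_mul, mul_one, Nat.cast_sub (show 6 ≤ n by omega), hcz]
      push_cast
      linear_combination 3 * hω2 - 5 * h2
    obtain ⟨hw, hwc⟩ := image hg hu hc
    rw [hS, one_smul] at hw hwc
    have hT6 : supp hF e (g u + u) = T := by
      ext i
      rw [mem_supp, cd_add, g2, ← add_one_mul]
      constructor
      · intro h
        by_contra hiT
        exact h (by
          rw [d1 i (Finset.mem_sdiff.2 ⟨Finset.mem_univ i, hiT⟩)]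
          linear_combination (cd hF e u i) * h2)
      · intro hiT
        refine mul_ne_zero (fun h => ?_) (hall i)
        simp only [hd, hiT, if_true] at h
        split_ifs at h
        · exact hω1 (by rw [← hneg 1]; linear_combination h)
        · exact hω4 (by rw [← hneg 1]; linear_combination h)
    exact lower hw hwc (by rw [hT6, hTc]; norm_num) (by rw [hT6, hTc]; omega)
  -- all vectors of weight four
  have dgmove : ∀ {u u' : Fin n → F}, UMax.Centre hF L u → supp hF e u = supp hF e u' →
      (supp hF e u).card < n → UMax.Centre hF L u' := by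
    intro u u' hc hs hlt
    obtain ⟨r, hr⟩ : ∃ r, r ∉ supp hF e u := by
      by_contra h
      push Not at h
      rw [Finset.eq_univ_iff_forall.2 h, Finset.card_univ, Fintype.card_fin] at hlt
      omega
    obtain ⟨g, hg, -, g2, g3, -⟩ := O.dg_comp
      (fun i => if i ∈ supp hF e u then cd hF e u' i / cd hF e u i else 1) r (fun i => by
        split_ifs with h
        · exact hN (div_ne_zero (mem_supp.1 (hs ▸ h)) (mem_supp.1 h))
        · simp) (if_neg hr)
    have : g u = u' := cd_ext hF O.ortho fun i => by
      rcases eq_or_ne i r with rfl | hir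
      · have e1 : cd hF e u i = 0 := by by_contra h; exact hr (mem_supp.2 h)
        have e2 : cd hF e u' i = 0 := by by_contra h; exact hr (hs ▸ mem_supp.2 h)
        rw [g3 u e1, e2]
      · rw [g2 u i hir]
        by_cases h : i ∈ supp hF e u
        · rw [if_pos h, div_mul_cancel₀ _ (mem_supp.1 h)]
        · have e1 : cd hF e u i = 0 := by by_contra h'; exact h (mem_supp.2 h')
          have e2 : cd hF e u' i = 0 := by by_contra h'; exact h (hs ▸ mem_supp.2 h')
          rw [e1, e2, mul_zero]
    rw [← this]
    exact UMax.centre_map hF O.le_iso hg hc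
  have weight4 : ∀ (m : ℕ) (u : Fin n → F), (supp hF e u).card = 4 →
      ((supp hF e u) \ (supp hF e v₄)).card = m → UMax.Centre hF L u := by
    intro m
    induction m with
    | zero =>
      intro u hu hm
      exact dgmove hc₄ (Finset.eq_of_subset_of_card_le
        (Finset.sdiff_eq_empty_iff_subset.1 (Finset.card_eq_zero.1 hm)) (by omega)).symm (by omega)
    | succ m ih =>
      intro u hu hm
      obtain ⟨i, hi⟩ := Finset.card_pos.1 (by omega : 0 < (supp hF e u \ supp hF e v₄).card)
      obtain ⟨hiu, hiv⟩ := Finset.mem_sdiff.1 hi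
      obtain ⟨j, hjv, hju⟩ : ∃ j ∈ supp hF e v₄, j ∉ supp hF e u := by
        by_contra h
        push Not at h
        exact hiv (by rw [Finset.eq_of_subset_of_card_le h (by omega)]; exact hiu)
      have hij : i ≠ j := fun h => hju (h ▸ hiu)
      obtain ⟨r, hr⟩ := exists_other' (insert i (insert j (supp hF e u)))
        ((Finset.card_insert_le _ _).trans_lt ((Nat.succ_le_succ (Finset.card_insert_le _ _)).trans_lt
          (by omega)))
      simp only [Finset.mem_insert, not_or] at hr
      obtain ⟨g, hg, g1, g2, g3, g4⟩ := O.swap_mem hij (Ne.symm hr.1) (Ne.symm hr.2.1) (c := 1) (by simp)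
      rw [map_one] at g2
      rw [one_smul] at g1 g2
      have hgu : ∀ p, cd hF e (g u) p =
          if p = j then cd hF e u i else if p = i then 0 else cd hF e u p := by
        intro p
        have hj0 : cd hF e u j = 0 := by by_contra h; exact hju (mem_supp.2 h)
        have hr0 : cd hF e u r = 0 := by by_contra h; exact hr.2.2 (mem_supp.2 h)
        rcases eq_or_ne p j with rfl | p1
        · rw [if_pos rfl, cd, ← g1, O.le_iso hg]; rfl
        rcases eq_or_ne p i with rfl | p2
        · rw [if_neg p1, if_pos rfl, cd, ← g2, O.le_iso hg]; exact hj0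
        rcases eq_or_ne p r with rfl | p3
        · rw [if_neg p1, if_neg p2, cd]
          have h := O.le_iso hg (e p) u
          rw [g3, map_neg, LinearMap.neg_apply, hneg] at h
          rw [h]; rfl
        · rw [if_neg p1, if_neg p2, cd]
          conv_lhs => rw [← g4 p p2 p1 p3]
          rw [O.le_iso hg]; rfl
      have hsupp : supp hF e (g u) = insert j ((supp hF e u).erase i) := by
        ext p
        rw [mem_supp, hgu, Finset.mem_insert, Finset.mem_erase, mem_supp]
        rcases eq_or_ne p j with rfl | p1
        · simp [mem_supp.1 hiu]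
        rcases eq_or_ne p i with rfl | p2
        · simp [p1]
        · simp [p1, p2]
      have hc : UMax.Centre hF L (g u) := by
        refine ih _ ?_ ?_
        · rw [hsupp, Finset.card_insert_of_notMem (fun h => hju (Finset.mem_of_mem_erase h)),
            Finset.card_erase_of_mem hiu, hu]
        · rw [hsupp, Finset.insert_sdiff_of_mem _ hjv, Finset.erase_sdiff_comm,
            Finset.card_erase_of_mem hi, hm]
          rfl
      have := UMax.centre_map hF O.le_iso (inv_mem hg) hc
      rwa [← LinearEquiv.mul_apply, inv_mul_cancel] at this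
  have w4 : ∀ u : Fin n → F, (supp hF e u).card = 4 → UMax.Centre hF L u := fun u h => weight4 _ u h rfl
  -- all vectors
  induction hs : (supp hF e v).card using Nat.strong_induction_on generalizing v with
  | h s ih =>
  have ih' : ∀ w : Fin n → F, (supp hF e w).card < s → Even (supp hF e w).card → UMax.Centre hF L w :=
    fun w hlt hev => ih _ hlt w (by
      rw [hsum]
      obtain ⟨m, hm⟩ := hev
      rw [hm, Nat.cast_add]
      linear_combination (m : F) * h2) rfl
  have hev := hcard2 s (by rw [← hs, ← hsum, hv])
  obtain ⟨m, hm⟩ := hev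
  have h0 : m = 0 ∨ m = 1 ∨ m = 2 ∨ 3 ≤ m := by omega
  rcases h0 with hm0 | hm1 | hm2 | hm3
  · have : v = 0 := cd_ext hF O.ortho fun i => by
      rw [cd_zero]
      by_contra hi
      have := Finset.card_pos.2 ⟨i, mem_supp.2 hi⟩
      omega
    subst this
    intro l hl
    convert one_mem L
    refine LinearEquiv.ext fun x => ?_
    rw [qrefl_apply]
    simp
  · obtain ⟨i, j, hij, hsu⟩ := Finset.card_eq_two.1 (by omega : (supp hF e v).card = 2)
    have hi0 : cd hF e v i ≠ 0 := mem_supp.1 (by rw [hsu]; simp)
    have hj0 : cd hF e v j ≠ 0 := mem_supp.1 (by rw [hsu]; simp)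
    have hc := hN (div_ne_zero hj0 hi0)
    have hz : hB hF n (e i + (cd hF e v j / cd hF e v i) • e j)
        (e i + (cd hF e v j / cd hF e v i) • e j) = 0 := by
      simp only [map_add, LinearMap.add_apply, map_smul, LinearMap.map_smulₛₗ, LinearMap.smul_apply,
        smul_eq_mul, RingHom.id_apply, O.ortho _ _, if_pos, if_neg hij, if_neg hij.symm, mul_zero,
        add_zero, zero_add, mul_one]
      linear_combination hc + h2
    have hC := UMax.centre_smul hF hz (tvC hz (O.tv_pair h2 hij hc)) (cd hF e v i)
    convert hC using 1
    refine cd_ext hF O.ortho fun p => ?_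
    rw [cd_smul, cd_add, cd_smul, cd_frame hF O.ortho, cd_frame hF O.ortho]
    rcases eq_or_ne p i with rfl | p1
    · rw [if_pos rfl, if_neg hij]; ring
    rcases eq_or_ne p j with rfl | p2
    · rw [if_pos rfl, if_neg p1]; field_simp; ring
    · rw [if_neg p1, if_neg p2]
      have : cd hF e v p = 0 := by
        by_contra h
        have := hsu ▸ mem_supp.2 h
        simp [p1, p2] at this
      rw [this]; ring
  · exact w4 v (by omega)
  -- a vector of weight `s` from weights `4` and `s - 2`
  have build : ∀ {z w : Fin n → F} {S : F}, (supp hF e z).card = 4 → (supp hF e w).card = s - 2 →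
      hB hF n z w = S → UMax.Centre hF L (w + S • z) := by
    intro z w S hz hw hS
    have hzz : hB hF n z z = 0 := by rw [hsum, hz]; push_cast; linear_combination 2 * h2
    obtain ⟨h, hmem⟩ := (centre_iff hF hzz).1 (w4 z hz) 1 (by rw [map_one]; linear_combination h2)
    have hc := UMax.centre_map hF O.le_iso hmem (ih' w (by omega) ⟨m - 1, by omega⟩)
    rwa [qrefl_apply, one_mul, hS] at hc
  rcases Nat.lt_or_ge s n with hsn | hsn
  · obtain ⟨r, hr⟩ : ∃ r, r ∉ supp hF e v := by
      by_contra h
      push Not at h
      rw [Finset.eq_univ_iff_forall.2 h, Finset.card_univ, Fintype.card_fin] at hs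
      omega
    obtain ⟨T, hT, hTc⟩ := Finset.exists_subset_card_eq (show 3 ≤ (supp hF e v).card by omega)
    have hrT : r ∉ T := fun h => hr (hT h)
    set z : Fin n → F := ∑ p, (if p = r then 1 else if p ∈ T then cd hF e v p else 0) • e p
    set w : Fin n → F := ∑ p, (if p = r then 1 else if p ∈ T then 0 else cd hF e v p) • e p
    have hz : ∀ p, cd hF e z p = if p = r then 1 else if p ∈ T then cd hF e v p else 0 :=
      cd_sum hF O.ortho _
    have hw : ∀ p, cd hF e w p = if p = r then 1 else if p ∈ T then 0 else cd hF e v p :=
      cd_sum hF O.ortho _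
    have hzs : supp hF e z = insert r T := by
      ext p
      rw [mem_supp, hz, Finset.mem_insert]
      split_ifs with h1 h2'
      · simp [h1]
      · simp [h1, h2', mem_supp.1 (hT h2')]
      · simp [h1, h2']
    have hws : supp hF e w = insert r (supp hF e v \ T) := by
      ext p
      rw [mem_supp, hw, Finset.mem_insert, Finset.mem_sdiff, mem_supp]
      split_ifs with h1 h2'
      · simp [h1]
      · simp [h1, h2']
      · simp [h1, h2']
    have hS : hB hF n z w = 1 := by
      rw [form_eq hF O.ortho, Finset.sum_eq_single r (fun p _ hp => by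
        rw [hz, hw, if_neg hp, if_neg hp]
        split_ifs <;> simp) (fun h => absurd (Finset.mem_univ r) h), hz, hw, if_pos rfl, if_pos rfl, map_one, one_mul]
    have := build (z := z) (w := w) (S := 1) (by rw [hzs, Finset.card_insert_of_notMem hrT, hTc])
      (by rw [hws, Finset.card_insert_of_notMem (fun h => hr (Finset.mem_sdiff.1 h).1),
        Finset.card_sdiff_of_subset hT, hTc, hs]; omega) hS
    convert this using 1
    refine cd_ext hF O.ortho fun p => ?_
    rw [cd_add, cd_smul, hz, hw]
    have hr0 : cd hF e v r = 0 := by by_contra h; exact hr (mem_supp.2 h)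
    split_ifs with h1 h2'
    · subst h1; rw [hr0]; linear_combination -h2
    · ring
    · ring
  -- full weight
  have hall : ∀ p, cd hF e v p ≠ 0 := fun p => mem_supp.1 (by
    rw [Finset.eq_univ_of_card (supp hF e v) (le_antisymm (Finset.card_le_univ _) (by rw [Fintype.card_fin]; omega))]
    exact Finset.mem_univ p)
  have full : ∀ {u : Fin n → F}, (∀ p, cd hF e u p ≠ 0) → ∀ {j l : Fin n},
      cd hF e u j ≠ cd hF e u l → UMax.Centre hF L u := by
    intro u hu j l hjl'
    have hjl : j ≠ l := fun h => hjl' (h ▸ rfl)
    obtain ⟨a, ha⟩ := O.exists_other {j, l} (Finset.card_le_two.trans_lt (by norm_num))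
    obtain ⟨b, hb⟩ := O.exists_other {j, l, a} (Finset.card_le_three.trans_lt (by norm_num))
    simp only [Finset.mem_insert, Finset.mem_singleton, not_or] at ha hb
    set S := cd hF e u j + cd hF e u l with hSdef
    have hS0 : S ≠ 0 := fun h => hjl' (by rw [← hneg (cd hF e u l)]; linear_combination h)
    set z : Fin n → F := ∑ p, (if p = j ∨ p = l then 1 else if p = a ∨ p = b then cd hF e u p / S else 0) • e p
    set w : Fin n → F := ∑ p, (if p = a ∨ p = b then 0 else if p = j then cd hF e u l
      else if p = l then cd hF e u j else cd hF e u p) • e p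
    have hz : ∀ p, cd hF e z p = if p = j ∨ p = l then 1 else if p = a ∨ p = b then cd hF e u p / S else 0 :=
      cd_sum hF O.ortho _
    have hw : ∀ p, cd hF e w p = if p = a ∨ p = b then 0 else if p = j then cd hF e u l
      else if p = l then cd hF e u j else cd hF e u p := cd_sum hF O.ortho _
    have hzs : supp hF e z = {j, l, a, b} := by
      ext p
      rw [mem_supp, hz]
      simp only [Finset.mem_insert, Finset.mem_singleton]
      split_ifs with h1 h2'
      · simp only [ne_eq, one_ne_zero, not_false_eq_true, true_iff]; tauto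
      · simp only [ne_eq, div_eq_zero_iff, hu p, hS0, or_self, not_false_eq_true, true_iff]; tauto
      · simp only [ne_eq, not_true, false_iff]; tauto
    have hws : supp hF e w = Finset.univ \ {a, b} := by
      ext p
      rw [mem_supp, hw]
      simp only [Finset.mem_sdiff, Finset.mem_univ, true_and, Finset.mem_insert, Finset.mem_singleton]
      split_ifs with h1 h2' h3
      · simp [h1]
      all_goals simp [h1, hu]
    have hzw : hB hF n z w = S := by
      rw [form_eq hF O.ortho, ← Finset.sum_subset (Finset.subset_univ ({j, l} : Finset (Fin n)))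
        (fun p _ hp => by
          simp only [Finset.mem_insert, Finset.mem_singleton, not_or] at hp
          rw [hz, hw, if_neg (not_or.2 hp)]
          split_ifs <;> simp), Finset.sum_pair hjl, hz, hw, hz, hw, if_pos (Or.inl rfl),
        if_pos (Or.inr rfl), if_neg (not_or.2 ⟨Ne.symm ha.1, Ne.symm hb.1⟩),
        if_neg (not_or.2 ⟨Ne.symm ha.2, Ne.symm hb.2.1⟩), if_pos rfl, if_neg hjl.symm, if_pos rfl, map_one,
        one_mul, one_mul, hSdef, add_comm]
    have := build (z := z) (w := w) (S := S) (by
        rw [hzs, Finset.card_insert_of_notMem (by simp [hjl, Ne.symm ha.1, Ne.symm hb.1]),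
          Finset.card_insert_of_notMem (by simp [Ne.symm ha.2, Ne.symm hb.2.1]),
          Finset.card_pair (Ne.symm hb.2.2)])
      (by rw [hws, Finset.card_sdiff_of_subset (Finset.subset_univ _), Finset.card_univ, Fintype.card_fin,
        Finset.card_pair (Ne.symm hb.2.2)]
          have := (supp hF e v).card_le_univ
          rw [Fintype.card_fin] at this
          omega) hzw
    convert this using 1
    refine cd_ext hF O.ortho fun p => ?_
    rw [cd_add, cd_smul, hz, hw]
    rcases eq_or_ne p j with rfl | p1
    · rw [if_neg (not_or.2 ⟨Ne.symm ha.1, Ne.symm hb.1⟩), if_pos rfl, if_pos (Or.inl rfl), hSdef]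
      linear_combination (-cd hF e u l) * h2
    rcases eq_or_ne p l with rfl | p2
    · rw [if_neg (not_or.2 ⟨Ne.symm ha.2, Ne.symm hb.2.1⟩), if_neg p1, if_pos rfl, if_pos (Or.inr rfl), hSdef]
      linear_combination (-cd hF e u j) * h2
    by_cases h1 : p = a ∨ p = b
    · rw [if_pos h1, if_neg (not_or.2 ⟨p1, p2⟩), if_pos h1]; field_simp; ring
    · rw [if_neg h1, if_neg p1, if_neg p2, if_neg (not_or.2 ⟨p1, p2⟩), if_neg h1]; ring
  by_cases hd : ∃ j l, cd hF e v j ≠ cd hF e v l
  · obtain ⟨j, l, hjl⟩ := hd
    exact full hall hjl
  push Not at hd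
  obtain ⟨i, -⟩ := O.exists_other ∅ (by simp)
  obtain ⟨j, hj⟩ := O.exists_other {i} (by simp)
  obtain ⟨l, hl⟩ := O.exists_other {i, j} (Finset.card_le_two.trans_lt (by norm_num))
  simp only [Finset.mem_insert, Finset.mem_singleton, not_or] at hj hl
  obtain ⟨g, hg, -, g2⟩ := O.dg_mem (Function.update (Function.update 1 i ω) j (ω * ω)) (fun p => by
    rcases eq_or_ne p j with rfl | h1
    · rw [Function.update_self]; exact hω3
    rcases eq_or_ne p i with rfl | h1'
    · rw [Function.update_of_ne h1, Function.update_self]; exact hω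
    · simp [h1, h1']) (by
    rw [Finset.prod_update_of_mem (Finset.mem_univ j), Finset.prod_update_of_mem (by simp [Ne.symm hj])]
    simp only [Pi.one_apply, Finset.prod_const_one, mul_one]
    rw [← hω, hsq]; try ring)
  have hne : ∀ p, cd hF e (g v) p ≠ 0 := fun p => by
    rw [g2]
    refine mul_ne_zero ?_ (hall p)
    rcases eq_or_ne p j with rfl | h1
    · rw [Function.update_self]; exact mul_ne_zero hω0 hω0
    rcases eq_or_ne p i with rfl | h1'
    · rw [Function.update_of_ne h1, Function.update_self]; exact hω0
    · simp [h1, h1']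
  have := UMax.centre_map hF O.le_iso (inv_mem hg) (full hne (j := i) (l := l) (by
    rw [g2, g2, Function.update_of_ne (Ne.symm hj), Function.update_self, Function.update_of_ne hl.2,
      Function.update_of_ne hl.1, Pi.one_apply, hd i l]
    exact fun h => hω1 (mul_right_cancel₀ (hall l) h)))
  rwa [← LinearEquiv.mul_apply, inv_mul_cancel] at this

end Over

end Cfsg.Lib.Linear.UDec
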