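import Cfsg.Agent.Lib.Linear.UDec.Odd
import Cfsg.Agent.Lib.Linear.UDec.Two
import Cfsg.Agent.Lib.Linear.UDec.FourTwo

/-!
# The monomial subgroup of `SU` is maximal
-/

set_option autoImplicit false

namespace Cfsg.Lib.Linear.UDec

open Module
open Cfsg.Lib.Linear Cfsg.Lib.Linear.Herm

variable {F : Type*} [Field F] [Fintype F] {q n : ℕ} {hF : Fintype.card F = q ^ 2}
  {e : Fin n → (Fin n → F)} {L : Subgroup ((Fin n → F) ≃ₗ[F] (Fin n → F))}

/-- A subgroup of `SU` containing the monomial subgroup is monomial or everything. -/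
theorem Over.mono_or_top (O : Over hF e L)
    (hcase : (n = 4 ∧ q ≠ 3) ∨ ((n = 6 ∨ 10 ≤ n) ∧ (10 ≤ n ∨ 3 ≤ q))) :
    (∀ g ∈ L, Mono e g) ∨ L = tvGroup (hB hF n) := by
  by_cases h : ∀ g ∈ L, Mono e g
  · exact Or.inl h
  push Not at h
  obtain ⟨x, hx, hxM⟩ := h
  refine Or.inr (UMax.eq_top_of_centres hF O.le fun v hv => ?_)
  have hq := two_le_q hF
  by_cases h2 : (2 : F) = 0
  · rcases Nat.lt_or_ge q 4 with hq4 | hq4
    · interval_cases q
      · rcases hcase with ⟨h4, -⟩ | ⟨-, hnq⟩
        · exact O.centres_of_two_four h4 rfl hx hxM v hv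
        · exact O.centres_of_two (hnq.resolve_right (by omega)) rfl hx hxM v hv
      · have h3 := natCast_q_eq_zero hF
        have : (1 : F) = 0 := by
          push_cast at h3
          linear_combination h3 - h2
        exact absurd this one_ne_zero
    · obtain ⟨a, b, hab, hp⟩ := O.pairC_of_even h2 hq4 (hcase.imp (fun h => h.1) (fun h => h.1)) hx hxM
      exact O.centres_of_pairC (by omega) hab hp v hv
  · have hq3 : 3 ≤ q := by
      rcases Nat.lt_or_ge q 3 with hlt | hge
      · interval_cases q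
        exact absurd (by simpa using natCast_q_eq_zero hF) h2
      · exact hge
    obtain ⟨a, b, hab, hp⟩ := O.pairC_of_odd h2 hq3 (hcase.imp (fun h => ⟨h.1, by
      have := h.2
      have hq4 : q ≠ 4 := fun h4 => h2 (by
        have h0 := natCast_q_eq_zero' hF
        rw [h4] at h0; push_cast at h0
        exact mul_self_eq_zero.1 (show (2 : F) * 2 = 0 by linear_combination h0))
      omega⟩) (fun h => h.1)) hx hxM
    exact O.centres_of_pairC hq3 hab hp v hv

end Cfsg.Lib.Linear.UDec
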