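import Cfsg.Agent.Lib.Linear.UDec.Fixer
import Cfsg.Agent.Lib.Linear.UDec.Count
import Cfsg.Agent.Lib.Linear.UDec.Six
import Cfsg.Agent.Lib.Linear.UDec.Four

/-!
# Overgroups of the monomial group contain a transvection, odd `q`
-/

set_option autoImplicit false

namespace Cfsg.Lib.Linear.UDec

open Module
open Cfsg.Lib.Linear Cfsg.Lib.Linear.Herm

variable {F : Type*} [Field F] [Fintype F] {q n : ℕ} {hF : Fintype.card F = q ^ 2}
  {e : Fin n → (Fin n → F)} {L : Subgroup ((Fin n → F) ≃ₗ[F] (Fin n → F))}

theorem one_apply' (v : Fin n → F) : (1 : (Fin n → F) ≃ₗ[F] (Fin n → F)) v = v := rfl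

/-- A monomial isometry is given by a permutation and phases. -/
theorem mono_rep (he : Ortho hF e) {z : (Fin n → F) ≃ₗ[F] (Fin n → F)} (hz : z ∈ iso (hB hF n))
    (hm : Mono e z) : ∃ (π : Equiv.Perm (Fin n)) (c : Fin n → F), (∀ i, c i ≠ 0) ∧
      ∀ i, z (e i) = c i • e (π i) := by
  choose p c hpc using hm
  have hc : ∀ i, c i ≠ 0 := fun i h => ne_zero hF he i (z.injective (by
    rw [hpc, h, zero_smul, map_zero]))
  have hinj : Function.Injective p := by
    intro i i' h
    by_contra hne
    have h1 := hz (e i) (e i')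
    simp only [hpc, h, map_smul, LinearMap.map_smulₛₗ, LinearMap.smul_apply, he _ _, if_pos,
      if_neg hne, smul_eq_mul, RingHom.id_apply, mul_one, mul_eq_zero, map_eq_zero] at h1
    tauto
  exact ⟨Equiv.ofBijective p (Finite.injective_iff_bijective.1 hinj), c, hc, hpc⟩

theorem mono_inv (he : Ortho hF e) {z : (Fin n → F) ≃ₗ[F] (Fin n → F)} (hz : z ∈ iso (hB hF n))
    (hm : Mono e z) : Mono e z⁻¹ := by
  obtain ⟨π, c, hc, h⟩ := mono_rep he hz hm
  intro i
  refine ⟨π.symm i, (c (π.symm i))⁻¹, z.injective ?_⟩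
  rw [← LinearEquiv.mul_apply, mul_inv_cancel, map_smul, h, Equiv.apply_symm_apply, smul_smul,
    inv_mul_cancel₀ (hc _), one_smul]
  rfl

/-- Vectors with triangular supports in a space of dimension at most two. -/
theorem not_three {W : Submodule F (Fin n → F)} (hW : finrank F W ≤ 2) {v1 v2 v3 : Fin n → F}
    (h1 : v1 ∈ W) (h2 : v2 ∈ W) (h3 : v3 ∈ W) {i j k : Fin n} (a1 : cd hF e v1 i ≠ 0)
    (a2 : cd hF e v2 j ≠ 0) (a3 : cd hF e v3 k ≠ 0) (b13 : cd hF e v1 k = 0) (b23 : cd hF e v2 k = 0)
    (b12 : cd hF e v1 j = 0) : False := by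
  have hli : LinearIndependent F ![v1, v2, v3] := by
    refine Fintype.linearIndependent_iff.2 fun g hg => ?_
    rw [Fin.sum_univ_three] at hg
    simp only [Matrix.cons_val_zero, Matrix.cons_val_one, Matrix.cons_val_two, Matrix.head_cons,
      Matrix.tail_cons] at hg
    have e3 := congrArg (fun v => cd hF e v k) hg
    simp only [cd_add, cd_smul, cd_zero, b13, b23, mul_zero, zero_add, mul_eq_zero, a3, or_false] at e3
    rw [e3, zero_smul, add_zero] at hg
    have e2 := congrArg (fun v => cd hF e v j) hg
    simp only [cd_add, cd_smul, cd_zero, b12, mul_zero, zero_add, mul_eq_zero, a2, or_false] at e2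
    rw [e2, zero_smul, add_zero] at hg
    have e1 := congrArg (fun v => cd hF e v i) hg
    simp only [cd_smul, cd_zero, mul_eq_zero, a1, or_false] at e1
    intro l
    fin_cases l <;> assumption
  have hle : Submodule.span F (Set.range ![v1, v2, v3]) ≤ W := Submodule.span_le.2 (by
    rintro _ ⟨l, rfl⟩
    fin_cases l <;> assumption)
  have := Submodule.finrank_mono hle
  rw [finrank_span_eq_card hli, Fintype.card_fin] at this
  omega

theorem finrank_pair_le (v w : Fin n → F) :
    finrank F (Submodule.span F ({v, w} : Set (Fin n → F))) ≤ 2 := by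
  classical
  have := finrank_span_finset_le_card (R := F) ({v, w} : Finset (Fin n → F))
  rw [Finset.coe_pair] at this
  exact this.trans Finset.card_le_two

namespace Over

variable (O : Over hF e L)
include O

/-- The map `y d y⁻¹` moves vectors only along the columns where `d ≠ 1`. -/
theorem conj_dg_apply {y g : (Fin n → F) ≃ₗ[F] (Fin n → F)} (hy : y ∈ L) {d : Fin n → F}
    (hg : ∀ i, g (e i) = d i • e i) (v : Fin n → F) :
    (y * g * y⁻¹) v = ∑ i, (d i * hB hF n (y (e i)) v) • y (e i) := by
  have hv : y (y⁻¹ v) = v := by rw [← LinearEquiv.mul_apply, mul_inv_cancel]; rfl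
  rw [LinearEquiv.mul_apply, LinearEquiv.mul_apply, ← expand hF O.ortho (y⁻¹ v), map_sum, map_sum]
  refine Finset.sum_congr rfl fun i _ => ?_
  rw [map_smul, map_smul, hg, map_smul, smul_smul]
  congr 1
  have := O.le_iso hy (e i) (y⁻¹ v)
  rw [hv] at this
  rw [this, mul_comm]
  rfl

theorem cd_inv {y : (Fin n → F) ≃ₗ[F] (Fin n → F)} (hy : y ∈ L) (i k : Fin n) :
    cd hF e (y⁻¹ (e i)) k = frob hF (cd hF e (y (e k)) i) := by
  have := O.le_iso hy (e k) (y⁻¹ (e i))
  rw [← LinearEquiv.mul_apply, mul_inv_cancel, one_apply'] at this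
  rw [cd, ← this, cd, (hB_isSymm hF n).eq]

/-- Changing two signs in a frame without zero entries is not monomial. -/
theorem not_mono_two_signs (h2 : (2 : F) ≠ 0) (hn : 5 ≤ n) {x D : (Fin n → F) ≃ₗ[F] (Fin n → F)}
    (hx : x ∈ L) (hDL : D ∈ L) (hne : ∀ p i, cd hF e (x (e i)) p ≠ 0) {a b : Fin n} (hab : a ≠ b)
    (ha : D (e a) = -e a) (hb : D (e b) = -e b) (hD : ∀ k, k ≠ a → k ≠ b → D (e k) = e k) :
    ¬ Mono e (x * D * x⁻¹) := by
  classical
  intro hm
  obtain ⟨σp, c, -, hc⟩ := mono_rep O.ortho (O.le_iso (mul_mem (mul_mem hx hDL) (inv_mem hx))) hm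
  set d : Fin n → F := fun i => if i = a ∨ i = b then -1 else 1 with hd
  have hg : ∀ i, D (e i) = d i • e i := fun i => by
    by_cases h : i = a ∨ i = b
    · rw [hd]; simp only [if_pos h, neg_one_smul]
      rcases h with rfl | rfl
      · exact ha
      · exact hb
    · rw [hd]; simp only [if_neg h, one_smul]
      push Not at h
      exact hD i h.1 h.2
  set u := fun m => cd hF e (x (e a)) m with hu
  set w := fun m => cd hF e (x (e b)) m with hw
  have hz : ∀ p m, m ≠ p → m ≠ σp p → frob hF (u p) * u m + frob hF (w p) * w m = 0 := by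
    intro p m hmp hmσ
    have h1 := O.conj_dg_apply hx (g := 1) (d := 1) (fun i => by simp) (e p)
    rw [mul_one, mul_inv_cancel, one_apply'] at h1
    have hsum : ∑ i, ((1 - d i) * hB hF n (x (e i)) (e p)) • x (e i) = e p - c p • e (σp p) := by
      rw [← hc p, O.conj_dg_apply hx hg]
      nth_rw 2 [h1]
      rw [← Finset.sum_sub_distrib]
      exact Finset.sum_congr rfl fun i _ => by simp only [Pi.one_apply]; module
    have h := congrArg (fun v => cd hF e v m) hsum
    simp only [cd_sub, cd_smul, cd_frame hF O.ortho, if_neg hmp, if_neg hmσ, mul_zero, sub_zero] at h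
    simp only [cd, map_sum, map_smul, smul_eq_mul] at h
    rw [Fintype.sum_eq_add a b hab (fun i hi => by
      rw [hd]; simp only [if_neg (not_or.2 hi)]; ring)] at h
    simp only [hd, if_pos (Or.inl rfl), if_pos (Or.inr rfl)] at h
    rw [← (hB_isSymm hF n).eq (e p) (x (e a)), ← (hB_isSymm hF n).eq (e p) (x (e b))] at h
    refine (mul_eq_zero.1 ?_).resolve_left h2
    simp only [hu, hw, cd]
    linear_combination h
  have key : ∀ p, ∀ m, m ≠ p → m ≠ σp p → w m * frob hF (w p) = -(u m * frob hF (u p)) :=
    fun p m h h' => by linear_combination hz p m h h'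
  -- two positions with disjoint exceptional sets
  obtain ⟨p, -⟩ : ∃ p : Fin n, True := ⟨⟨0, by omega⟩, trivial⟩
  have hinj : Function.Injective σp := σp.injective
  obtain ⟨p₀, hp₀⟩ := σp.surjective p
  obtain ⟨p', hp'⟩ := O.exists_other {p, σp p, p₀} (Finset.card_le_three.trans_lt (by norm_num))
  simp only [Finset.mem_insert, Finset.mem_singleton, not_or] at hp'
  have hσ' : σp p' ≠ p ∧ σp p' ≠ σp p :=
    ⟨fun h => hp'.2.2 (hinj (h.trans hp₀.symm)), fun h => hp'.1 (hinj h)⟩
  have hwp : ∀ i, frob hF (w i) ≠ 0 := fun i => by simpa using hne i b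
  set ρ := -(frob hF (u p) / frob hF (w p)) with hρ
  have h1 : ∀ m, m ≠ p → m ≠ σp p → w m = ρ * u m := fun m hm hm' => by
    refine mul_right_cancel₀ (hwp p) ?_
    rw [key p m hm hm', hρ]
    field_simp [hwp p]
  obtain ⟨m, hm⟩ := exists_other' {p, σp p, p', σp p'} (Finset.card_le_four.trans_lt (by omega))
  simp only [Finset.mem_insert, Finset.mem_singleton, not_or] at hm
  have hρ' : frob hF (u p') = -(ρ * frob hF (w p')) := by
    refine mul_left_cancel₀ (hne m a) ?_
    show u m * _ = u m * _
    linear_combination hz p' m hm.2.2.1 hm.2.2.2 - (frob hF (w p')) * h1 m hm.1 hm.2.1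
  have hall : ∀ i, w i = ρ * u i := fun i => by
    by_cases hi : i ≠ p ∧ i ≠ σp p
    · exact h1 i hi.1 hi.2
    refine mul_right_cancel₀ (hwp p') ?_
    rw [key p' i ?_ ?_, hρ']
    · ring
    all_goals
      intro h
      subst h
      first
        | exact hi ⟨hp'.1, hp'.2.1⟩
        | exact hi ⟨hσ'.1, hσ'.2⟩
  have huw : x (e b) = ρ • x (e a) := cd_ext hF O.ortho fun i => by
    rw [cd_smul]; exact hall i
  have := O.le_iso hx (e a) (e b)
  rw [huw, map_smul, O.le_iso hx, O.ortho a a, O.ortho a b, if_pos rfl, if_neg hab, smul_eq_mul,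
    mul_one] at this
  rw [this, zero_smul] at huw
  exact ne_zero hF O.ortho b (x.injective (by rw [huw, map_zero]))

theorem pairC_of_odd (h2 : (2 : F) ≠ 0) (hq : 3 ≤ q) (hn : (n = 4 ∧ 5 ≤ q) ∨ n = 6 ∨ 10 ≤ n) {x : (Fin n → F) ≃ₗ[F] (Fin n → F)} (hx : x ∈ L)
    (hxM : ¬ Mono e x) : ∃ a b, a ≠ b ∧ PairC hF e L a b := by
  classical
  by_contra hP
  have fixer : ∀ {y : (Fin n → F) ≃ₗ[F] (Fin n → F)}, y ∈ L → ∀ {r : Fin n} {c : F},
      y (e r) = c • e r → Mono e y := fun {y} hy {r} {c} h => by
    by_contra hm; exact hP (O.pairC_of_fixer h2 hq hy hm h)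
  have inv_not : ∀ {y : (Fin n → F) ≃ₗ[F] (Fin n → F)}, y ∈ L → ¬ Mono e y → ¬ Mono e y⁻¹ :=
    fun {y} hy hm h => hm (by
      have := mono_inv O.ortho (inv_mem (O.le_iso hy)) h
      rwa [inv_inv] at this)
  -- an element of order `q + 1`
  obtain ⟨ν, hν, hν2, hν3, hν4⟩ : ∃ ν : F, frob hF ν * ν = 1 ∧ ν * ν ≠ 1 ∧ ν ^ 3 ≠ 1 ∧
      (5 ≤ q → ν ^ 4 ≠ 1) := by
    obtain ⟨g, hg⟩ := IsCyclic.exists_ofOrder_eq_natCard (α := (powMonoidHom (q + 1) : Fˣ →* Fˣ).ker)
    rw [card_norm_one hF] at hg
    have hpow : ∀ k, 0 < k → k ≤ q → (((g : Fˣ) : F)) ^ k ≠ 1 := fun k h0 hk h => by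
      have h' : g ^ k = 1 := Subtype.ext (Units.ext (by simpa using h))
      have := Nat.le_of_dvd h0 (orderOf_dvd_of_pow_eq_one h')
      omega
    refine ⟨((g : Fˣ) : F), ?_, fun h => hpow 2 (by norm_num) (by omega) (by rw [pow_two, h]),
      hpow 3 (by norm_num) hq, fun h5 => hpow 4 (by norm_num) (by omega)⟩
    have := congrArg Units.val (MonoidHom.mem_ker.1 g.2)
    rw [powMonoidHom_apply, Units.val_pow_eq_pow_val, Units.val_one, pow_succ] at this
    rwa [frob_apply]
  -- two zeros in a row
  have key : ∀ {y : (Fin n → F) ≃ₗ[F] (Fin n → F)}, y ∈ L → ∀ {r k l : Fin n}, k ≠ l →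
      cd hF e (y (e k)) r = 0 → cd hF e (y (e l)) r = 0 →
      ∃ S : Finset (Fin n), S.card ≤ 2 ∧ supp hF e (y (e k)) ⊆ S ∧ supp hF e (y (e l)) ⊆ S ∧
        (5 ≤ q → Disjoint (supp hF e (y (e k))) (supp hF e (y (e l)))) := by
    intro y hy r k l hkl hk hl
    set d : Fin n → F := Function.update (Function.update 1 k ν) l (frob hF ν) with hd
    obtain ⟨g, hg, hg1, -⟩ := O.dg_mem d (fun i => by
      rw [hd]
      rcases eq_or_ne i l with rfl | h1
      · rw [Function.update_self, frob_frob]; linear_combination hν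
      rcases eq_or_ne i k with rfl | h1'
      · rw [Function.update_of_ne h1, Function.update_self]; exact hν
      · simp [h1, h1']) (by
      rw [hd, Finset.prod_update_of_mem (Finset.mem_univ l),
        Finset.prod_update_of_mem (by simp [hkl])]
      simp [hν])
    have hdk : d k = ν := by rw [hd, Function.update_of_ne hkl, Function.update_self]
    have hdl : d l = frob hF ν := by rw [hd, Function.update_self]
    have hdo : ∀ i, i ≠ k → i ≠ l → d i = 1 := fun i h1 h1' => by rw [hd]; simp [h1, h1']
    set z := y * g * y⁻¹ with hz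
    have hzm : z ∈ L := mul_mem (mul_mem hy hg) (inv_mem hy)
    set u := y (e k)
    set w := y (e l)
    have hzv : ∀ v, z v = v + ((ν - 1) * hB hF n u v) • u + ((frob hF ν - 1) * hB hF n w v) • w := by
      intro v
      have h1 := O.conj_dg_apply hy (g := 1) (d := 1) (fun i => by simp) v
      rw [mul_one, mul_inv_cancel, one_apply'] at h1
      rw [hz, O.conj_dg_apply hy hg1]
      nth_rw 2 [h1]
      rw [Fintype.sum_eq_add_sum_compl k, Fintype.sum_eq_add_sum_compl k,
        ← Finset.add_sum_erase _ _ (show l ∈ ({k}ᶜ : Finset (Fin n)) by simp [hkl.symm]),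
        ← Finset.add_sum_erase _ _ (show l ∈ ({k}ᶜ : Finset (Fin n)) by simp [hkl.symm]), hdk, hdl,
        Finset.sum_congr rfl fun i hi => show (d i * hB hF n (y (e i)) v) • y (e i) =
          ((1 : Fin n → F) i * hB hF n (y (e i)) v) • y (e i) by
            simp only [Finset.mem_erase, Finset.mem_compl, Finset.mem_singleton] at hi
            rw [hdo i hi.2 hi.1, Pi.one_apply]]
      simp only [Pi.one_apply, u, w]
      module
    set W := Submodule.span F ({u, w} : Set (Fin n → F)) with hWdef
    have hW2 : finrank F W ≤ 2 := finrank_pair_le u w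
    have hzW : ∀ v, z v - v ∈ W := fun v => by
      rw [hzv, add_assoc, add_sub_cancel_left]
      exact add_mem (Submodule.smul_mem _ _ (Submodule.subset_span (by simp)))
        (Submodule.smul_mem _ _ (Submodule.subset_span (by simp)))
    have hzr : z (e r) = (1 : F) • e r := by
      rw [hzv, hB_symm_zero hF hk, hB_symm_zero hF hl, one_smul]; simp
    have heig : ∀ {i : Fin n} {a : F}, d i = a → z (y (e i)) = a • y (e i) := fun {i a} h => by
      rw [hz, LinearEquiv.mul_apply, LinearEquiv.mul_apply, ← LinearEquiv.mul_apply y⁻¹, inv_mul_cancel,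
        one_apply', hg1, map_smul, h]
    obtain ⟨π, c, hc, hπ⟩ := mono_rep O.ortho (O.le_iso hzm) (fixer hzm hzr)
    have hmW : ∀ i, c i • e (π i) - e i ∈ W := fun i => by rw [← hπ]; exact hzW _
    have hcd : ∀ i m, cd hF e (c i • e (π i) - e i) m =
        c i * (if m = π i then 1 else 0) - if m = i then 1 else 0 := fun i m => by
      rw [cd_sub, cd_smul, cd_frame hF O.ortho, cd_frame hF O.ortho]
    have hinv : ∀ i, π (π i) = i := by
      intro i
      by_contra hi
      set a := π i with ha
      set b := π a with hb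
      have hai : a ≠ i := fun h => hi (by rw [hb, h]; exact h)
      have hba : b ≠ a := fun h => hai (π.injective h)
      have hbi : b ≠ i := hi
      have h1i : cd hF e (c i • e a - e i) i ≠ 0 := by
        rw [hcd, if_neg (Ne.symm hai), if_pos rfl]; simp
      have h2b : cd hF e (c a • e b - e a) b ≠ 0 := by
        rw [hcd, if_pos rfl, if_neg hba]; simpa using hc a
      have h1b : cd hF e (c i • e a - e i) b = 0 := by
        rw [hcd, if_neg hba, if_neg hbi]; ring
      by_cases hπb : π b = i
      swap
      · have e1 : π b ≠ a := fun h => hbi (π.injective h)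
        have e2 : π b ≠ b := fun h => hba (π.injective h)
        refine not_three hW2 (hmW i) (hmW a) (hmW b) h1i h2b (k := π b) ?_ ?_ ?_ h1b
        · rw [hcd, if_pos rfl, if_neg e2]; simpa using hc b
        · rw [hcd, if_neg e1, if_neg hπb]; ring
        · rw [hcd, if_neg e2, if_neg e1]; ring
      -- a three-cycle forces `ν ^ 3 = 1`
      have hfix : ∀ m, m ≠ i → m ≠ a → m ≠ b → z (e m) = e m := by
        intro m m1 m2 m3
        rw [hπ]
        by_contra hne
        have hne' : cd hF e (c m • e (π m) - e m) m ≠ 0 := by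
          rw [hcd, if_pos rfl]
          intro h0
          by_cases hpm : m = π m
          · rw [if_pos hpm, mul_one, sub_eq_zero] at h0
            exact hne (by rw [← hpm, h0, one_smul])
          · rw [if_neg hpm] at h0; simp at h0
        refine not_three hW2 (hmW i) (hmW a) (hmW m) h1i h2b hne' ?_ ?_ h1b
        · rw [hcd, if_neg m2, if_neg m1]; ring
        · rw [hcd, if_neg m3, if_neg m2]; ring
      have hprod : c i * c a * c b = 1 := by
        by_contra hne
        have hmem : ((c b * c i * c a) • e b - e b) ∈ W := by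
          have := add_mem (add_mem (W.smul_mem (c b * c i) (hmW a)) (W.smul_mem (c b) (hmW i))) (hmW b)
          rw [hπb] at this
          convert this using 1
          rw [← ha, ← hb]
          module
        have he : cd hF e ((c b * c i * c a) • e b - e b) b ≠ 0 := by
          rw [cd_sub, cd_smul, cd_frame hF O.ortho, if_pos rfl, mul_one]
          exact sub_ne_zero.2 fun h => hne (by linear_combination h)
        refine not_three hW2 hmem (hmW a) (hmW i) (i := b) (j := a) (k := i) he ?_ h1i ?_ ?_ ?_
        · rw [hcd, if_neg (Ne.symm hba), if_pos rfl]; simp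
        · rw [cd_sub, cd_smul, cd_frame hF O.ortho, if_neg (Ne.symm hbi)]; ring
        · rw [hcd, if_neg (Ne.symm hbi), if_neg (Ne.symm hai)]; ring
        · rw [cd_sub, cd_smul, cd_frame hF O.ortho, if_neg (Ne.symm hba)]; ring
      have hz3 : z * z * z = 1 := by
        refine lin_ext hF O.ortho fun m => ?_
        have z1 : z (e i) = c i • e a := hπ i
        have z2 : z (e a) = c a • e b := hπ a
        have z3 : z (e b) = c b • e i := by rw [hπ b, hπb]
        rw [LinearEquiv.mul_apply, LinearEquiv.mul_apply, one_apply']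
        rcases eq_or_ne m i with rfl | m1
        · rw [z1, map_smul, z2, smul_smul, map_smul, z3, smul_smul, hprod, one_smul]
        rcases eq_or_ne m a with rfl | m2
        · rw [z2, map_smul, z3, smul_smul, map_smul, z1, smul_smul,
            show c a * c b * c i = 1 by linear_combination hprod, one_smul]
        rcases eq_or_ne m b with rfl | m3
        · rw [z3, map_smul, z1, smul_smul, map_smul, z2, smul_smul,
            show c b * c i * c a = 1 by linear_combination hprod, one_smul]
        · rw [hfix m m1 m2 m3, hfix m m1 m2 m3, hfix m m1 m2 m3]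
      have h3 := congrArg (fun f : (Fin n → F) ≃ₗ[F] (Fin n → F) => f u) hz3
      simp only [LinearEquiv.mul_apply, one_apply', heig hdk, map_smul, smul_smul, u] at h3
      have hu0 : y (e k) ≠ 0 := fun h => ne_zero hF O.ortho k (y.injective (by rw [h, map_zero]))
      have : (ν * ν * ν - 1) • y (e k) = 0 := by rw [sub_smul, mul_assoc, h3, one_smul, sub_self]
      rw [smul_eq_zero, sub_eq_zero] at this
      exact hν3 (by rw [← this.resolve_right hu0]; ring)
    set D : Fin n → F := fun i => c i * c (π i) with hD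
    have hz2 : ∀ i, z (z (e i)) = D i • e i := fun i => by
      rw [hπ, map_smul, hπ, hinv, smul_smul]
    set S : Finset (Fin n) := {i | D i ≠ 1} with hS
    have hsup : ∀ {i : Fin n} {a : F}, d i = a → frob hF a * a = 1 → a * a ≠ 1 →
        supp hF e (y (e i)) ⊆ S := by
      intro i a hi ha ha2 m hm
      rw [mem_supp] at hm
      simp only [hS, Finset.mem_filter, Finset.mem_univ, true_and]
      intro hDm
      have h1 := (O.le_iso hzm (z (e m)) (z (y (e i)))).trans (O.le_iso hzm (e m) (y (e i)))
      rw [heig hi, map_smul z, heig hi, hz2, hDm, one_smul, smul_smul, map_smul, smul_eq_mul] at h1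
      exact ha2 (mul_right_cancel₀ hm (by rw [one_mul]; exact h1))
    refine ⟨S, ?_, hsup hdk hν hν2,
      hsup hdl (by rw [frob_frob]; linear_combination hν) (fun h => hν2 ?_), fun h5 =>
        Finset.disjoint_left.2 fun m hmk hml => hν4 h5 ?_⟩
    · by_contra hc3
      push Not at hc3
      obtain ⟨i, hi, j, hj, m, hm, hij, him, hjm⟩ := Finset.two_lt_card.1 hc3
      have hmem : ∀ i ∈ S, e i ∈ W := fun i hi => by
        simp only [hS, Finset.mem_filter, Finset.mem_univ, true_and] at hi
        have : z (z (e i)) - e i ∈ W := by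
          rw [show z (z (e i)) - e i = (z (z (e i)) - z (e i)) + (z (e i) - e i) by abel]
          exact add_mem (hzW _) (hzW _)
        rw [hz2, show D i • e i - e i = (D i - 1) • e i by module] at this
        exact (W.smul_mem_iff (sub_ne_zero.2 hi)).1 this
      refine not_three (hF := hF) (e := e) hW2 (hmem i hi) (hmem j hj) (hmem m hm) (i := i) (j := j) (k := m) ?_ ?_ ?_ ?_ ?_ ?_ <;>
        simp [cd_frame hF O.ortho, hij, hij.symm, him, him.symm, hjm, hjm.symm]
    · have := congrArg (frob hF) h
      simpa [frob_frob] using this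
    · have hsq : ∀ {i : Fin n} {a : F}, d i = a → cd hF e (y (e i)) m ≠ 0 →
          frob hF (D m) * (a * a) = 1 := by
        intro i a hi hne
        have h1 := (O.le_iso hzm (z (e m)) (z (y (e i)))).trans (O.le_iso hzm (e m) (y (e i)))
        rw [heig hi, map_smul z, heig hi, hz2, smul_smul, map_smul, LinearMap.map_smulₛₗ,
          LinearMap.smul_apply, smul_eq_mul, smul_eq_mul] at h1
        refine mul_right_cancel₀ hne ?_
        simp only [cd]
        linear_combination h1
      have e1 := hsq hdk (mem_supp.1 hmk)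
      have e2 := hsq hdl (mem_supp.1 hml)
      have e3 : frob hF ν * frob hF ν * (ν * ν) = 1 := by linear_combination (frob hF ν * ν + 1) * hν
      have e4 : ν * ν = frob hF ν * frob hF ν := by
        refine mul_left_cancel₀ (a := frob hF (D m)) (fun h => by simp [h] at e1) (e1.trans e2.symm)
      rw [show ν ^ 4 = ν * ν * (ν * ν) by ring]
      nth_rw 1 [e4]
      exact e3
  -- a column supported on one coordinate
  have col : ∀ {y : (Fin n → F) ≃ₗ[F] (Fin n → F)}, y ∈ L → ¬ Mono e y → ∀ k,
      2 ≤ (supp hF e (y (e k))).card := by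
    intro y hy hym k
    by_contra hlt
    obtain ⟨i, c, hi⟩ := eq_smul_of_supp O.ortho (by omega) (Nat.le_of_lt_succ (not_le.1 hlt))
    rcases eq_or_ne i k with rfl | hik
    · exact hym (fixer hy hi)
    obtain ⟨r, hr⟩ := O.exists_other {i, k} (Finset.card_le_two.trans_lt (by norm_num))
    simp only [Finset.mem_insert, Finset.mem_singleton, not_or] at hr
    obtain ⟨s, hs, s1, s2, s3, s4⟩ := O.swap_mem hik (Ne.symm hr.1) (Ne.symm hr.2) (c := 1) (by simp)
    rw [map_one] at s2
    rw [one_smul] at s1 s2
    have hm := fixer (mul_mem hy hs) (r := i) (c := c) (by rw [LinearEquiv.mul_apply, s1, hi])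
    refine hym fun m => ?_
    rcases eq_or_ne m k with rfl | m1
    · exact ⟨i, c, hi⟩
    rcases eq_or_ne m i with rfl | m2
    · obtain ⟨p, p', hp⟩ := hm k
      exact ⟨p, p', by rwa [LinearEquiv.mul_apply, s2] at hp⟩
    rcases eq_or_ne m r with rfl | m3
    · obtain ⟨p, p', hp⟩ := hm m
      refine ⟨p, -p', ?_⟩
      rw [LinearEquiv.mul_apply, s3, map_neg, neg_eq_iff_eq_neg] at hp
      rw [hp, neg_smul]
    · obtain ⟨p, p', hp⟩ := hm m
      exact ⟨p, p', by rwa [LinearEquiv.mul_apply, s4 m m2 m1 m3] at hp⟩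
  -- three zeros
  have three : ∀ {y : (Fin n → F) ≃ₗ[F] (Fin n → F)}, y ∈ L → ¬ Mono e y → ∀ {r k l m : Fin n},
      k ≠ l → k ≠ m → l ≠ m → cd hF e (y (e k)) r = 0 → cd hF e (y (e l)) r = 0 →
      cd hF e (y (e m)) r = 0 → False := by
    intro y hy hym r k l m hkl hkm hlm hk hl hm
    obtain ⟨S, hS, hSk, hSl, -⟩ := key hy hkl hk hl
    obtain ⟨S', hS', hS'k, hS'm, -⟩ := key hy hkm hk hm
    have h2' := col hy hym k
    have e1 := Finset.eq_of_subset_of_card_le hSk (hS.trans h2')
    have e2 := Finset.eq_of_subset_of_card_le hS'k (hS'.trans h2')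
    subst e1 e2
    set T : Finset (Fin n) := {k, l, m}
    set S := supp hF e (y (e k))
    have hli : LinearIndependent F fun i : T => y (e i) := by
      refine Fintype.linearIndependent_iff.2 fun g hg i => ?_
      have h1 := congrArg (hB hF n (y (e i))) hg
      simp only [map_sum, map_smul, smul_eq_mul, map_zero] at h1
      rw [Finset.sum_eq_single i (fun p _ hp => by
          rw [O.le_iso hy, O.ortho, if_neg (fun h => hp (Subtype.ext h).symm), mul_zero])
        (fun h => absurd (Finset.mem_univ i) h), O.le_iso hy, O.ortho, if_pos rfl, mul_one] at h1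
      exact h1
    have hle : Submodule.span F (Set.range fun i : T => y (e i)) ≤
        Submodule.span F ((S.image e : Finset (Fin n → F)) : Set (Fin n → F)) := by
      rw [Submodule.span_le]
      rintro _ ⟨⟨i, hi⟩, rfl⟩
      have hsub : supp hF e (y (e i)) ⊆ S := by
        simp only [T, Finset.mem_insert, Finset.mem_singleton] at hi
        rcases hi with rfl | rfl | rfl
        · exact Finset.Subset.rfl
        · exact hSl
        · exact hS'm
      show y (e i) ∈ _
      rw [← expand hF O.ortho (y (e i))]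
      refine Submodule.sum_mem _ fun p _ => ?_
      by_cases hp : cd hF e (y (e i)) p = 0
      · rw [hp, zero_smul]; exact Submodule.zero_mem _
      · exact Submodule.smul_mem _ _ (Submodule.subset_span
          (Finset.mem_image_of_mem e (hsub (mem_supp.2 hp))))
    have h1 := (Submodule.finrank_mono hle).trans
      ((finrank_span_finset_le_card _).trans Finset.card_image_le)
    rw [finrank_span_eq_card hli, Fintype.card_coe,
      show T.card = 3 from Finset.card_eq_three.2 ⟨k, l, m, hkl, hkm, hlm, rfl⟩] at h1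
    omega
  have two : ∀ {y : (Fin n → F) ≃ₗ[F] (Fin n → F)}, y ∈ L → ¬ Mono e y → ∀ {r k l : Fin n},
      k ≠ l → cd hF e (y (e k)) r = 0 → cd hF e (y (e l)) r = 0 → False := by
    intro y hy hym r k l hkl hk hl
    obtain ⟨S, hS, hSk, hSl, hdis⟩ := key hy hkl hk hl
    rcases hn with ⟨-, h5⟩ | hn
    · have e1 := Finset.card_le_card (Finset.union_subset hSk hSl)
      rw [Finset.card_union_of_disjoint (hdis h5)] at e1
      have := col hy hym k
      have := col hy hym l
      omega
    have hc : 2 < Sᶜ.card := by rw [Finset.card_compl, Fintype.card_fin]; omega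
    obtain ⟨i, hi, j, hj, m, hm, hij, him, hjm⟩ := Finset.two_lt_card.1 hc
    have hz : ∀ i ∈ Sᶜ, cd hF e (y⁻¹ (e i)) k = 0 := fun i hi => by
      rw [O.cd_inv hy, map_eq_zero]
      by_contra h
      exact Finset.mem_compl.1 hi (hSk (mem_supp.2 h))
    exact three (inv_mem hy) (inv_not hy hym) hij him hjm (hz i hi) (hz j hj) (hz m hm)
  have one : ∀ {y : (Fin n → F) ≃ₗ[F] (Fin n → F)}, y ∈ L → ¬ Mono e y → ∀ {r k : Fin n},
      cd hF e (y (e k)) r = 0 → False := by
    intro y hy hym r k hk
    set u := y (e k)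
    have hu : ∀ i, i ≠ r → cd hF e u i ≠ 0 := fun i hi h => by
      refine two (inv_mem hy) (inv_not hy hym) (r := k) hi ?_ ?_ <;> rw [O.cd_inv hy, map_eq_zero]
      · exact h
      · exact hk
    rcases le_or_gt n q with hnq | hnq
    · -- scalars of order not dividing `n`
      obtain ⟨c, hc, hcn⟩ := exists_normOne hF (Polynomial.nthRoots n (1 : F)).toFinset
        (((Multiset.toFinset_card_le _).trans (Polynomial.card_nthRoots n 1)).trans_lt (by omega))
      rw [Multiset.mem_toFinset, Polynomial.mem_nthRoots (by omega)] at hcn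
      have hc0 : c ≠ 0 := fun h => by simp [h] at hc
      set dk : F := (c ^ (n - 1))⁻¹ with hdk
      obtain ⟨g, hg, hg1, -⟩ := O.dg_mem (Function.update (fun _ => c) k dk) (fun i => by
        rcases eq_or_ne i k with rfl | h
        · rw [Function.update_self, hdk, map_inv₀, map_pow, ← mul_inv, ← mul_pow, hc, one_pow, inv_one]
        · rw [Function.update_of_ne h]; exact hc) (by
        rw [Finset.prod_update_of_mem (Finset.mem_univ k), Finset.prod_const,
          Finset.card_sdiff_of_subset (Finset.subset_univ _), Finset.card_univ, Fintype.card_fin,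
          Finset.card_singleton, hdk, inv_mul_cancel₀ (pow_ne_zero _ hc0)])
      set h := y * g * y⁻¹ with hh
      have hhm : h ∈ L := mul_mem (mul_mem hy hg) (inv_mem hy)
      have hv : ∀ v, h v = c • v + ((dk - c) * hB hF n u v) • u := by
        intro v
        have h1 := O.conj_dg_apply hy (g := 1) (d := 1) (fun i => by simp) v
        rw [mul_one, mul_inv_cancel, one_apply'] at h1
        rw [hh, O.conj_dg_apply hy hg1]
        nth_rw 2 [h1]
        rw [Finset.smul_sum, Fintype.sum_eq_add_sum_compl k, Fintype.sum_eq_add_sum_compl k,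
          Function.update_self, Finset.sum_congr rfl fun i hi =>
            show (Function.update (fun _ => c) k dk i * hB hF n (y (e i)) v) • y (e i) =
              c • (((1 : Fin n → F) i * hB hF n (y (e i)) v) • y (e i)) by
            rw [Function.update_of_ne (by simpa using hi), Pi.one_apply, one_mul, smul_smul]]
        simp only [Pi.one_apply, u]
        module
      have hm := fixer hhm (r := r) (c := c) (by rw [hv, hB_symm_zero hF hk]; simp)
      have hne : dk - c ≠ 0 := by
        rw [sub_ne_zero, hdk]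
        intro e0
        have := congrArg (· * c ^ (n - 1)) e0
        simp only [inv_mul_cancel₀ (pow_ne_zero _ hc0), ← pow_succ'] at this
        rw [show n - 1 + 1 = n by omega] at this
        exact hcn this.symm
      obtain ⟨i, hi⟩ := O.exists_other {r} (by simp)
      rw [Finset.mem_singleton] at hi
      obtain ⟨j, c', hj⟩ := hm i
      obtain ⟨m, hm'⟩ := O.exists_other {r, i, j} (Finset.card_le_three.trans_lt (by norm_num))
      simp only [Finset.mem_insert, Finset.mem_singleton, not_or] at hm'
      have h1 := congrArg (fun v => cd hF e v m) hj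
      simp only [hv, cd_add, cd_smul, cd_frame hF O.ortho, if_neg hm'.2.1, if_neg hm'.2.2, mul_zero,
        zero_add] at h1
      refine mul_ne_zero (mul_ne_zero hne fun h => hu i hi ?_) (hu m hm'.1) h1
      exact hB_symm_zero hF h
    · -- two columns of equal norm in row `r`
      set a := y⁻¹ (e r) with ha
      have hak : cd hF e a k = 0 := by rw [ha, O.cd_inv hy, map_eq_zero]; exact hk
      have ha0 : ∀ i, i ≠ k → cd hF e a i ≠ 0 := fun i hi h => by
        rw [ha, O.cd_inv hy, map_eq_zero] at h
        exact two hy hym hi h hk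
      obtain ⟨i, hi, j, hj, hij, hN⟩ : ∃ i ∈ ({k}ᶜ : Finset (Fin n)), ∃ j ∈ ({k}ᶜ : Finset (Fin n)),
          i ≠ j ∧ frob hF (cd hF e a i) * cd hF e a i = frob hF (cd hF e a j) * cd hF e a j := by
        refine Finset.exists_ne_map_eq_of_card_lt_of_maps_to (t := (fixedSet hF).erase 0) ?_ ?_
        · have h1 := Finset.card_erase_add_one (show (0 : F) ∈ fixedSet hF by simp [mem_fixed])
          have h2 := card_fixed_le hF
          rw [Finset.card_compl, Finset.card_singleton, Fintype.card_fin]
          omega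
        · intro p hp
          simp only [Finset.coe_compl, Finset.coe_singleton, Set.mem_compl_iff, Set.mem_singleton_iff] at hp
          simp only [Finset.coe_erase, Set.mem_diff, Finset.mem_coe, mem_fixed, Set.mem_singleton_iff]
          exact ⟨by rw [map_mul, frob_frob]; ring, mul_ne_zero (by simpa using ha0 p hp) (ha0 p hp)⟩
      simp only [Finset.mem_compl, Finset.mem_singleton] at hi hj
      set c := cd hF e a j / cd hF e a i with hc
      have hcn : frob hF c * c = 1 := by
        have : frob hF (cd hF e a i) ≠ 0 := by simpa using ha0 i hi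
        rw [hc, map_div₀, div_mul_div_comm, div_eq_one_iff_eq (mul_ne_zero this (ha0 i hi)), hN]
      obtain ⟨g, hg, g1, g2, g3, g4⟩ := O.swap_mem hij hi hj hcn
      have hgv : ∀ v, g v = v + (cd hF e v i - frob hF c * cd hF e v j) • (c • e j - e i) +
          (-2 * cd hF e v k) • e k := by
        intro v
        conv_lhs => rw [← expand hF O.ortho v]
        rw [map_sum]
        conv_rhs => arg 1; arg 1; rw [← expand hF O.ortho v]
        have key : ∀ p, g (cd hF e v p • e p) = cd hF e v p • e p +
            (if p = i then cd hF e v i • (c • e j - e i) else 0) +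
            (if p = j then (-(frob hF c * cd hF e v j)) • (c • e j - e i) else 0) +
            (if p = k then (-2 * cd hF e v k) • e k else 0) := by
          intro p
          rw [map_smul]
          rcases eq_or_ne p i with rfl | p1
          · rw [g1, if_pos rfl, if_neg hij, if_neg hi]; module
          rcases eq_or_ne p j with rfl | p2
          · rw [g2, if_pos rfl, if_neg p1, if_neg hj]
            match_scalars <;> first
              | ring1
              | linear_combination (cd hF e v p) * hcn
              | linear_combination (-cd hF e v p) * hcn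
          rcases eq_or_ne p k with rfl | p3
          · rw [g3, if_pos rfl, if_neg p1, if_neg p2]; module
          · rw [g4 p p1 p2 p3, if_neg p1, if_neg p2, if_neg p3]; module
        rw [Finset.sum_congr rfl fun p _ => key p, Finset.sum_add_distrib, Finset.sum_add_distrib,
          Finset.sum_add_distrib, Finset.sum_ite_eq', Finset.sum_ite_eq', Finset.sum_ite_eq',
          if_pos (Finset.mem_univ _), if_pos (Finset.mem_univ _), if_pos (Finset.mem_univ _)]
        module
      set z := y * g * y⁻¹ with hz
      have hzm : z ∈ L := mul_mem (mul_mem hy hg) (inv_mem hy)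
      have hzr : z (e r) = (1 : F) • e r := by
        rw [hz, LinearEquiv.mul_apply, LinearEquiv.mul_apply, ← ha, hgv, hak,
          show cd hF e a i - frob hF c * cd hF e a j = 0 by
            have : cd hF e a j = c * cd hF e a i := by rw [hc, div_mul_cancel₀ _ (ha0 i hi)]
            rw [this]; linear_combination (-cd hF e a i) * hcn]
        rw [mul_zero, zero_smul, zero_smul, add_zero, add_zero, ha, ← LinearEquiv.mul_apply, mul_inv_cancel,
          one_smul]
        rfl
      obtain ⟨π, cz, hcz, hπ⟩ := mono_rep O.ortho (O.le_iso hzm) (fixer hzm hzr)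
      set W := Submodule.span F ({y (c • e j - e i), u} : Set (Fin n → F))
      have hzW : ∀ v, z v - v ∈ W := fun v => by
        have hv : y (y⁻¹ v) = v := by rw [← LinearEquiv.mul_apply, mul_inv_cancel]; rfl
        rw [hz, LinearEquiv.mul_apply, LinearEquiv.mul_apply, hgv, map_add, map_add, map_smul, map_smul,
          hv, add_assoc, add_sub_cancel_left]
        exact add_mem (Submodule.smul_mem _ _ (Submodule.subset_span (by simp)))
          (Submodule.smul_mem _ _ (Submodule.subset_span (by simp [u])))
      set M : Finset (Fin n) := {p | z (e p) ≠ e p} with hM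
      have hMc : M.card ≤ 4 := by
        by_contra hc5
        push Not at hc5
        have hmW : ∀ p, cz p • e (π p) - e p ∈ W := fun p => by rw [← hπ]; exact hzW _
        have hd : ∀ p ∈ M, cd hF e (cz p • e (π p) - e p) p ≠ 0 := by
          intro p hp h0
          simp only [hM, Finset.mem_filter, Finset.mem_univ, true_and] at hp
          rw [cd_sub, cd_smul, cd_frame hF O.ortho, cd_frame hF O.ortho, if_pos rfl] at h0
          by_cases hpp : p = π p
          · rw [if_pos hpp, mul_one, sub_eq_zero] at h0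
            exact hp (by rw [hπ, ← hpp, h0, one_smul])
          · rw [if_neg hpp, mul_zero, zero_sub, neg_eq_zero] at h0; exact one_ne_zero h0
        have ho : ∀ p m, m ≠ p → m ≠ π p → cd hF e (cz p • e (π p) - e p) m = 0 := fun p m h h' => by
          rw [cd_sub, cd_smul, cd_frame hF O.ortho, cd_frame hF O.ortho, if_neg h, if_neg h']; ring
        obtain ⟨p1, hp1⟩ := Finset.card_pos.1 (by omega : 0 < M.card)
        obtain ⟨p2, hp2, hp2'⟩ := Finset.exists_mem_notMem_of_card_lt_card
          (show ({p1, π p1} : Finset (Fin n)).card < M.card from Finset.card_le_two.trans_lt (by omega))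
        obtain ⟨p3, hp3, hp3'⟩ := Finset.exists_mem_notMem_of_card_lt_card
          (show ({p1, π p1, p2, π p2} : Finset (Fin n)).card < M.card from
            Finset.card_le_four.trans_lt (by omega))
        simp only [Finset.mem_insert, Finset.mem_singleton, not_or] at hp2' hp3'
        exact not_three (finrank_pair_le _ _) (hmW p1) (hmW p2) (hmW p3) (hd p1 hp1) (hd p2 hp2)
          (hd p3 hp3) (ho _ _ hp3'.1 hp3'.2.1) (ho _ _ hp3'.2.2.1 hp3'.2.2.2) (ho _ _ hp2'.1 hp2'.2)
      obtain ⟨p, hp⟩ := exists_other' (insert r M) ((Finset.card_insert_le _ _).trans_lt (by omega))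
      simp only [Finset.mem_insert, not_or, hM, Finset.mem_filter, Finset.mem_univ, true_and, not_not] at hp
      have hzu : z u = -u := by
        rw [hz, LinearEquiv.mul_apply, LinearEquiv.mul_apply, ← LinearEquiv.mul_apply y⁻¹, inv_mul_cancel,
          one_apply', g3, map_neg]
      have h1 := O.le_iso hzm (e p) u
      rw [hp.2, hzu, map_neg, neg_eq_iff_add_eq_zero, ← two_mul] at h1
      exact hu p hp.1 ((mul_eq_zero.1 h1).resolve_left h2)
  -- no zero at all
  obtain ⟨r⟩ : Nonempty (Fin n) := ⟨⟨0, by omega⟩⟩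
  obtain ⟨s, hs⟩ := O.exists_other {r} (by simp)
  rw [Finset.mem_singleton] at hs
  have hne : ∀ p i, cd hF e (x (e i)) p ≠ 0 := fun p i h => one hx hxM h
  rcases hn with ⟨h4, h5⟩ | h6 | hn
  · -- dimension four
    set v := x⁻¹ (e r) with hv
    have hxv : x v = e r := by rw [hv, ← LinearEquiv.mul_apply x, mul_inv_cancel, one_apply']
    have hv0 : ∀ i, cd hF e v i ≠ 0 := fun i => by rw [hv, O.cd_inv hx]; simpa using hne r i
    have hvv : hB hF n v v = 1 := by rw [← O.le_iso hx v v, hxv, O.ortho, if_pos rfl]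
    obtain ⟨H, hH, hH0, hHd⟩ := O.four_perp h4 h2 hν hν2 (hν4 h5) hv0 hvv
    have hcol : ∀ i, ∃ (s : Fin n) (c : F), s ≠ r ∧ c ≠ 0 ∧ H i v = c • x⁻¹ (e s) := by
      intro i
      have hzm : x * H i * x⁻¹ ∈ L := mul_mem (mul_mem hx (hH i)) (inv_mem hx)
      have h0 : cd hF e ((x * H i * x⁻¹) (e r)) r = 0 := by
        rw [LinearEquiv.mul_apply, LinearEquiv.mul_apply, ← hv, cd, ← hH0 i, ← O.le_iso hx v (H i v),
          hxv]
      by_contra hno
      refine one hzm (fun hm => ?_) h0
      obtain ⟨s, c, hc⟩ := hm r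
      have hc0 : c ≠ 0 := fun h => by
        rw [h, zero_smul, ← map_zero (x * H i * x⁻¹)] at hc
        exact ne_zero hF O.ortho r ((x * H i * x⁻¹).injective hc)
      refine hno ⟨s, c, fun h => hc0 ?_, hc0, ?_⟩
      · rw [hc, h, cd_smul, cd_frame hF O.ortho, if_pos rfl, mul_one] at h0
        exact h0
      · rw [LinearEquiv.mul_apply, LinearEquiv.mul_apply, ← hv] at hc
        rw [← map_smul, ← hc, ← LinearEquiv.mul_apply x⁻¹, inv_mul_cancel, one_apply']
    choose S C hSr hC hS using hcol
    obtain ⟨i, -, j, -, hij, hSij⟩ := Finset.exists_ne_map_eq_of_card_lt_of_maps_to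
      (s := (Finset.univ : Finset (Fin 4))) (t := ({r}ᶜ : Finset (Fin n))) (f := S)
      (by rw [Finset.card_compl, Finset.card_singleton, Fintype.card_fin, Finset.card_univ,
        Fintype.card_fin]; omega) (fun i _ => by simp [hSr i])
    rcases lt_or_gt_of_ne hij with h | h
    · exact hHd i j h (C j / C i) (by rw [hS, hS, hSij, smul_smul, div_mul_cancel₀ _ (hC i)])
    · exact hHd j i h (C i / C j) (by rw [hS, hS, hSij, smul_smul, div_mul_cancel₀ _ (hC j)])
  · -- dimension six
    set v := x⁻¹ (e r) with hv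
    have hv0 : ∀ i, cd hF e v i ≠ 0 := fun i => by rw [hv, O.cd_inv hx]; simpa using hne r i
    obtain ⟨g, hg, g', hg', hg0, hg0', a, b, hab, hga, hgb, hgo⟩ := O.exists_pair_six h6 hv0
    have zero : ∀ {g : (Fin n → F) ≃ₗ[F] (Fin n → F)}, g ∈ L → hB hF n v (g v) = 0 →
        cd hF e ((x * g * x⁻¹) (e r)) r = 0 := by
      intro g hg h
      rw [LinearEquiv.mul_apply, LinearEquiv.mul_apply, ← hv, cd, ← h, ← O.le_iso hx v (g v)]
      rw [show x v = e r by rw [hv, ← LinearEquiv.mul_apply x, mul_inv_cancel, one_apply']]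
    refine one (mul_mem (mul_mem hx hg) (inv_mem hx)) (fun hm => ?_) (zero hg hg0)
    refine one (mul_mem (mul_mem hx hg') (inv_mem hx)) (fun hm' => ?_) (zero hg' hg0')
    have hs1 : ∀ i, (g⁻¹ * g') (e i) = g⁻¹ (g' (e i)) := fun i => rfl
    have hgi : ∀ i, g⁻¹ (g (e i)) = e i := fun i => by
      rw [← LinearEquiv.mul_apply, inv_mul_cancel, one_apply']
    refine O.not_mono_two_signs h2 (by omega) hx (mul_mem (inv_mem hg) hg') hne hab (D := g⁻¹ * g')
      (by rw [hs1, hga, map_neg, hgi]) (by rw [hs1, hgb, map_neg, hgi])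
      (fun i hia hib => by rw [hs1, hgo i hia hib, hgi]) ?_
    have hmi := mono_inv O.ortho (O.le_iso (mul_mem (mul_mem hx hg) (inv_mem hx))) hm
    intro i
    obtain ⟨j, c₁, h1⟩ := hm' i
    obtain ⟨k, c₂, h2⟩ := hmi j
    refine ⟨k, c₁ * c₂, ?_⟩
    rw [show x * (g⁻¹ * g') * x⁻¹ = (x * g * x⁻¹)⁻¹ * (x * g' * x⁻¹) by group,
      LinearEquiv.mul_apply, h1, map_smul, h2, smul_smul]
  let U := (powMonoidHom (q + 1) : Fˣ →* Fˣ).ker
  let ε : U →* F := (Units.coeHom F).comp U.subtype
  haveI : Fintype U := Fintype.ofFinite _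
  have hε : Function.Injective ε := fun a b h => Subtype.ext (Units.ext h)
  have hεn : ∀ d, frob hF (ε d) * ε d = 1 := fun d => by
    have h := congrArg Units.val (MonoidHom.mem_ker.1 d.2)
    rw [powMonoidHom_apply, Units.val_pow_eq_pow_val, Units.val_one, pow_succ] at h
    rwa [frob_apply]
  set bad : Finset (Fin n → U) := (Finset.univ ×ˢ Finset.univ : Finset (Fin n × U)).biUnion fun p =>
    {d | ∀ i, ε (d i) * cd hF e (x⁻¹ (e s)) i = ε p.2 * cd hF e (x⁻¹ (e p.1)) i} with hbad
  have hbadc : bad.card ≤ Fintype.card (Fin n) ^ 2 * (q + 1) ^ 2 := by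
    refine Finset.card_biUnion_le.trans ((Finset.sum_le_card_nsmul _ _ 1 fun p _ => ?_).trans ?_)
    · refine Finset.card_le_one.2 fun d hd d' hd' => ?_
      simp only [Finset.mem_filter, Finset.mem_univ, true_and] at hd hd'
      refine funext fun i => hε (mul_right_cancel₀ ?_ ((hd i).trans (hd' i).symm))
      rw [O.cd_inv hx]
      simpa using hne s i
    · rw [Finset.card_product, Finset.card_univ, Finset.card_univ, Fintype.card_fin, smul_eq_mul, mul_one,
        ← Nat.card_eq_fintype_card, card_norm_one hF]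
      exact Nat.mul_le_mul (Nat.le_self_pow two_ne_zero _) (Nat.le_self_pow two_ne_zero _)
  obtain ⟨d, hd, hdp, hds⟩ := Count.exists_avoid (frob hF) ε hε hεn (by omega) hF
    (by rw [← Nat.card_eq_fintype_card]; exact card_norm_one hF) (by rw [Fintype.card_fin]; exact hn)
    (fun i => cd hF e (x (e i)) r * frob hF (cd hF e (x (e i)) s))
    (fun i => mul_ne_zero (hne r i) (by simpa using hne s i)) bad hbadc
  obtain ⟨g, hg, hg1, hg2⟩ := O.dg_mem (fun i => ε (d i)) (fun i => hεn _) (by rw [← map_prod, hdp, map_one])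
  have hzm : x * g * x⁻¹ ∈ L := mul_mem (mul_mem hx hg) (inv_mem hx)
  refine one hzm (fun hm => hd ?_) (r := r) (k := s) ?_
  · obtain ⟨s', c, hc⟩ := hm s
    have hcn : frob hF c * c = 1 := by
      have h := O.le_iso hzm (e s) (e s)
      simp only [hc, map_smul, LinearMap.map_smulₛₗ, LinearMap.smul_apply, O.ortho _ _, if_pos,
        smul_eq_mul, RingHom.id_apply, mul_one] at h
      linear_combination h
    have hc0 : c ≠ 0 := fun h => by simp [h] at hcn
    have hγ : Units.mk0 c hc0 ∈ U := by
      rw [MonoidHom.mem_ker]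
      refine Units.ext ?_
      rw [powMonoidHom_apply, Units.val_pow_eq_pow_val, Units.val_mk0, Units.val_one, pow_succ,
        ← frob_apply hF, hcn]
    rw [hbad, Finset.mem_biUnion]
    refine ⟨(s', ⟨_, hγ⟩), by simp, ?_⟩
    simp only [Finset.mem_filter, Finset.mem_univ, true_and]
    intro i
    rw [LinearEquiv.mul_apply, LinearEquiv.mul_apply] at hc
    have h := congrArg (fun v => cd hF e (x⁻¹ v) i) hc
    simp only [← LinearEquiv.mul_apply x⁻¹ x, inv_mul_cancel, one_apply', map_smul,
      cd_smul, hg2] at h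
    exact h
  · rw [O.conj_dg_apply hx hg1]
    simp only [cd, map_sum, map_smul, smul_eq_mul]
    rw [← hds]
    refine Finset.sum_congr rfl fun i _ => ?_
    rw [← (hB_isSymm hF n).eq (e s) (x (e i))]
    simp only [cd]
    ring

end Over

end Cfsg.Lib.Linear.UDec
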