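import Cfsg.Agent.Lib.Linear.UDec.Basic

/-!
# From one transvection to all transvections with the same centre
-/

set_option autoImplicit false

namespace Cfsg.Lib.Linear.UDec

open Module
open Cfsg.Lib.Linear Cfsg.Lib.Linear.Herm

variable {F : Type*} [Field F] [Fintype F] {q n : ℕ} {hF : Fintype.card F = q ^ 2}
  {e : Fin n → (Fin n → F)} {L : Subgroup ((Fin n → F) ≃ₗ[F] (Fin n → F))}

/-- A transvection whose centre meets `e b` and misses `e r` gives all with that centre, unless its
parameter is the exceptional one. -/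
theorem Over.centre_of_tv (O : Over hF e L) {v : Fin n → F} (hv : hB hF n v v = 0) {b r : Fin n}
    (hb : cd hF e v b ≠ 0) (hr : cd hF e v r = 0) {α : F} (hα : Tv hF L v α) (hα0 : α ≠ 0)
    (hne : α * (frob hF (cd hF e v b) * cd hF e v b) ≠ 1) : UMax.Centre hF L v := by
  classical
  have hbr : b ≠ r := fun h => hb (h ▸ hr)
  set P : F := frob hF (cd hF e v b) * cd hF e v b with hP
  have hP0 : P ≠ 0 := mul_ne_zero (by simpa using hb) hb
  have hPf : frob hF P = P := by rw [hP, map_mul, frob_frob]; ring
  have hαt := tv_trace hF hv hα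
  set a : F := α * P with ha
  have hat : a + frob hF a = 0 := by
    rw [ha, map_mul, hPf]; linear_combination P * hαt
  have hb0 : a * a - a ≠ 0 := by
    rw [← mul_sub_one]
    exact mul_ne_zero (mul_ne_zero hα0 hP0) (sub_ne_zero.2 hne)
  have hbc : frob hF (a * a - a) = a * a + a := by
    rw [map_sub, map_mul, eq_neg_of_add_eq_zero_right hat]; ring
  -- elements of `L` scaling `v`
  have scale : ∀ z : F, frob hF z * z = 1 → ∃ g ∈ L, ∃ t : F, g v = t • v ∧
      frob hF t * t = (1 - 2 * a * a) + (a * a - a) * z + frob hF (a * a - a) * frob hF z := by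
    intro z hz
    obtain ⟨h, hh, -, hh2, hh3, -⟩ := O.dg_comp (Function.update 1 b z) r (fun i => by
      rcases eq_or_ne i b with rfl | hi <;> simp [*]) (by simp [hbr.symm])
    have hhv : h v = v + ((z - 1) * cd hF e v b) • e b := by
      refine cd_ext hF O.ortho fun i => ?_
      rw [cd_add, cd_smul, cd_frame hF O.ortho]
      rcases eq_or_ne i r with rfl | hir
      · rw [hh3 v hr, hr, if_neg hbr.symm]; simp
      rw [hh2 v i hir]
      rcases eq_or_ne i b with rfl | hib
      · rw [Function.update_self, if_pos rfl]; ring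
      · rw [Function.update_of_ne hib, if_neg hib, Pi.one_apply]; ring
    obtain ⟨h', hg1⟩ := O.tv_map hh hα
    set w := h v with hw
    set β : F := a * (frob hF z - 1) with hβ
    have hwv : hB hF n w v = (frob hF z - 1) * P := by
      rw [hhv, map_add, LinearMap.add_apply, hv, LinearMap.map_smulₛₗ, LinearMap.smul_apply,
        smul_eq_mul, zero_add, map_mul, map_sub, map_one, hP]
      simp only [cd]
      ring
    have hv' : qrefl w α h' v = (1 + β) • v + (β * (z - 1) * cd hF e v b) • e b := by
      rw [qrefl_apply, hwv, hβ, ha, hhv, smul_add, smul_smul, add_smul, one_smul, ← add_assoc]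
      congr 1
      · congr 2; ring
      · congr 1; ring
    have hN : frob hF (1 + β * z) * (1 + β * z) = frob hF (1 + β) * (1 + β) := by
      rw [hβ]
      simp only [map_add, map_one, map_mul, map_sub, frob_frob, eq_neg_of_add_eq_zero_right hat]
      linear_combination (-(a * a * (frob hF z - 1) * (z - 1))) * hz
    have hcb : cd hF e (qrefl w α h' v) b = cd hF e v b * (1 + β * z) := by
      rw [hv', cd_add, cd_smul, cd_smul, cd_frame hF O.ortho, if_pos rfl]; ring
    have ht0 : 1 + β ≠ 0 := by
      intro h0
      have h1 : 1 + β * z = 0 := by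
        have : frob hF (1 + β * z) * (1 + β * z) = 0 := by rw [hN, h0, mul_zero]
        rcases mul_eq_zero.1 this with h2 | h2
        · exact (map_eq_zero _).1 h2
        · exact h2
      have h2 : qrefl w α h' v = 0 := by
        refine cd_ext hF O.ortho fun i => ?_
        rw [cd_zero]
        rcases eq_or_ne i b with rfl | hib
        · rw [hcb, h1, mul_zero]
        · rw [hv', cd_add, cd_smul, cd_smul, cd_frame hF O.ortho, if_neg hib, h0]; ring
      rw [← LinearEquiv.map_zero (qrefl w α h')] at h2
      have := (qrefl w α h').injective h2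
      exact hb (by rw [this, cd_zero])
    have h1 : 1 + β * z ≠ 0 := by
      intro h1
      rw [h1, mul_zero] at hN
      rcases mul_eq_zero.1 hN.symm with h2 | h2
      · exact ht0 ((map_eq_zero _).1 h2)
      · exact ht0 h2
    set k : F := (1 + β) / (1 + β * z) with hk
    have hkn : frob hF k * k = 1 := by
      have : frob hF (1 + β * z) ≠ 0 := fun h0 => h1 ((map_eq_zero _).1 h0)
      rw [hk, map_div₀, div_mul_div_comm, div_eq_one_iff_eq (mul_ne_zero this h1), hN]
    obtain ⟨h2, hh2m, -, h22, h23, -⟩ := O.dg_comp (Function.update 1 b k) r (fun i => by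
      rcases eq_or_ne i b with rfl | hi
      · rw [Function.update_self]; exact hkn
      · simp [hi]) (by simp [hbr.symm])
    refine ⟨h2 * qrefl w α h', mul_mem hh2m hg1, 1 + β, cd_ext hF O.ortho fun i => ?_, ?_⟩
    · rw [LinearEquiv.mul_apply, cd_smul]
      rcases eq_or_ne i r with rfl | hir
      · rw [h23 _ (by rw [hv', cd_add, cd_smul, cd_smul, hr, cd_frame hF O.ortho, if_neg hbr.symm]; ring),
          hr, mul_zero]
      rw [h22 _ i hir]
      rcases eq_or_ne i b with rfl | hib
      · rw [Function.update_self, hcb, hk]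
        field_simp
      · rw [Function.update_of_ne hib, hv', cd_add, cd_smul, cd_smul, cd_frame hF O.ortho, if_neg hib,
          Pi.one_apply]
        ring
    · rw [hβ, hbc]
      simp only [map_add, map_one, map_mul, map_sub, frob_frob, eq_neg_of_add_eq_zero_right hat]
      linear_combination (-(a * a)) * hz
  -- the multipliers form the fixed field
  let K : AddSubgroup F :=
    { carrier := {x | frob hF x = x}
      zero_mem' := map_zero _
      add_mem' := fun {x y} hx hy => by
        show frob hF (x + y) = x + y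
        rw [map_add, hx, hy]
      neg_mem' := fun {x} hx => by
        show frob hF (-x) = -x
        rw [map_neg, hx] }
  let R : AddSubgroup F :=
    { carrier := {x | frob hF x = x ∧ ∀ γ, Tv hF L v γ → Tv hF L v (γ * x)}
      zero_mem' := ⟨map_zero _, fun γ _ => by rw [mul_zero]; exact tv_zero hF v⟩
      add_mem' := fun {x y} hx hy => ⟨by rw [map_add, hx.1, hy.1],
        fun γ hγ => by rw [mul_add]; exact tv_add hF hv (hx.2 γ hγ) (hy.2 γ hγ)⟩
      neg_mem' := fun {x} hx => ⟨by rw [map_neg, hx.1],
        fun γ hγ => by rw [mul_neg]; exact tv_neg hF hv (hx.2 γ hγ)⟩ }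
  have hRK : R ≤ K := fun x hx => hx.1
  have hsub : ((normOne hF).image fun z =>
      (1 - 2 * a * a) + (a * a - a) * z + frob hF (a * a - a) * frob hF z) ⊆
      Finset.univ.filter (· ∈ R) := by
    intro y hy
    obtain ⟨z, hz, rfl⟩ := Finset.mem_image.1 hy
    obtain ⟨g, hg, t, ht, hN⟩ := scale z ((mem_normOne hF).1 hz)
    rw [← hN, Finset.mem_filter]
    refine ⟨Finset.mem_univ _, ⟨by rw [map_mul, frob_frob]; ring, fun γ hγ => ?_⟩⟩
    exact tv_smul hF (ht ▸ O.tv_map hg hγ) hv
  have hcR : q + 1 ≤ 2 * Nat.card R := by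
    refine (card_values hF (1 - 2 * a * a) hb0).trans (Nat.mul_le_mul_left 2 ?_)
    rw [Nat.card_eq_fintype_card, Fintype.card_subtype]
    exact Finset.card_le_card hsub
  have hcK : Nat.card K ≤ q := by
    rw [Nat.card_eq_fintype_card, Fintype.card_subtype]
    refine le_trans (Finset.card_le_card fun x hx => ?_) (card_fixed_le hF)
    simp only [Finset.mem_filter, Finset.mem_univ, true_and] at hx
    exact (mem_fixed hF).2 hx
  have hRKeq : R = K := by
    refine AddSubgroup.eq_of_le_of_card_ge hRK ?_
    obtain ⟨m, hm⟩ := AddSubgroup.card_dvd_of_le hRK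
    have hpos : 0 < Nat.card K := Nat.card_pos
    rcases Nat.lt_or_ge m 2 with h | h
    · interval_cases m <;> omega
    · have := Nat.mul_le_mul_left (Nat.card R) h
      omega
  rw [centre_iff hF hv]
  intro γ hγ
  have : γ / α ∈ R := by
    rw [hRKeq]
    show frob hF (γ / α) = γ / α
    rw [map_div₀, eq_neg_of_add_eq_zero_right hγ, eq_neg_of_add_eq_zero_right hαt, neg_div_neg_eq]
  have h2 := this.2 α hα
  rwa [mul_div_cancel₀ _ hα0] at h2

end Cfsg.Lib.Linear.UDec
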